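import Cfsg.Agent.RankThreeEss.Basis

/-!
A maximal subgroup with irreducible automizer, on whose Frattini quotient the group induces a regular
unipotent element, has no two further isomorphic copies.
-/

set_option autoImplicit false

namespace Cfsg.Agent.RankThreeEss

open Subgroup
open scoped commutatorElement

variable {p : ℕ} [hp : Fact p.Prime] {X : Type*} [Group X] [Finite X] {E : Subgroup X}

/-- The standing hypotheses of the regular case. -/
structure RegData (p : ℕ) (E : Subgroup X) [E.Normal] (x : X) (e t z : E) : Prop where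
  pgroup : IsPGroup p X
  five : 5 ≤ p
  index : E.index = p
  not_mem : x ∉ E
  hyp : EHyp p e t z
  xe : Cg (MulAut.conjNormal x e) (e * t)
  xt : Cg (MulAut.conjNormal x t) (t * z)
  xz : Cg (MulAut.conjNormal x z) z
  omega : commutator E ≤ agemo p ⊤

/-- An isomorphic copy of `E` as a maximal subgroup other than `E`. -/
structure Copy (p : ℕ) (E B : Subgroup X) : Prop where
  index : B.index = p
  iso : Nonempty (E ≃* B)
  ne : B ≠ E

theorem add_pred_mul (i : ℕ) : i + (p - 1) * i = p * i := by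
  have h1 : 1 ≤ p := hp.out.pos
  conv_lhs => arg 1; rw [← one_mul i]
  rw [← add_mul, Nat.add_sub_cancel' h1]

variable [hEn : E.Normal] {x : X} {e t z : E}

theorem RegData.frattini_eq (h : RegData p E x e t z) : frattini E = agemo p (⊤ : Subgroup E) := by
  rw [frattini_eq_sup h.hyp.pgroup, sup_eq_right.2 h.omega]

theorem RegData.decomp (h : RegData p E x e t z) (g : X) :
    ∃ (a : E) (i : ℕ), g = (a : X) * x ^ i := by
  have hsup : E ⊔ zpowers x = ⊤ :=
    (isCoatom_of_index_prime h.index).2 _ (lt_of_le_of_ne le_sup_left fun e0 =>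
      h.not_mem (e0 ▸ mem_sup_right (mem_zpowers x)))
  obtain ⟨a, ha, y, hy, rfl⟩ := mem_sup_of_normal_left.1 (hsup ▸ mem_top g)
  obtain ⟨i, hi⟩ := (isOfFinOrder_of_finite x).mem_powers_iff_mem_zpowers.2 hy
  exact ⟨⟨a, ha⟩, i, congrArg (a * ·) hi.symm⟩

omit hp in
theorem Copy.commutator_le {B : Subgroup X} (hB : Copy p E B)
    (hE : commutator E ≤ agemo p (⊤ : Subgroup E)) : ⁅B, B⁆ ≤ agemo p B := by
  obtain ⟨φ⟩ := hB.iso
  have hr : (⊤ : Subgroup E).map (B.subtype.comp φ.toMonoidHom) = B := by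
    rw [← map_map, map_top_of_surjective φ.toMonoidHom φ.surjective, ← MonoidHom.range_eq_map,
      range_subtype]
  conv_lhs => rw [← hr, ← map_commutator, ← commutator_def]
  conv_rhs => rw [← hr, agemo_map]
  exact map_mono hE

theorem Copy.exists_out {B : Subgroup X} (hB : Copy p E B) (hE : E.index = p) :
    ∃ b ∈ B, b ∉ E := by
  by_contra! h
  exact hB.ne (max_eq_of_le hB.index hE h)

theorem RegData.pow_dvd (h : RegData p E x e t z) {i : ℕ} (hi : x ^ i ∈ E) : (i : ZMod p) = 0 := by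
  by_contra hne
  have h1 := h.pgroup
  have hxp : x ^ p ∈ E := h.index ▸ pow_index_mem E x
  have hcop : Nat.Coprime i p := ((Nat.Prime.coprime_iff_not_dvd hp.out).2 fun hd => hne
    ((ZMod.natCast_eq_zero_iff i p).2 hd)).symm
  refine h.not_mem ?_
  have := Nat.Coprime.gcd_eq_one hcop
  have h2 : x ^ ((Nat.gcd i p : ℕ) : ℤ) ∈ E := by
    rw [Nat.gcd_eq_gcd_ab, zpow_add, zpow_mul, zpow_mul, zpow_natCast, zpow_natCast]
    exact mul_mem (zpow_mem hi _) (zpow_mem hxp _)
  rwa [this, Nat.cast_one, zpow_one] at h2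

/-- The facts in `X / Φ(E)`. -/
theorem RegData.quot (h : RegData p E x e t z) {Y : Type*} [Group Y] [Finite Y] (π : X →* Y)
    (hπ : Function.Surjective π) (hker : π.ker = (frattini E).map E.subtype)
    (hxp : π (x ^ p) ∈ zpowers (π (z : X))) :
    (∀ a b : Y, (a * b) ^ p = a ^ p * b ^ p) ∧ (∀ a : E, π (a : X) ^ p = 1) ∧
    π (t : X) = ⁅π x, π (e : X)⁆ ∧
    (∀ (a : E) (i : ℕ), ⁅π ((a : X) * x ^ i), π (t : X)⁆ = π (z : X) ^ i) ∧
    ∀ i : ℕ, π (z : X) ^ i = 1 → (i : ZMod p) = 0 := by
  obtain ⟨hqc, hqe⟩ := h.hyp.quot_props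
  have hmem : ∀ a : E, π (a : X) = 1 ↔ a ∈ frattini E := fun a => by
    rw [← MonoidHom.mem_ker, hker]
    exact mem_map_iff_mem E.subtype_injective
  have hcg : ∀ a b : E, Cg a b → π (a : X) = π (b : X) := fun a b hab => by
    have := (hmem _).2 hab
    rwa [Subgroup.coe_mul, map_mul, Subgroup.coe_inv, map_inv, inv_mul_eq_one] at this
  have hab : ∀ a b : E, Commute (π (a : X)) (π (b : X)) := fun a b => by
    rw [commute_iff_eq, ← map_mul, ← map_mul, ← Subgroup.coe_mul, ← Subgroup.coe_mul]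
    refine hcg _ _ (QuotientGroup.eq.1 ?_)
    rw [QuotientGroup.mk_mul, QuotientGroup.mk_mul]
    exact hqc _ _
  have hexp : ∀ a : E, π (a : X) ^ p = 1 := fun a => by
    rw [← map_pow, ← SubmonoidClass.coe_pow, hmem, ← QuotientGroup.eq_one_iff, QuotientGroup.mk_pow]
    exact hqe _
  obtain ⟨xb, hxb⟩ : ∃ y, y = π x := ⟨_, rfl⟩
  obtain ⟨eb, heb⟩ : ∃ y, y = π (e : X) := ⟨_, rfl⟩
  obtain ⟨tb, htb⟩ : ∃ y, y = π (t : X) := ⟨_, rfl⟩
  obtain ⟨zb, hzb⟩ : ∃ y, y = π (z : X) := ⟨_, rfl⟩
  have ce : xb * eb * xb⁻¹ = eb * tb := by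
    have := hcg _ _ h.xe
    rwa [MulAut.conjNormal_apply, Subgroup.coe_mul, map_mul, map_mul, map_inv, map_mul, ← hxb, ← heb,
      ← htb] at this
  have ct : xb * tb * xb⁻¹ = tb * zb := by
    have := hcg _ _ h.xt
    rwa [MulAut.conjNormal_apply, Subgroup.coe_mul, map_mul, map_mul, map_inv, map_mul, ← hxb, ← hzb,
      ← htb] at this
  have cz : xb * zb * xb⁻¹ = zb := by
    have := hcg _ _ h.xz
    rwa [MulAut.conjNormal_apply, map_mul, map_mul, map_inv, ← hxb, ← hzb] at this
  have het : tb = ⁅xb, eb⁆ := by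
    rw [commutatorElement_def, ce, (heb ▸ htb ▸ hab e t : Commute eb tb).eq, mul_inv_cancel_right]
  have ktx : ⁅xb, tb⁆ = zb := by
    rw [commutatorElement_def, ct, (htb ▸ hzb ▸ hab t z : Commute tb zb).eq, mul_inv_cancel_right]
  have hgenE : ∀ a : E, π (a : X) ∈ closure ({eb, tb, zb} : Set Y) := fun a => by
    have := closure_triple_map (π.comp E.subtype).rangeRestrict (MonoidHom.rangeRestrict_surjective _)
      h.hyp.closure_eq
    have ha : (π.comp E.subtype).rangeRestrict a ∈ Subgroup.closure _ := this.symm ▸ mem_top _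
    have hm := mem_map_of_mem (π.comp E.subtype).range.subtype ha
    rw [MonoidHom.map_closure] at hm
    simpa [Set.image_insert_eq, heb, htb, hzb] using hm
  have hgenY : closure ({xb, eb, tb, zb} : Set Y) = ⊤ := by
    refine top_le_iff.1 fun y _ => ?_
    obtain ⟨g, rfl⟩ := hπ y
    obtain ⟨a, i, rfl⟩ := h.decomp g
    rw [map_mul, map_pow, ← hxb]
    exact mul_mem (closure_mono (by simp) (hgenE a)) (pow_mem (subset_closure (by simp)) i)
  have cent : ∀ w : Y, Commute w xb → Commute w eb → Commute w tb → Commute w zb →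
      ∀ g, w * g = g * w := by
    intro w w1 w2 w3 w4 g
    have hle : closure ({xb, eb, tb, zb} : Set Y) ≤ centralizer ({w} : Set Y) := by
      rw [closure_le]
      rintro y (rfl | rfl | rfl | rfl) <;> rw [SetLike.mem_coe, mem_centralizer_singleton_iff]
      exacts [w1.eq.symm, w2.eq.symm, w3.eq.symm, w4.eq.symm]
    exact (mem_centralizer_singleton_iff.1 (hle (hgenY ▸ mem_top g))).symm
  have zc : ∀ g, zb * g = g * zb := cent zb
    (show zb * xb = xb * zb from (mul_inv_eq_iff_eq_mul.1 cz).symm)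
    (hzb ▸ heb ▸ hab z e) (hzb ▸ htb ▸ hab z t) (Commute.refl _)
  set Z := zpowers zb with hZ
  set A := closure ({tb, zb} : Set Y) with hA
  have hZA : Z ≤ A := zpowers_le.2 (subset_closure (by simp))
  have hZc : ∀ w ∈ Z, ∀ g, w * g = g * w := fun w hw g => by
    obtain ⟨n, rfl⟩ := mem_zpowers_iff.1 hw
    exact ((show Commute zb g from zc g).zpow_left n).eq
  haveI hZn : Z.Normal := ⟨fun w hw g => by rwa [← hZc w hw g, mul_inv_cancel_right]⟩
  have tZ : ∀ g : Y, ⁅tb, g⁆ ∈ Z := by
    set q := QuotientGroup.mk' Z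
    intro g
    rw [← QuotientGroup.eq_one_iff, ← QuotientGroup.mk'_apply, map_commutatorElement,
      commutatorElement_eq_one_iff_mul_comm]
    have hle : closure ({xb, eb, tb, zb} : Set Y) ≤ (centralizer ({q tb} : Set _)).comap q := by
      rw [closure_le]
      rintro y (rfl | rfl | rfl | rfl) <;>
        rw [SetLike.mem_coe, mem_comap, mem_centralizer_singleton_iff]
      · rw [← map_mul, mul_inv_eq_iff_eq_mul.1 ct, map_mul, map_mul,
          show q zb = 1 from (QuotientGroup.eq_one_iff zb).2 (mem_zpowers zb), mul_one]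
      · rw [← map_mul, (heb ▸ htb ▸ hab e t : Commute y tb).eq, map_mul]
      · rw [← map_mul, (hzb ▸ htb ▸ hab z t : Commute y tb).eq, map_mul]
    exact (mem_centralizer_singleton_iff.1 (hle (hgenY ▸ mem_top g))).symm
  haveI hAn : A.Normal := ⟨fun w hw g => by
    rw [hA] at hw
    induction hw using Subgroup.closure_induction with
    | mem y hy =>
      rcases hy with rfl | rfl
      · have e1 : g * y * g⁻¹ = ⁅y, g⁆⁻¹ * y := by simp only [commutatorElement_def]; group
        rw [e1]
        exact mul_mem (inv_mem (hZA (tZ g))) (subset_closure (by simp))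
      · rw [← zc g, mul_inv_cancel_right]
        exact subset_closure (by simp)
    | one => simp
    | mul a b _ _ ha hb =>
      have := mul_mem ha hb
      rwa [show g * a * g⁻¹ * (g * b * g⁻¹) = g * (a * b) * g⁻¹ by group] at this
    | inv a _ ha =>
      have := inv_mem ha
      rwa [show (g * a * g⁻¹)⁻¹ = g * a⁻¹ * g⁻¹ by group] at this⟩
  have hcA : ∀ g k : Y, ⁅g, k⁆ ∈ A := by
    set q := QuotientGroup.mk' A
    have qt : q tb = 1 := (QuotientGroup.eq_one_iff tb).2 (subset_closure (by simp))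
    have qz : q zb = 1 := (QuotientGroup.eq_one_iff zb).2 (subset_closure (by simp))
    have qxe : q xb * q eb = q eb * q xb := by
      rw [← commutatorElement_eq_one_iff_mul_comm, ← map_commutatorElement, ← het, qt]
    have hc : ∀ a b : Y ⧸ A, a * b = b * a := by
      have hgen : closure ({q xb, q eb} : Set (Y ⧸ A)) = ⊤ := by
        refine top_le_iff.1 ?_
        rw [← map_top_of_surjective q (QuotientGroup.mk'_surjective A), ← hgenY, MonoidHom.map_closure,
          closure_le]
        rintro _ ⟨y, hy, rfl⟩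
        rcases hy with rfl | rfl | rfl | rfl
        exacts [subset_closure (by simp), subset_closure (by simp), qt ▸ one_mem _, qz ▸ one_mem _]
      haveI : IsMulCommutative (closure ({q xb, q eb} : Set (Y ⧸ A))) :=
        isMulCommutative_closure (by
          rintro a (rfl | rfl) b (rfl | rfl)
          exacts [rfl, qxe, qxe.symm, rfl])
      exact fun a b => congrArg Subtype.val (mul_comm'
        (⟨a, hgen ▸ mem_top a⟩ : Subgroup.closure ({q xb, q eb} : Set (Y ⧸ A))) ⟨b, hgen ▸ mem_top b⟩)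
    intro g k
    rw [← QuotientGroup.eq_one_iff, ← QuotientGroup.mk'_apply, map_commutatorElement,
      commutatorElement_eq_one_iff_mul_comm]
    exact hc _ _
  have hAB : ∀ a ∈ A, ∀ g, ⁅a, g⁆ ∈ Z := by
    intro a ha g
    induction ha using Subgroup.closure_induction generalizing g with
    | mem y hy =>
      rcases hy with rfl | rfl
      exacts [tZ g, by rw [commutatorElement_eq_one_iff_mul_comm.2 (zc g)]; exact one_mem _]
    | one => rw [commutatorElement_one_left]; exact one_mem _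
    | mul a b _ _ ha hb =>
      rw [show ⁅a * b, g⁆ = a * ⁅b, g⁆ * a⁻¹ * ⁅a, g⁆ by simp only [commutatorElement_def]; group]
      exact mul_mem (hZn.conj_mem _ (hb g) a) (ha g)
    | inv a _ ha =>
      rw [show ⁅a⁻¹, g⁆ = a⁻¹ * ⁅a, g⁆⁻¹ * a⁻¹⁻¹ by simp only [commutatorElement_def]; group]
      exact hZn.conj_mem _ (inv_mem (ha g)) _
  have hAexp : ∀ a ∈ A, a ^ p = 1 := by
    intro a ha
    have : A ≤ (⊤ : Subgroup E).map (π.comp E.subtype) := by
      rw [hA, closure_le]
      rintro y (rfl | rfl)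
      exacts [⟨t, trivial, htb.symm⟩, ⟨z, trivial, hzb.symm⟩]
    obtain ⟨b, -, rfl⟩ := this ha
    exact hexp b
  refine ⟨mul_pow_p (h.pgroup.of_surjective π hπ) h.five hcA hAB
    (fun b hb g => commutatorElement_eq_one_iff_mul_comm.2 (hZc b hb g)) hAexp, hexp, ?_, ?_, ?_⟩
  · rw [← htb, ← hxb, ← heb]; exact het
  · intro a i
    rw [← htb, ← hzb, map_mul, map_pow, ← hxb]
    have hxi : ∀ n : ℕ, ⁅xb ^ n, tb⁆ = zb ^ n := fun n => by
      induction n with
      | zero => simp
      | succ n ih =>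
        rw [pow_succ, comm_mul_left_of _ _ _ (fun g => by rw [ktx]; exact zc g), ih, ktx, pow_succ]
    rw [comm_mul_left_of _ _ _ (fun g => by
        rw [hxi]; exact ((show Commute zb g from zc g).pow_left i).eq),
      hxi, commutatorElement_eq_one_iff_mul_comm.2 (htb ▸ hab a t : Commute (π (a : X)) tb).eq, one_mul]
  · intro i hi
    rw [← map_pow, ← SubmonoidClass.coe_pow, hmem] at hi
    exact (h.hyp.indep (i := 0) (j := 0) (l := i) (by simpa using hi)).2.2

/-- The `p`-th powers of a copy do not lie in the Frattini subgroup of `E`. -/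
theorem RegData.copy_false (h : RegData p E x e t z) {B : Subgroup X} (hB : Copy p E B)
    (hxp : ∀ [((frattini E).map E.subtype).Normal],
      QuotientGroup.mk' ((frattini E).map E.subtype) (x ^ p) ∈
        zpowers (QuotientGroup.mk' ((frattini E).map E.subtype) (z : X)))
    (hag : agemo p B ≤ (frattini E).map E.subtype) : False := by
  set π := QuotientGroup.mk' ((frattini E).map E.subtype) with hπ
  obtain ⟨-, -, het, hm, hz⟩ :=
    h.quot π (QuotientGroup.mk'_surjective _) (QuotientGroup.ker_mk' _) hxp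
  obtain ⟨hBn, hBc, hBp⟩ := max_props h.pgroup hB.index
  obtain ⟨b, hb, hbE⟩ := hB.exists_out h.index
  obtain ⟨a, i, rfl⟩ := h.decomp b
  have hker : ∀ c, π c = 1 → c ∈ B := by
    intro c hc
    rw [hπ, QuotientGroup.mk'_apply, QuotientGroup.eq_one_iff, h.frattini_eq, ← agemo_map] at hc
    exact (agemo_le_iff.2 fun y _ => hBp y) hc
  have htB : (t : X) ∈ B := by
    have h1 : ⁅x, (e : X)⁆⁻¹ * (t : X) ∈ B := hker _ (by
      rw [map_mul, map_inv, map_commutatorElement, ← het, inv_mul_cancel])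
    have := mul_mem (hBc x e) h1
    rwa [mul_inv_cancel_left] at this
  have h1 : π ⁅(a : X) * x ^ i, (t : X)⁆ = 1 := by
    rw [hπ, QuotientGroup.mk'_apply, QuotientGroup.eq_one_iff]
    exact hag (hB.commutator_le h.omega (commutator_mem_commutator hb htB))
  rw [map_commutatorElement, hm] at h1
  refine hbE (mul_mem a.2 ?_)
  obtain ⟨k, rfl⟩ := (ZMod.natCast_eq_zero_iff i p).1 (hz i h1)
  rw [pow_mul]
  exact pow_mem (h.index ▸ pow_index_mem E x) k

/-- The normalised regular case. -/
theorem RegData.false_norm (h : RegData p E x e t z) (A : Set (MulAut E))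
    (irr : ∀ W : Subgroup E, frattini E ≤ W → (∀ α ∈ A, ∀ w ∈ W, α w ∈ W) →
      W = frattini E ∨ W = ⊤)
    (hzx : (z : X) = x ^ p) (htx : (t : X) = ⁅x, (e : X)⁆)
    {B1 B2 : Subgroup X} (hB1 : Copy p E B1) (hB2 : Copy p E B2) (hne : B1 ≠ B2) : False := by
  haveI := h.hyp.pgroup.isNilpotent
  haveI : NeZero p := ⟨hp.out.ne_zero⟩
  set F := frattini E with hF
  haveI : (agemo p F).Normal := agemo_normal F
  set N2 : Subgroup E := agemo p F ⊔ ⁅F, (⊤ : Subgroup E)⁆ with hN2
  haveI : N2.Normal := sup_normal _ _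
  haveI hN2c : N2.Characteristic := characteristic_iff_map_eq.2 fun α => by
    rw [hN2, Subgroup.map_sup, ← agemo_map, map_commutator,
      characteristic_iff_map_eq.1 inferInstance α, map_top_of_surjective α.toMonoidHom α.surjective]
  have hN2F : N2 ≤ F := sup_le (agemo_le_iff.2 fun a ha => pow_mem ha p)
    (commutator_le.2 fun a ha b _ => by
      rw [commutatorElement_def]
      have : b * a⁻¹ * b⁻¹ ∈ F := Normal.conj_mem inferInstance _ (inv_mem ha) b
      simpa [mul_assoc] using mul_mem ha this)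
  have hchar : ∀ α : MulAut E, N2.map α.toMonoidHom = N2 := fun α =>
    characteristic_iff_map_eq.1 hN2c α
  set q2 := QuotientGroup.mk' N2 with hq2
  have hq2s : Function.Surjective q2 := QuotientGroup.mk'_surjective N2
  have hFc : ∀ f ∈ F, ∀ g, q2 f * g = g * q2 f := fun f hf g => by
    obtain ⟨g, rfl⟩ := hq2s g
    rw [← commutatorElement_eq_one_iff_mul_comm, ← map_commutatorElement, hq2, QuotientGroup.mk'_apply,
      QuotientGroup.eq_one_iff]
    exact mem_sup_right (commutator_mem_commutator hf (mem_top g))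
  have hCC : CommCentral (E ⧸ N2) := fun a b g => by
    obtain ⟨a, rfl⟩ := hq2s a
    obtain ⟨b, rfl⟩ := hq2s b
    rw [← map_commutatorElement]
    exact hFc _ (Core.commutator_le_frattini (commutator_mem_commutator (mem_top a) (mem_top b))) g
  have hFexp : ∀ f ∈ F, q2 f ^ p = 1 := fun f hf => by
    rw [← map_pow, hq2, QuotientGroup.mk'_apply, QuotientGroup.eq_one_iff]
    exact mem_sup_left (pow_mem_agemo hf)
  have mulp : ∀ a b : E ⧸ N2, (a * b) ^ p = a ^ p * b ^ p := by
    refine mul_pow_p (h.hyp.pgroup.to_quotient N2) h.five (A := F.map q2) (B := ⊥) ?_ ?_ ?_ ?_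
    · intro a b
      obtain ⟨a, rfl⟩ := hq2s a
      obtain ⟨b, rfl⟩ := hq2s b
      rw [← map_commutatorElement]
      exact mem_map_of_mem q2
        (Core.commutator_le_frattini (commutator_mem_commutator (mem_top a) (mem_top b)))
    · rintro _ ⟨f, hf, rfl⟩ g
      rw [commutatorElement_eq_one_iff_mul_comm.2 (hFc f hf g)]
      exact one_mem _
    · intro b hb g
      rw [mem_bot.1 hb, commutatorElement_one_left]
    · rintro _ ⟨f, hf, rfl⟩
      exact hFexp f hf
  -- the power map is injective modulo the Frattini subgroup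
  have θinj : ∀ a : E, q2 a ^ p = 1 → a ∈ F := by
    set W := ((powHom mulp).comp q2).ker with hW
    have hFW : F ≤ W := fun f hf => hFexp f hf
    rcases irr W hFW (fun α _ w hw => by
      have e0 : q2 w ^ p = 1 := hw
      show q2 (α w) ^ p = 1
      rw [← qAut_mk N2 α (hchar α), ← map_pow, e0, map_one]) with hW1 | hW1
    · exact fun a ha => hW1 ▸ (show a ∈ W from ha)
    · exfalso
      have hFN : F ≤ N2 := h.frattini_eq.le.trans (agemo_le_iff.2 fun a _ => by
        rw [← QuotientGroup.eq_one_iff, QuotientGroup.mk_pow]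
        exact (show a ∈ W from hW1 ▸ mem_top a))
      have hFA : F ≤ agemo p F := le_of_le_sup_commutator hFN
      have hF0 : F = ⊥ := by
        by_contra hne0
        haveI := (nontrivial_iff_ne_bot F).2 hne0
        obtain ⟨M, hM, -⟩ := (eq_top_or_exists_le_coatom (⊥ : Subgroup F)).resolve_left bot_ne_top
        obtain ⟨-, hMi⟩ := Core.index_eq_of_isCoatom (h.hyp.pgroup.to_subgroup F) hM
        obtain ⟨-, -, hMp⟩ := max_props (h.hyp.pgroup.to_subgroup F) hMi
        have hle : agemo p F ≤ M.map F.subtype :=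
          agemo_le_iff.2 fun a ha => ⟨⟨a, ha⟩ ^ p, hMp _, rfl⟩
        refine hM.1 (map_injective F.subtype_injective (le_antisymm
          ((map_subtype_le _).trans (by rw [← MonoidHom.range_eq_map, range_subtype])) ?_))
        rw [← MonoidHom.range_eq_map, range_subtype]
        exact hFA.trans hle
      haveI : ((frattini E).map E.subtype).Normal := inferInstance
      refine h.copy_false hB1 (fun {_} => by rw [← hzx]; exact mem_zpowers _) ?_
      obtain ⟨φ⟩ := hB1.iso
      rw [agemo_le_iff]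
      intro b hb
      obtain ⟨a, ha⟩ := φ.surjective ⟨b, hb⟩
      have hap : a ^ p = 1 := by
        rw [← mem_bot, ← hF0, hF, h.frattini_eq]
        exact pow_mem_agemo (mem_top a)
      have : (⟨b, hb⟩ : B1) ^ p = 1 := by rw [← ha, ← map_pow, hap, map_one]
      rw [show b ^ p = 1 from congrArg Subtype.val this]
      exact one_mem _
  -- values of the power map
  have cgp : ∀ a b : E, Cg a b → q2 a ^ p = q2 b ^ p := fun a b hab => by
    conv_rhs => rw [← mul_inv_cancel_left a b, map_mul, mulp, hFexp _ hab, mul_one]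
  have hθ : ∀ f ∈ F, ∃ v : E, q2 f = q2 v ^ p := by
    intro f hf
    rw [hF, h.frattini_eq] at hf
    obtain ⟨v, hv⟩ : q2 f ∈ ((powHom mulp).comp q2).range :=
      (agemo_le_iff.2 fun a _ => mem_comap.2 ⟨a, (map_pow q2 a p).symm⟩ :
        agemo p (⊤ : Subgroup E) ≤ ((powHom mulp).comp q2).range.comap q2) hf
    exact ⟨v, hv.symm⟩
  set σ := qAut N2 (MulAut.conjNormal x) (hchar _) with hσd
  have hσ : ∀ a, σ (q2 a) = q2 (MulAut.conjNormal x a) := fun a => qAut_mk _ _ _ a
  obtain ⟨e', he'⟩ : ∃ y, y = q2 e := ⟨_, rfl⟩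
  obtain ⟨t', ht'⟩ : ∃ y, y = q2 t := ⟨_, rfl⟩
  obtain ⟨z', hz'⟩ : ∃ y, y = q2 z := ⟨_, rfl⟩
  have σe : σ e' = t' * e' := by
    rw [he', ht', hσ, ← map_mul]
    congr 1
    apply Subtype.ext
    rw [MulAut.conjNormal_apply, Subgroup.coe_mul, htx, commutatorElement_def, inv_mul_cancel_right]
  have σz : σ z' = z' := by
    rw [hz', hσ]
    congr 1
    apply Subtype.ext
    rw [MulAut.conjNormal_apply, hzx, ← pow_succ', pow_succ, mul_inv_cancel_right]
  obtain ⟨φ, hφF, hφt⟩ : ∃ φ ∈ F, MulAut.conjNormal x t = z * φ * t := by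
    refine ⟨z⁻¹ * MulAut.conjNormal x t * t⁻¹, ?_, by group⟩
    rw [hF, ← QuotientGroup.eq_one_iff, QuotientGroup.mk_mul, QuotientGroup.mk_mul,
      QuotientGroup.eq.2 h.xt, QuotientGroup.mk_mul, QuotientGroup.mk_inv, QuotientGroup.mk_inv,
      h.hyp.quot_props.1 (↑t) (↑z)]
    group
  obtain ⟨v, hv⟩ := hθ φ hφF
  have vc : ∀ g, q2 v ^ p * g = g * q2 v ^ p := hv ▸ hFc φ hφF
  have σt : σ t' = z' * q2 v ^ p * t' := by
    rw [ht', hz', hσ, hφt, map_mul, map_mul, hv]
  -- the value of the commutator of `z` and `t`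
  have hzt : ⁅z', t'⁆ = z' ^ p := by
    have hWmem : ∀ n : ℕ, ((v : X) * x) ^ n * (x ^ n)⁻¹ ∈ E := fun n => by
      induction n with
      | zero => simp
      | succ n ih =>
        rw [show ((v : X) * x) ^ (n + 1) * (x ^ (n + 1))⁻¹ =
          (v : X) * (x * (((v : X) * x) ^ n * (x ^ n)⁻¹) * x⁻¹) by
          rw [pow_succ' _ n, pow_succ x n]; group]
        exact mul_mem v.2 (hEn.conj_mem _ ih x)
    let Wn : ℕ → E := fun n => ⟨_, hWmem n⟩
    have hW1 : ∀ n, Wn (n + 1) = v * MulAut.conjNormal x (Wn n) := fun n => by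
      apply Subtype.ext
      rw [Subgroup.coe_mul, MulAut.conjNormal_apply]
      show ((v : X) * x) ^ (n + 1) * (x ^ (n + 1))⁻¹ =
        (v : X) * (x * (((v : X) * x) ^ n * (x ^ n)⁻¹) * x⁻¹)
      rw [pow_succ' _ n, pow_succ x n, mul_inv_rev]
      simp only [mul_assoc]
      rw [← mul_inv_rev, ← pow_succ, pow_succ', mul_inv_rev]
    have hWc : ∀ n g, q2 (Wn n) ^ p * g = g * q2 (Wn n) ^ p := fun n g => by
      rw [← map_pow]
      exact hFc _ (Core.pow_mem_frattini h.hyp.pgroup _) g
    have hit : ∀ n : ℕ, (σ ^ n) t' = z' ^ n * q2 (Wn n) ^ p * t' := fun n => by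
      induction n with
      | zero =>
        have : Wn 0 = 1 := Subtype.ext (by simp [Wn])
        simp [this]
      | succ n ih =>
        rw [pow_succ' σ n, MulAut.mul_apply, ih, map_mul, map_mul, map_pow, map_pow, σz, σt, hσ, hW1,
          map_mul, mulp, mul_assoc (z' ^ n), ← mul_assoc (q2 _ ^ p) (z' * q2 v ^ p),
          ← mul_assoc (q2 _ ^ p) z', (show q2 (MulAut.conjNormal x (Wn n)) ^ p * z' =
            z' * q2 (MulAut.conjNormal x (Wn n)) ^ p by
            rw [← map_pow]; exact hFc _ (Core.pow_mem_frattini h.hyp.pgroup _) _),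
          mul_assoc z', ← vc, pow_succ]
        simp only [mul_assoc]
    have hσn : ∀ (n : ℕ) (a : E), (σ ^ n) (q2 a) = q2 (MulAut.conjNormal (x ^ n) a) := fun n => by
      induction n with
      | zero => intro a; simp
      | succ n ih =>
        intro a
        rw [pow_succ', MulAut.mul_apply, ih, hσ, pow_succ' x, map_mul, MulAut.mul_apply]
    have e1 : (σ ^ p) t' = z' * t' * z'⁻¹ := by
      rw [ht', hσn, hz', ← map_inv, ← map_mul, ← map_mul]
      congr 1
      apply Subtype.ext
      rw [MulAut.conjNormal_apply, Subgroup.coe_mul, Subgroup.coe_mul, Subgroup.coe_inv, hzx]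
    have hWp : Wn p ∈ F := by
      set π := QuotientGroup.mk' ((frattini E).map E.subtype) with hπ
      obtain ⟨hmul, hexp, -⟩ := h.quot π (QuotientGroup.mk'_surjective _) (QuotientGroup.ker_mk' _)
        (by rw [← hzx]; exact mem_zpowers _)
      have : π ((Wn p : E) : X) = 1 := by
        show π (((v : X) * x) ^ p * (x ^ p)⁻¹) = 1
        rw [map_mul, map_pow, map_mul, hmul, hexp, one_mul, map_inv, map_pow, mul_inv_cancel]
      rw [hπ, QuotientGroup.mk'_apply, QuotientGroup.eq_one_iff] at this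
      exact (mem_map_iff_mem E.subtype_injective).1 this
    rw [hit, hFexp _ hWp, mul_one] at e1
    rw [commutatorElement_def, ← e1, mul_inv_cancel_right]
  -- coordinates
  have hcent : ∀ a : E, ∀ g, q2 a ^ p * g = g * q2 a ^ p := fun a g => by
    rw [← map_pow]; exact hFc _ (Core.pow_mem_frattini h.hyp.pgroup _) g
  have pw : ∀ (a : E) (n : ℕ), q2 (a ^ n) ^ p = (q2 a ^ p) ^ n := fun a n => by
    rw [map_pow, ← pow_mul, ← pow_mul, mul_comm]
  obtain ⟨g, hg⟩ := hθ ⁅e, t⁆
    (Core.commutator_le_frattini (commutator_mem_commutator (mem_top e) (mem_top t)))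
  rw [map_commutatorElement, ← he', ← ht'] at hg
  obtain ⟨a, b, c, habc⟩ := h.hyp.coords g
  have hg2 : ⁅e', t'⁆ = (e' ^ p) ^ a * (t' ^ p) ^ b * (z' ^ p) ^ c := by
    rw [hg, cgp _ _ habc, map_mul, map_mul, mulp, mulp, pw, pw, pw, he', ht', hz']
  obtain ⟨L, hL⟩ : ∃ L, L = ⁅t', z'⁆ * ⁅e', z'⁆ := ⟨_, rfl⟩
  have comm_vc : ∀ u : E ⧸ N2, ⁅u, q2 v ^ p⁆ = 1 := fun u =>
    commutatorElement_eq_one_iff_mul_comm.2 (vc u).symm
  have σtp : σ (t' ^ p) = z' ^ p * t' ^ p := by
    rw [map_pow, σt, mulp, mulp, show (q2 v ^ p) ^ p = 1 by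
      rw [← map_pow]; exact hFexp _ (Core.pow_mem_frattini h.hyp.pgroup _), mul_one]
  have σep : σ (e' ^ p) = t' ^ p * e' ^ p := by rw [map_pow, σe, mulp]
  have cc : ∀ (u w : E) (m n : ℕ), Commute ((q2 u ^ p) ^ m) ((q2 w ^ p) ^ n) := fun u w m n =>
    (show Commute (q2 u ^ p) (q2 w ^ p) from hcent u _).pow_pow m n
  have hLv : L = (t' ^ p) ^ a * (z' ^ p) ^ b := by
    have e1 : σ ⁅e', t'⁆ = L * ⁅e', t'⁆ := by
      rw [map_commutatorElement, σe, σt, hCC.mul_left, hCC.mul_right, hCC.mul_right, hCC.mul_right,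
        hCC.mul_right, comm_vc, comm_vc, mul_one, mul_one, commutatorElement_self, mul_one, hL,
        mul_assoc]
    have e2 : σ ⁅e', t'⁆ = (t' ^ p) ^ a * (z' ^ p) ^ b * ⁅e', t'⁆ := by
      rw [hg2, map_mul, map_mul, map_pow, map_pow σ (t' ^ p), map_pow σ (z' ^ p), σep, σtp,
        map_pow σ z', σz, (show Commute (t' ^ p) (e' ^ p) from ht' ▸ hcent t _).mul_pow,
        (show Commute (z' ^ p) (t' ^ p) from hz' ▸ hcent z _).mul_pow]
      rw [ht', hz', he']
      simp only [mul_assoc]
      rw [(cc e z a b).left_comm]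
    exact mul_right_cancel (e1.symm.trans e2)
  have htz : ⁅t', z'⁆ = (z' ^ p) ^ a := by
    have e1 : σ L = ⁅t', z'⁆ * L := by
      rw [hL, map_mul, map_commutatorElement, map_commutatorElement, σt, σe, σz, hCC.mul_left,
        hCC.mul_left, hCC.mul_left, commutatorElement_self, one_mul,
        commutatorElement_eq_one_iff_mul_comm.2 (vc z'), one_mul]
    have e2 : σ L = (z' ^ p) ^ a * L := by
      rw [hLv, map_mul, map_pow, map_pow σ (z' ^ p), σtp, map_pow σ z', σz,
        (show Commute (z' ^ p) (t' ^ p) from hz' ▸ hcent z _).mul_pow, mul_assoc]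
    exact mul_right_cancel (e1.symm.trans e2)
  have ha : (a : ZMod p) = -1 := by
    have e1 : (z' ^ p) ^ (a + 1) = 1 := by
      rw [pow_succ, ← htz, ← hzt, ← commutatorElement_inv z' t', inv_mul_cancel]
    rw [hz', ← pw] at e1
    have := (h.hyp.indep (i := 0) (j := 0) (l := a + 1) (by simpa using θinj _ e1)).2.2
    rw [Nat.cast_add, Nat.cast_one] at this
    exact eq_neg_of_add_eq_zero_left this
  set K0 := closure ({t' ^ p, z' ^ p} : Set (E ⧸ N2)) with hK0
  have mt : t' ^ p ∈ K0 := subset_closure (by simp)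
  have mz : z' ^ p ∈ K0 := subset_closure (by simp)
  have ktz : ⁅t', z'⁆ ∈ K0 := htz ▸ pow_mem mz a
  have kez : ⁅e', z'⁆ ∈ K0 := by
    have : L ∈ K0 := hLv ▸ mul_mem (pow_mem mt a) (pow_mem mz b)
    rw [hL] at this
    have h2 := mul_mem (inv_mem ktz) this
    rwa [inv_mul_cancel_left] at h2
  have ket : ((e' ^ p) ^ a)⁻¹ * ⁅e', t'⁆ ∈ K0 := by
    rw [hg2, mul_assoc, inv_mul_cancel_left]
    exact mul_mem (pow_mem mt b) (pow_mem mz c)
  obtain ⟨r, r2, r3, hr⟩ := h.hyp.coords v
  have kφ : ((e' ^ p) ^ r)⁻¹ * q2 φ ∈ K0 := by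
    rw [hv, cgp _ _ hr, map_mul, map_mul, mulp, mulp, pw, pw, pw, ← he', ← ht', ← hz', mul_assoc,
      inv_mul_cancel_left]
    exact mul_mem (pow_mem mt r2) (pow_mem mz r3)
  have hK0indep : ∀ n : ℕ, (e' ^ p) ^ n ∈ K0 → (n : ZMod p) = 0 := by
    intro n hn
    have hle : K0 ≤ (closure ({t, z} : Set E)).map ((powHom mulp).comp q2) := by
      rw [hK0, closure_le]
      rintro y (rfl | rfl)
      exacts [⟨t, subset_closure (by simp), by rw [ht']; rfl⟩,
        ⟨z, subset_closure (by simp), by rw [hz']; rfl⟩]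
    obtain ⟨d, hd, hde⟩ := hle hn
    rw [he', ← pw] at hde
    have hmem : e ^ n * d⁻¹ ∈ F := θinj _ (by
      rw [map_mul, mulp, map_inv, inv_pow]
      exact mul_inv_eq_one.2 hde.symm)
    obtain ⟨hc0, he0⟩ := h.hyp.quot_props
    have hd' : (d : E ⧸ F) ∈ closure ({(t : E ⧸ F), (z : E ⧸ F), 1} : Set (E ⧸ F)) := by
      have := mem_map_of_mem (QuotientGroup.mk' F) hd
      rw [MonoidHom.map_closure, Set.image_pair] at this
      exact closure_mono (by intro y; simp only [Set.mem_insert_iff, Set.mem_singleton_iff,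
        QuotientGroup.mk'_apply]; tauto) this
    obtain ⟨i, j, l, hij⟩ := closure_three_coords he0 hc0 hd'
    rw [one_pow, mul_one] at hij
    have hmem2 : (e : E ⧸ F) ^ n = (t : E ⧸ F) ^ i * (z : E ⧸ F) ^ j := by
      rw [← hij, ← QuotientGroup.mk_pow, QuotientGroup.eq]
      have := Normal.conj_mem (inferInstance : F.Normal) _ (inv_mem hmem) (e ^ n)⁻¹
      simpa [mul_assoc] using this
    refine (h.hyp.indep (i := n) (j := (p - 1) * i) (l := (p - 1) * j) ?_).1
    rw [← QuotientGroup.eq_one_iff, QuotientGroup.mk_mul, QuotientGroup.mk_mul, QuotientGroup.mk_pow,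
      QuotientGroup.mk_pow, QuotientGroup.mk_pow, hmem2, mul_assoc,
      (show Commute ((z : E ⧸ F) ^ j) ((t : E ⧸ F) ^ ((p - 1) * i)) from hc0 _ _).mul_mul_mul_comm]
    have ht0 : ∀ (u : E ⧸ F) (m : ℕ), u ^ m * u ^ ((p - 1) * m) = 1 := fun u m => by
      rw [← pow_add, add_pred_mul, pow_mul, he0, one_pow]
    erw [ht0, ht0, mul_one]
  -- push everything to `X / K`
  haveI : (N2.map E.subtype).Normal := inferInstance
  set K : Subgroup X := (K0.comap q2).map E.subtype with hK
  have hK0c : ∀ u ∈ K0, ∀ g, u * g = g * u := by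
    intro u hu g
    induction hu using Subgroup.closure_induction with
    | mem y hy => rcases hy with rfl | rfl; exacts [ht' ▸ hcent t g, hz' ▸ hcent z g]
    | one => simp
    | mul a b _ _ iha ihb => rw [mul_assoc, ihb, ← mul_assoc, iha, mul_assoc]
    | inv a _ iha => exact (show Commute a g from iha).inv_left.eq
  haveI hKn : K.Normal := by
    refine ⟨fun n hn g => ?_⟩
    obtain ⟨n, hn, rfl⟩ := hn
    obtain ⟨a', i, rfl⟩ := h.decomp g
    have hx : ∀ (i : ℕ) (n : E), n ∈ K0.comap q2 → MulAut.conjNormal (x ^ i) n ∈ K0.comap q2 := by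
      intro i
      induction i with
      | zero => intro n hn; simpa using hn
      | succ i ih =>
        intro n hn
        rw [pow_succ', map_mul, MulAut.mul_apply, mem_comap, ← hσ]
        have hle : K0 ≤ K0.comap σ.toMonoidHom := by
          conv_lhs => rw [hK0]
          rw [closure_le]
          rintro y (rfl | rfl)
          · show σ (t' ^ p) ∈ K0
            rw [σtp]; exact mul_mem mz mt
          · show σ (z' ^ p) ∈ K0
            rw [map_pow, σz]; exact mz
        exact hle (ih n hn)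
    refine ⟨a' * MulAut.conjNormal (x ^ i) n * a'⁻¹, ?_, ?_⟩
    · rw [SetLike.mem_coe, mem_comap, map_mul, map_mul, map_inv, ← hK0c _ (hx i n hn),
        mul_inv_cancel_right]
      exact hx i n hn
    · rw [Subgroup.coe_subtype, Subgroup.coe_mul, Subgroup.coe_mul, MulAut.conjNormal_apply,
        Subgroup.coe_inv]
      group
  set q := QuotientGroup.mk' K with hq
  have hqs : Function.Surjective q := QuotientGroup.mk'_surjective K
  have tr : ∀ u w : E, (q2 u)⁻¹ * q2 w ∈ K0 → q (u : X) = q (w : X) := fun u w huw => by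
    rw [hq, QuotientGroup.mk'_apply, QuotientGroup.mk'_apply, QuotientGroup.eq]
    exact ⟨u⁻¹ * w, by rwa [SetLike.mem_coe, mem_comap, map_mul, map_inv], rfl⟩
  have tr1 : ∀ u : E, q2 u ∈ K0 → q (u : X) = 1 := fun u hu => by
    rw [← map_one q, ← OneMemClass.coe_one E]
    exact tr u 1 (by rw [map_one, mul_one]; exact inv_mem hu)
  obtain ⟨xh, hxh⟩ : ∃ y, y = q x := ⟨_, rfl⟩
  obtain ⟨eh, heh⟩ : ∃ y, y = q (e : X) := ⟨_, rfl⟩
  obtain ⟨th, hth⟩ : ∃ y, y = q (t : X) := ⟨_, rfl⟩
  obtain ⟨zh, hzh⟩ : ∃ y, y = q (z : X) := ⟨_, rfl⟩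
  obtain ⟨wh, hwh⟩ : ∃ y, y = eh ^ p := ⟨_, rfl⟩
  have kxe : ⁅xh, eh⁆ = th := by rw [hth, htx, map_commutatorElement, hxh, heh]
  have zxp : zh = xh ^ p := by rw [hzh, hzx, map_pow, hxh]
  have tp : th ^ p = 1 := by
    rw [hth, ← map_pow, ← SubmonoidClass.coe_pow]; exact tr1 _ (by rw [map_pow, ← ht']; exact mt)
  have zp : zh ^ p = 1 := by
    rw [hzh, ← map_pow, ← SubmonoidClass.coe_pow]; exact tr1 _ (by rw [map_pow, ← hz']; exact mz)
  have cg_comm : ∀ u w : E, ⁅q2 u, q2 w⁆ ∈ K0 → Commute (q (u : X)) (q (w : X)) := fun u w huw => by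
    have := tr1 ⁅u, w⁆ (by rwa [map_commutatorElement])
    rw [show ((⁅u, w⁆ : E) : X) = ⁅(u : X), (w : X)⁆ from rfl, map_commutatorElement] at this
    exact commutatorElement_eq_one_iff_mul_comm.1 this
  have czt : Commute th zh := hth ▸ hzh ▸ cg_comm t z (ht' ▸ hz' ▸ ktz)
  have cze : Commute eh zh := heh ▸ hzh ▸ cg_comm e z (he' ▸ hz' ▸ kez)
  have cwE : ∀ u : E, Commute wh (q (u : X)) := fun u => by
    rw [hwh, heh, ← map_pow, ← SubmonoidClass.coe_pow]
    refine cg_comm _ _ ?_
    rw [map_pow, commutatorElement_eq_one_iff_mul_comm.2 (hcent e _)]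
    exact one_mem _
  have kxw : Commute xh wh := by
    have h1 : q ((MulAut.conjNormal x (e ^ p) : E) : X) = q ((e ^ p : E) : X) := tr _ _ (by
      rw [← hσ, map_pow, ← he', σep, mul_inv_rev, mul_assoc,
        hK0c _ (inv_mem mt) (e' ^ p), inv_mul_cancel_left]
      exact inv_mem mt)
    rw [MulAut.conjNormal_apply, map_mul, map_mul, map_inv, SubmonoidClass.coe_pow, map_pow,
      ← hxh, ← heh, ← hwh, mul_inv_eq_iff_eq_mul] at h1
    exact h1
  have kxt : ⁅xh, th⁆ = zh * wh ^ r := by
    have h1 : q ((MulAut.conjNormal x t : E) : X) = q ((z * (e ^ p) ^ r * t : E) : X) := tr _ _ (by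
      have h2 := inv_mem kφ
      rw [mul_inv_rev, inv_inv] at h2
      rw [hφt, map_mul, map_mul, map_mul, map_mul, map_pow, map_pow, ← hz', ← ht', ← he']
      rw [show (z' * q2 φ * t')⁻¹ * (z' * (e' ^ p) ^ r * t') =
        t'⁻¹ * ((q2 φ)⁻¹ * (e' ^ p) ^ r) * t' by group, mul_assoc,
        hK0c _ h2, inv_mul_cancel_left]
      exact h2)
    rw [MulAut.conjNormal_apply, map_mul, map_mul, map_inv, Subgroup.coe_mul, Subgroup.coe_mul,
      map_mul, map_mul, SubmonoidClass.coe_pow, SubmonoidClass.coe_pow, map_pow, map_pow,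
      ← hxh, ← hth, ← hzh, ← heh, ← hwh] at h1
    rw [commutatorElement_def, h1, mul_inv_cancel_right]
  have ket2 : ⁅eh, th⁆ = wh ^ a := by
    have h1 := tr ((e ^ p) ^ a) ⁅e, t⁆ (by
      rw [map_pow, map_pow, map_commutatorElement, ← he', ← ht']; exact ket)
    rw [show ((⁅e, t⁆ : E) : X) = ⁅(e : X), (t : X)⁆ from rfl, map_commutatorElement,
      SubmonoidClass.coe_pow, SubmonoidClass.coe_pow, map_pow, map_pow, ← heh, ← hth, ← hwh] at h1
    exact h1.symm
  have hgenY : closure ({xh, eh, th, zh} : Set (X ⧸ K)) = ⊤ := by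
    refine top_le_iff.1 fun y _ => ?_
    obtain ⟨u, rfl⟩ := hqs y
    obtain ⟨a', i, rfl⟩ := h.decomp u
    rw [map_mul, map_pow, ← hxh]
    refine mul_mem ?_ (pow_mem (subset_closure (by simp)) i)
    have := closure_triple_map (q.comp E.subtype).rangeRestrict (MonoidHom.rangeRestrict_surjective _)
      h.hyp.closure_eq
    have ha' : (q.comp E.subtype).rangeRestrict a' ∈ Subgroup.closure _ := this.symm ▸ mem_top _
    have hm := mem_map_of_mem (q.comp E.subtype).range.subtype ha'
    rw [MonoidHom.map_closure] at hm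
    refine closure_mono ?_ (by simpa [Set.image_insert_eq] using hm)
    rw [heh, hth, hzh]
    intro y hy
    simp only [Set.mem_insert_iff, Set.mem_singleton_iff] at hy ⊢
    tauto
  have cent : ∀ u : X ⧸ K, Commute u xh → Commute u eh → Commute u th → Commute u zh →
      ∀ g, u * g = g * u := by
    intro u w1 w2 w3 w4 g
    have hle : closure ({xh, eh, th, zh} : Set _) ≤ centralizer ({u} : Set _) := by
      rw [closure_le]
      rintro y (rfl | rfl | rfl | rfl) <;> rw [SetLike.mem_coe, mem_centralizer_singleton_iff]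
      exacts [w1.eq.symm, w2.eq.symm, w3.eq.symm, w4.eq.symm]
    exact (mem_centralizer_singleton_iff.1 (hle (hgenY ▸ mem_top g))).symm
  have zcent : ∀ g, zh * g = g * zh :=
    cent zh (zxp ▸ Commute.pow_self xh p) cze.symm czt.symm (Commute.refl _)
  have wcent : ∀ g, wh * g = g * wh :=
    cent wh kxw.symm (heh ▸ cwE e) (hth ▸ cwE t) (hzh ▸ cwE z)
  have wp : wh ^ p = 1 := by
    rw [hwh, heh, ← map_pow, ← map_pow, ← SubmonoidClass.coe_pow, ← SubmonoidClass.coe_pow]
    refine tr1 _ ?_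
    rw [map_pow, hFexp _ (Core.pow_mem_frattini h.hyp.pgroup _)]
    exact one_mem _
  set Z3 := closure ({zh, wh} : Set (X ⧸ K)) with hZ3
  have hZ3c : ∀ u ∈ Z3, ∀ g, u * g = g * u := by
    intro u hu g
    induction hu using Subgroup.closure_induction with
    | mem y hy => rcases hy with rfl | rfl; exacts [zcent g, wcent g]
    | one => simp
    | mul a b _ _ iha ihb => rw [mul_assoc, ihb, ← mul_assoc, iha, mul_assoc]
    | inv a _ iha => exact (show Commute a g from iha).inv_left.eq
  haveI hZ3n : Z3.Normal := ⟨fun u hu g => by rwa [← hZ3c u hu g, mul_inv_cancel_right]⟩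
  set A3 := closure ({th, zh, wh} : Set (X ⧸ K)) with hA3
  have hZA : Z3 ≤ A3 := closure_mono (by simp [Set.insert_subset_iff])
  have tZ : ∀ g, ⁅th, g⁆ ∈ Z3 := by
    intro g
    set π3 := QuotientGroup.mk' Z3
    rw [← QuotientGroup.eq_one_iff, ← QuotientGroup.mk'_apply, map_commutatorElement,
      commutatorElement_eq_one_iff_mul_comm]
    have hle : closure ({xh, eh, th, zh} : Set _) ≤ (centralizer ({π3 th} : Set _)).comap π3 := by
      rw [closure_le]
      rintro y (rfl | rfl | rfl | rfl) <;>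
        rw [SetLike.mem_coe, mem_comap, mem_centralizer_singleton_iff]
      · rw [← commutatorElement_eq_one_iff_mul_comm, ← map_commutatorElement, kxt,
          QuotientGroup.mk'_apply, QuotientGroup.eq_one_iff]
        exact mul_mem (subset_closure (by simp)) (pow_mem (subset_closure (by simp)) _)
      · rw [← commutatorElement_eq_one_iff_mul_comm, ← map_commutatorElement, ket2,
          QuotientGroup.mk'_apply, QuotientGroup.eq_one_iff]
        exact pow_mem (subset_closure (by simp)) _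
      · rw [← map_mul, ← map_mul, zcent]
    exact (mem_centralizer_singleton_iff.1 (hle (hgenY ▸ mem_top g))).symm
  haveI hA3n : A3.Normal := ⟨fun u hu g => by
    rw [hA3] at hu
    induction hu using Subgroup.closure_induction with
    | mem y hy =>
      rcases hy with rfl | rfl | rfl
      · have e1 : g * y * g⁻¹ = ⁅y, g⁆⁻¹ * y := by simp only [commutatorElement_def]; group
        rw [e1]
        exact mul_mem (inv_mem (hZA (tZ g))) (subset_closure (by simp))
      · rw [← zcent g, mul_inv_cancel_right]; exact subset_closure (by simp)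
      · rw [← wcent g, mul_inv_cancel_right]; exact subset_closure (by simp)
    | one => simp
    | mul a b _ _ ha hb =>
      have := mul_mem ha hb
      rwa [show g * a * g⁻¹ * (g * b * g⁻¹) = g * (a * b) * g⁻¹ by group] at this
    | inv a _ ha =>
      have := inv_mem ha
      rwa [show (g * a * g⁻¹)⁻¹ = g * a⁻¹ * g⁻¹ by group] at this⟩
  have hcA : ∀ g k : X ⧸ K, ⁅g, k⁆ ∈ A3 := by
    set π3 := QuotientGroup.mk' A3
    have qt : π3 th = 1 := (QuotientGroup.eq_one_iff th).2 (subset_closure (by simp))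
    have qz : π3 zh = 1 := (QuotientGroup.eq_one_iff zh).2 (subset_closure (by simp))
    have qxe : π3 xh * π3 eh = π3 eh * π3 xh := by
      rw [← commutatorElement_eq_one_iff_mul_comm, ← map_commutatorElement, kxe, qt]
    intro g k
    rw [← QuotientGroup.eq_one_iff, ← QuotientGroup.mk'_apply, map_commutatorElement,
      commutatorElement_eq_one_iff_mul_comm]
    have hgen : closure ({π3 xh, π3 eh} : Set _) = ⊤ := by
      refine top_le_iff.1 ?_
      rw [← map_top_of_surjective π3 (QuotientGroup.mk'_surjective A3), ← hgenY, MonoidHom.map_closure,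
        closure_le]
      rintro _ ⟨y, hy, rfl⟩
      rcases hy with rfl | rfl | rfl | rfl
      exacts [subset_closure (by simp), subset_closure (by simp), qt ▸ one_mem _, qz ▸ one_mem _]
    haveI : IsMulCommutative (closure ({π3 xh, π3 eh} : Set _)) := isMulCommutative_closure (by
      rintro a (rfl | rfl) b (rfl | rfl)
      exacts [rfl, qxe, qxe.symm, rfl])
    exact congrArg Subtype.val (mul_comm'
      (⟨π3 g, hgen ▸ mem_top _⟩ : Subgroup.closure ({π3 xh, π3 eh} : Set _)) ⟨π3 k, hgen ▸ mem_top _⟩)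
  have hA3c : ∀ u ∈ A3, ∀ u' ∈ A3, u * u' = u' * u := by
    haveI : IsMulCommutative A3 := isMulCommutative_closure (by
      rintro a (rfl | rfl | rfl) b (rfl | rfl | rfl)
      exacts [rfl, (zcent _).symm, (wcent _).symm, zcent _, rfl, zcent _, wcent _, wcent _, rfl])
    exact fun u hu u' hu' => congrArg Subtype.val (mul_comm' (⟨u, hu⟩ : A3) ⟨u', hu'⟩)
  have hA3p : ∀ u ∈ A3, u ^ p = 1 := by
    intro u hu
    induction hu using Subgroup.closure_induction with
    | mem y hy => rcases hy with rfl | rfl | rfl; exacts [tp, zp, wp]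
    | one => exact one_pow p
    | mul a b ha hb iha ihb =>
      rw [(show Commute a b from hA3c a ha b hb).mul_pow, iha, ihb, one_mul]
    | inv a _ iha => rw [inv_pow, iha, inv_one]
  have hAB : ∀ a ∈ A3, ∀ g, ⁅a, g⁆ ∈ Z3 := by
    intro a ha g
    induction ha using Subgroup.closure_induction generalizing g with
    | mem y hy =>
      rcases hy with rfl | rfl | rfl
      exacts [tZ g, by rw [commutatorElement_eq_one_iff_mul_comm.2 (zcent g)]; exact one_mem _,
        by rw [commutatorElement_eq_one_iff_mul_comm.2 (wcent g)]; exact one_mem _]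
    | one => rw [commutatorElement_one_left]; exact one_mem _
    | mul a b _ _ ha hb =>
      rw [show ⁅a * b, g⁆ = a * ⁅b, g⁆ * a⁻¹ * ⁅a, g⁆ by simp only [commutatorElement_def]; group]
      exact mul_mem (hZ3n.conj_mem _ (hb g) a) (ha g)
    | inv a _ ha =>
      rw [show ⁅a⁻¹, g⁆ = a⁻¹ * ⁅a, g⁆⁻¹ * a⁻¹⁻¹ by simp only [commutatorElement_def]; group]
      exact hZ3n.conj_mem _ (inv_mem (ha g)) _
  have mul3 := mul_pow_p (h.pgroup.to_quotient K) h.five hcA hAB
    (fun b hb g => commutatorElement_eq_one_iff_mul_comm.2 (hZ3c b hb g)) hA3p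
  -- independence of `z` and `w`
  have hKF : K ≤ F.map E.subtype := by
    refine map_mono fun u hu => ?_
    have hle : K0 ≤ F.map q2 := by
      rw [hK0, closure_le]
      rintro y (rfl | rfl)
      exacts [⟨t ^ p, Core.pow_mem_frattini h.hyp.pgroup _, by rw [map_pow, ht']⟩,
        ⟨z ^ p, Core.pow_mem_frattini h.hyp.pgroup _, by rw [map_pow, hz']⟩]
    obtain ⟨f, hf, hfu⟩ := hle hu
    have := F.mul_mem hf (hN2F (QuotientGroup.eq.1 hfu))
    rwa [mul_inv_cancel_left] at this
  have indep : ∀ i j : ℕ, zh ^ i * wh ^ j = 1 → (i : ZMod p) = 0 ∧ (j : ZMod p) = 0 := by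
    intro i j hij
    have h1 : zh ^ i * wh ^ j = q ((z ^ i * (e ^ p) ^ j : E) : X) := by
      rw [hwh, hzh, heh, Subgroup.coe_mul, map_mul, SubmonoidClass.coe_pow, SubmonoidClass.coe_pow,
        SubmonoidClass.coe_pow, map_pow, map_pow, map_pow]
    rw [h1, hq, QuotientGroup.mk'_apply, QuotientGroup.eq_one_iff] at hij
    have hiF : (i : ZMod p) = 0 := by
      have h2 : z ^ i * (e ^ p) ^ j ∈ F := (mem_map_iff_mem E.subtype_injective).1 (hKF hij)
      have h3 := F.mul_mem h2 (F.inv_mem (pow_mem (Core.pow_mem_frattini h.hyp.pgroup e) j))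
      rw [mul_inv_cancel_right] at h3
      exact (h.hyp.indep (i := 0) (j := 0) (l := i) (by simpa using h3)).2.2
    refine ⟨hiF, hK0indep j ?_⟩
    obtain ⟨u, hu, hue⟩ := hij
    obtain rfl : u = z ^ i * (e ^ p) ^ j := Subtype.ext hue
    rw [SetLike.mem_coe, mem_comap, map_mul, map_pow, map_pow, map_pow, ← hz', ← he'] at hu
    obtain ⟨k, rfl⟩ := (ZMod.natCast_eq_zero_iff i p).1 hiF
    rw [pow_mul] at hu
    have := mul_mem (inv_mem (pow_mem mz k)) hu
    rwa [inv_mul_cancel_left] at this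
  -- each copy determines `r`
  have main : ∀ B : Subgroup X, Copy p E B → ∃ i : ℕ, (2 * i : ZMod p) = r ∧
      B.map q = zpowers (eh ^ i * xh) ⊔ A3 ∧ K ≤ B := by
    intro B hB
    obtain ⟨hBn, hBc, hBp⟩ := max_props h.pgroup hB.index
    have hKB : K ≤ B := hKF.trans (by
      rw [hF, h.frattini_eq, ← agemo_map]; exact agemo_le_iff.2 fun y _ => hBp y)
    set Bh := B.map q with hBh
    haveI : Bh.Normal := hBn.map q hqs
    have hA3B : A3 ≤ Bh := by
      rw [hA3, closure_le]
      rintro y (rfl | rfl | rfl)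
      · rw [hth, htx]; exact mem_map_of_mem q (hBc x e)
      · rw [hzh, hzx]; exact mem_map_of_mem q (hBp x)
      · rw [hwh, heh, ← map_pow]; exact mem_map_of_mem q (hBp _)
    have hBne : Bh ≠ ⊤ := by
      intro e0
      have h1 := congrArg (Subgroup.comap q) e0
      rw [hBh, comap_map_eq, hq, QuotientGroup.ker_mk', sup_eq_left.2 hKB, comap_top] at h1
      exact (isCoatom_of_index_prime hB.index).1 h1
    -- coordinates of an element
    have coordsY : ∀ y : X ⧸ K, ∃ i j : ℕ, ∃ d ∈ A3, y = eh ^ i * d * xh ^ j := by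
      intro y
      obtain ⟨u, rfl⟩ := hqs y
      obtain ⟨a', j, rfl⟩ := h.decomp u
      obtain ⟨i, i2, i3, hi⟩ := h.hyp.coords a'
      obtain ⟨f, hfF, hf⟩ : ∃ f ∈ F, a' = e ^ i * (t ^ i2 * z ^ i3 * f) := by
        refine ⟨(e ^ i * t ^ i2 * z ^ i3)⁻¹ * a', ?_, by group⟩
        simpa using F.inv_mem hi
      have hfA : q (f : X) ∈ A3 := by
        obtain ⟨f', hf'⟩ := hθ f hfF
        obtain ⟨m1, m2, m3, hm'⟩ := h.hyp.coords f'
        rw [cgp _ _ hm', map_mul, map_mul, mulp, mulp, pw, pw, pw, ← he', ← ht', ← hz'] at hf'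
        have h2 : q (f : X) = q (((e ^ p) ^ m1 : E) : X) := tr _ _ (by
          rw [hf', map_pow, map_pow, ← he', mul_assoc, mul_inv_rev, mul_assoc, inv_mul_cancel,
            mul_one]
          exact inv_mem (mul_mem (pow_mem mt m2) (pow_mem mz m3)))
        rw [h2, SubmonoidClass.coe_pow, SubmonoidClass.coe_pow, map_pow, map_pow, ← heh, ← hwh]
        exact pow_mem (subset_closure (by simp)) m1
      refine ⟨i, j, th ^ i2 * zh ^ i3 * q (f : X), mul_mem (mul_mem
        (pow_mem (subset_closure (by simp)) _) (pow_mem (subset_closure (by simp)) _)) hfA, ?_⟩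
      rw [hf]
      push_cast
      simp only [map_mul, map_pow, ← hxh, ← heh, ← hth, ← hzh]
    have emem : ∀ (i : ℕ) (d : X ⧸ K), d ∈ A3 → eh ^ i * d ∈ Bh → (i : ZMod p) = 0 := by
      intro i d hd hmem
      by_contra hne0
      apply hBne
      have h1 : eh ^ i ∈ Bh := by
        have := mul_mem hmem (inv_mem (hA3B hd)); rwa [mul_inv_cancel_right] at this
      have hep : eh ^ p ∈ Bh := hA3B (hwh ▸ subset_closure (by simp))
      have he1 : eh ∈ Bh := by
        have hcop : Nat.Coprime i p := ((Nat.Prime.coprime_iff_not_dvd hp.out).2 fun hd' => hne0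
          ((ZMod.natCast_eq_zero_iff i p).2 hd')).symm
        have h2 : eh ^ ((Nat.gcd i p : ℕ) : ℤ) ∈ Bh := by
          rw [Nat.gcd_eq_gcd_ab, zpow_add, zpow_mul, zpow_mul, zpow_natCast, zpow_natCast]
          exact mul_mem (zpow_mem h1 _) (zpow_mem hep _)
        rwa [hcop.gcd_eq_one, Nat.cast_one, zpow_one] at h2
      obtain ⟨bb, hbb, hbE⟩ := hB.exists_out h.index
      obtain ⟨a', j, rfl⟩ := h.decomp bb
      have hj : (j : ZMod p) ≠ 0 := fun e0 => hbE (mul_mem a'.2 (by
        obtain ⟨k, rfl⟩ := (ZMod.natCast_eq_zero_iff j p).1 e0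
        rw [pow_mul]; exact pow_mem (h.index ▸ pow_index_mem E x) k))
      have hEB : ∀ u : E, q (u : X) ∈ Bh := fun u => by
        obtain ⟨m, n, d', hd', hu⟩ := coordsY (q (u : X))
        have : q (u : X) * (xh ^ n)⁻¹ = eh ^ m * d' := by rw [hu]; group
        have hn : (n : ZMod p) = 0 := by
          have hmem' : eh ^ m * d' ∈ (E.map q) := by
            refine mul_mem (pow_mem (heh ▸ mem_map_of_mem q e.2) m) ?_
            refine (?_ : A3 ≤ E.map q) hd'
            rw [hA3, closure_le]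
            rintro y (rfl | rfl | rfl)
            exacts [hth ▸ mem_map_of_mem q t.2, hzh ▸ mem_map_of_mem q z.2,
              by rw [hwh, heh, ← map_pow]; exact mem_map_of_mem q (pow_mem e.2 p)]
          have h3 : xh ^ n ∈ E.map q := by
            have h4 := mul_mem (inv_mem hmem') (mem_map_of_mem q u.2)
            rwa [← this, mul_inv_rev, inv_inv, inv_mul_cancel_right] at h4
          rw [hxh, ← map_pow] at h3
          have h5 : x ^ n ∈ (E.map q).comap q := h3
          rw [comap_map_eq, hq, QuotientGroup.ker_mk', sup_eq_left.2 (hKF.trans (map_subtype_le _))]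
            at h5
          exact h.pow_dvd h5
        rw [hu]
        obtain ⟨k, rfl⟩ := (ZMod.natCast_eq_zero_iff n p).1 hn
        refine mul_mem (mul_mem (pow_mem he1 m) (hA3B hd')) ?_
        rw [pow_mul, ← zxp]
        exact pow_mem (hA3B (subset_closure (by simp))) k
      have hxj : xh ^ j ∈ Bh := by
        have := mul_mem (inv_mem (hEB a')) (mem_map_of_mem q hbb)
        rwa [map_mul, map_pow, ← hxh, inv_mul_cancel_left] at this
      have hx1 : xh ∈ Bh := by
        have hcop : Nat.Coprime j p := ((Nat.Prime.coprime_iff_not_dvd hp.out).2 fun hd' => hj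
          ((ZMod.natCast_eq_zero_iff j p).2 hd')).symm
        have h2 : xh ^ ((Nat.gcd j p : ℕ) : ℤ) ∈ Bh := by
          rw [Nat.gcd_eq_gcd_ab, zpow_add, zpow_mul, zpow_mul, zpow_natCast, zpow_natCast]
          exact mul_mem (zpow_mem hxj _) (zpow_mem (zxp ▸ hA3B (subset_closure (by simp))) _)
        rwa [hcop.gcd_eq_one, Nat.cast_one, zpow_one] at h2
      refine top_le_iff.1 (hgenY ▸ (closure_le _).2 ?_)
      rintro y (rfl | rfl | rfl | rfl)
      exacts [hx1, he1, hA3B (subset_closure (by simp)), hA3B (subset_closure (by simp))]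
    -- an element `e ^ i * x`
    obtain ⟨bb, hbb, hbE⟩ := hB.exists_out h.index
    obtain ⟨a', j, rfl⟩ := h.decomp bb
    have hj : (j : ZMod p) ≠ 0 := fun e0 => hbE (mul_mem a'.2 (by
      obtain ⟨k, rfl⟩ := (ZMod.natCast_eq_zero_iff j p).1 e0
      rw [pow_mul]; exact pow_mem (h.index ▸ pow_index_mem E x) k))
    have hEn' : (E.map q).Normal := hEn.map q hqs
    obtain ⟨y, hy, hyE⟩ : ∃ y ∈ Bh, y * xh⁻¹ ∈ E.map q := by
      obtain ⟨k, hk⟩ : ∃ k : ℕ, ((j * k : ℕ) : ZMod p) = 1 := ⟨((j : ZMod p)⁻¹).val, by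
        rw [Nat.cast_mul, ZMod.natCast_zmod_val, mul_inv_cancel₀ hj]⟩
      refine ⟨q ((a' : X) * x ^ j) ^ k, pow_mem (mem_map_of_mem q hbb) k, ?_⟩
      set π4 := QuotientGroup.mk' (E.map q)
      rw [← QuotientGroup.eq_one_iff, ← QuotientGroup.mk'_apply, map_mul, map_inv, map_pow, map_mul,
        map_mul, map_pow, ← hxh, map_pow]
      rw [show π4 (q (a' : X)) = 1 from (QuotientGroup.eq_one_iff _).2 (mem_map_of_mem q a'.2), one_mul,
        ← pow_mul]
      obtain ⟨l, hl⟩ : ∃ l, j * k = p * l + 1 := by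
        refine ⟨j * k / p, ?_⟩
        have hm := (ZMod.natCast_eq_natCast_iff' (j * k) 1 p).1 (by rw [hk, Nat.cast_one])
        rw [Nat.mod_eq_of_lt hp.out.one_lt] at hm
        conv_lhs => rw [← Nat.div_add_mod (j * k) p, hm]
      rw [hl, pow_succ, pow_mul, ← map_pow, ← zxp,
        show π4 zh = 1 from (QuotientGroup.eq_one_iff _).2 (hzh ▸ mem_map_of_mem q z.2), one_pow,
        one_mul, mul_inv_cancel]
    obtain ⟨i, n, d, hd, hy'⟩ := coordsY (y * xh⁻¹)
    obtain ⟨n', rfl⟩ : p ∣ n := by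
      rw [← ZMod.natCast_eq_zero_iff]
      have h3 : xh ^ n ∈ E.map q := by
        have hmem' : eh ^ i * d ∈ E.map q := by
          refine mul_mem (pow_mem (heh ▸ mem_map_of_mem q e.2) i) ?_
          refine (?_ : A3 ≤ E.map q) hd
          rw [hA3, closure_le]
          rintro w (rfl | rfl | rfl)
          exacts [hth ▸ mem_map_of_mem q t.2, hzh ▸ mem_map_of_mem q z.2,
            by rw [hwh, heh, ← map_pow]; exact mem_map_of_mem q (pow_mem e.2 p)]
        have h4 := mul_mem (inv_mem hmem') hyE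
        rwa [hy', inv_mul_cancel_left] at h4
      rw [hxh, ← map_pow] at h3
      have h5 : x ^ n ∈ (E.map q).comap q := h3
      rw [comap_map_eq, hq, QuotientGroup.ker_mk', sup_eq_left.2 (hKF.trans (map_subtype_le _))] at h5
      exact h.pow_dvd h5
    have hm : eh ^ i * xh ∈ Bh := by
      have h1 : y = eh ^ i * xh * (xh⁻¹ * (d * zh ^ n') * xh) := by
        rw [zxp, ← pow_mul, eq_mul_inv_iff_mul_eq.1 hy'.symm |>.symm]
        simp only [mul_assoc, mul_inv_cancel_left]
      have h2 : xh⁻¹ * (d * zh ^ n') * xh ∈ A3 := by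
        have := hA3n.conj_mem (d * zh ^ n') (mul_mem hd (pow_mem (subset_closure (by simp)) _)) xh⁻¹
        rwa [inv_inv] at this
      have h3 := mul_mem hy (inv_mem (hA3B h2))
      rwa [h1, mul_inv_cancel_right] at h3
    have hBeq : Bh = zpowers (eh ^ i * xh) ⊔ A3 := by
      refine le_antisymm ?_ (sup_le (zpowers_le.2 hm) hA3B)
      intro u hu
      obtain ⟨i', j', d', hd', rfl⟩ := coordsY u
      set π5 := QuotientGroup.mk' A3
      have hq5 : π5 (eh ^ i' * d' * xh ^ j' * ((eh ^ i * xh) ^ j')⁻¹) =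
          π5 (eh ^ i') * (π5 (eh ^ i) ^ j')⁻¹ := by
        have hc5 : Commute (π5 (eh ^ i)) (π5 xh) := by
          rw [← commutatorElement_eq_one_iff_commute, ← map_commutatorElement]
          exact (QuotientGroup.eq_one_iff _).2 (hcA _ _)
        simp only [map_mul, map_inv, map_pow]
        rw [show π5 d' = 1 from (QuotientGroup.eq_one_iff _).2 hd', mul_one]
        rw [map_pow] at hc5
        rw [hc5.mul_pow, mul_inv_rev, mul_assoc, mul_inv_cancel_left]
      rw [← map_pow π5, ← map_inv, ← map_mul, QuotientGroup.mk'_apply, QuotientGroup.mk'_apply,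
        QuotientGroup.eq] at hq5
      obtain ⟨d'', hd''⟩ : ∃ d'', d'' = (eh ^ i' * ((eh ^ i) ^ j')⁻¹)⁻¹ *
          (eh ^ i' * d' * xh ^ j' * ((eh ^ i * xh) ^ j')⁻¹) := ⟨_, rfl⟩
      have hd''A : d'' ∈ A3 := by
        have := inv_mem hq5
        rwa [mul_inv_rev, inv_inv, ← hd''] at this
      have hu2 : eh ^ i' * ((eh ^ i) ^ j')⁻¹ * d'' ∈ Bh := by
        rw [hd'', mul_inv_cancel_left]
        exact mul_mem hu (inv_mem (pow_mem hm _))
      have hA : eh ^ i' * ((eh ^ i) ^ j')⁻¹ ∈ A3 := by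
        have hv : eh ^ i' * ((eh ^ i) ^ j')⁻¹ ∈ Bh := by
          have := mul_mem hu2 (inv_mem (hA3B hd''A)); rwa [mul_inv_cancel_right] at this
        have hwc : wh ∈ A3 := subset_closure (by simp)
        have e1 : eh ^ i' * ((eh ^ i) ^ j')⁻¹ = eh ^ (i' + (p - 1) * (i * j')) * (wh ^ (i * j'))⁻¹ := by
          rw [hwh, ← pow_mul eh i j', ← pow_mul eh p (i * j'), pow_add, mul_assoc]
          congr 1
          rw [eq_mul_inv_iff_mul_eq, inv_mul_eq_iff_eq_mul, ← pow_add]
          congr 1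
          have h5 : 1 ≤ p := hp.out.pos
          calc p * (i * j') = (1 + (p - 1)) * (i * j') := by rw [Nat.add_sub_cancel' h5]
            _ = _ := by rw [add_mul, one_mul]
        have h0 := emem _ _ (inv_mem (pow_mem hwc _)) (e1 ▸ hv)
        obtain ⟨k, hk⟩ := (ZMod.natCast_eq_zero_iff _ p).1 h0
        rw [e1, hk, pow_mul, ← hwh]
        exact mul_mem (pow_mem hwc k) (inv_mem (pow_mem hwc _))
      have key : eh ^ i' * d' * xh ^ j' =
          eh ^ i' * ((eh ^ i) ^ j')⁻¹ * d'' * (eh ^ i * xh) ^ j' := by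
        rw [hd'', mul_inv_cancel_left, inv_mul_cancel_right]
      rw [key]
      exact mul_mem (mem_sup_right (mul_mem hA hd''A)) (pow_mem (mem_sup_left (mem_zpowers _)) j')
    refine ⟨i, ?_, hBeq, hKB⟩
    -- the commutator with `t`
    have hkom : ⁅eh ^ i * xh, th⁆ = zh * wh ^ (r + a * i) := by
      have he : ∀ n : ℕ, ⁅eh ^ n, th⁆ = wh ^ (a * n) := fun n => by
        induction n with
        | zero => simp
        | succ n ih =>
          rw [pow_succ, comm_mul_left_of _ _ _ (fun g => by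
            rw [ket2]; exact ((show Commute wh g from wcent g).pow_left a).eq), ih, ket2, ← pow_add,
            mul_add, mul_one]
      rw [comm_mul_left_of _ _ _ (fun g => by
          rw [kxt]; exact ((show Commute zh g from zcent g).mul_left
            ((show Commute wh g from wcent g).pow_left r)).eq),
        he, kxt, ← mul_assoc, ← zcent, mul_assoc, ← pow_add, add_comm]
    have hmp : (eh ^ i * xh) ^ p = wh ^ i * zh := by
      rw [mul3, zxp, hwh, ← pow_mul, ← pow_mul, mul_comm i]
    have hmem : ⁅eh ^ i * xh, th⁆ ∈ zpowers (wh ^ i * zh) := by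
      have h1 : ⁅eh ^ i * xh, th⁆ ∈ (agemo p B).map q := by
        obtain ⟨m1, hm1, hm1'⟩ := hm
        obtain ⟨t1, ht1, ht1'⟩ := hA3B (hA3 ▸ subset_closure (by simp) : th ∈ A3)
        rw [← hm1', ← ht1', ← map_commutatorElement]
        exact mem_map_of_mem q (hB.commutator_le h.omega (commutator_mem_commutator hm1 ht1))
      rw [← agemo_map, ← hBh, hBeq] at h1
      refine (agemo_le_iff.2 ?_) h1
      intro u hu
      obtain ⟨u1, hu1, u2, hu2, rfl⟩ := mem_sup_of_normal_right.1 hu
      obtain ⟨n, rfl⟩ := mem_zpowers_iff.1 hu1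
      rw [mul3, hA3p u2 hu2, mul_one, ← zpow_natCast ((eh ^ i * xh) ^ n) p, ← zpow_mul, mul_comm n,
        zpow_mul, zpow_natCast, hmp]
      exact zpow_mem (mem_zpowers _) n
    obtain ⟨s, hs⟩ := (isOfFinOrder_of_finite (wh ^ i * zh)).mem_powers_iff_mem_zpowers.2 hmem
    change (wh ^ i * zh) ^ s = _ at hs
    rw [hkom, (show Commute (wh ^ i) zh from ((show Commute wh zh from wcent zh).pow_left i)).mul_pow,
      ← pow_mul] at hs
    have hrel : zh ^ (1 + (p - 1) * s) * wh ^ (r + a * i + (p - 1) * (i * s)) = 1 := by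
      have hz1 : zh ^ (p * s) = 1 := by rw [pow_mul, zp, one_pow]
      have hw1 : wh ^ (p * (i * s)) = 1 := by rw [pow_mul, wp, one_pow]
      have hc : ∀ m n : ℕ, Commute (zh ^ m) (wh ^ n) := fun m n =>
        (show Commute zh wh from zcent wh).pow_pow m n
      rw [pow_add zh, pow_one, pow_add wh, (hc ((p - 1) * s) (r + a * i)).mul_mul_mul_comm, ← hs,
        mul_assoc, ← mul_assoc (zh ^ s), ← pow_add zh,
        show s + (p - 1) * s = p * s from add_pred_mul _,
        hz1, one_mul, ← pow_add wh,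
        show i * s + (p - 1) * (i * s) = p * (i * s) from add_pred_mul _, hw1]
    obtain ⟨h1, h2⟩ := indep _ _ hrel
    push_cast [Nat.cast_sub hp.out.pos, ZMod.natCast_self] at h1 h2
    rw [ha] at h2
    linear_combination (i : ZMod p) * h1 - h2
  obtain ⟨i1, hi1, hb1, hk1⟩ := main B1 hB1
  obtain ⟨i2, hi2, hb2, hk2⟩ := main B2 hB2
  apply hne
  have h2ne : (2 : ZMod p) ≠ 0 := fun e0 => by
    have h5 := h.five
    have := Nat.le_of_dvd (by norm_num) ((ZMod.natCast_eq_zero_iff 2 p).1 (by exact_mod_cast e0))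
    omega
  have hii : (i1 : ZMod p) = i2 := mul_left_cancel₀ h2ne (hi1.trans hi2.symm)
  have hsame : B1.map q = B2.map q := by
    have hw : wh ∈ A3 := subset_closure (by simp)
    have key : ∀ i j : ℕ, (i : ZMod p) = j → i ≤ j → zpowers (eh ^ i * xh) ⊔ A3 = zpowers (eh ^ j * xh) ⊔ A3 := by
      intro i j hij hle
      obtain ⟨k, hk⟩ : p ∣ j - i := by
        rw [← ZMod.natCast_eq_zero_iff, Nat.cast_sub hle, hij, sub_self]
      have hj : j = p * k + i := by omega
      have e1 : eh ^ j * xh = wh ^ k * (eh ^ i * xh) := by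
        rw [hj, pow_add, pow_mul, ← hwh, mul_assoc]
      refine le_antisymm (sup_le (zpowers_le.2 ?_) le_sup_right) (sup_le (zpowers_le.2 ?_) le_sup_right)
      · have := mul_mem (mem_sup_right (inv_mem (pow_mem hw k)))
          (mem_sup_left (mem_zpowers (eh ^ j * xh)) :
            eh ^ j * xh ∈ zpowers (eh ^ j * xh) ⊔ A3)
        rw [e1] at this ⊢
        rwa [inv_mul_cancel_left] at this
      · rw [e1]
        exact mul_mem (mem_sup_right (pow_mem hw k)) (mem_sup_left (mem_zpowers _))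
    rw [hb1, hb2]
    rcases le_total i1 i2 with hle | hle
    exacts [key _ _ hii hle, (key _ _ hii.symm hle).symm]
  have := congrArg (Subgroup.comap q) hsame
  rwa [comap_map_eq, comap_map_eq, hq, QuotientGroup.ker_mk', sup_eq_left.2 hk1, sup_eq_left.2 hk2]
    at this

/-- The regular case. -/
theorem RegData.no_reg (h : RegData p E x e t z) (A : Set (MulAut E))
    (irr : ∀ W : Subgroup E, frattini E ≤ W → (∀ α ∈ A, ∀ w ∈ W, α w ∈ W) →
      W = frattini E ∨ W = ⊤)
    {B1 B2 : Subgroup X} (hB1 : Copy p E B1) (hB2 : Copy p E B2) (hne : B1 ≠ B2) : False := by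
  haveI : NeZero p := ⟨hp.out.ne_zero⟩
  set F := frattini E with hF
  obtain ⟨hqc, hqe⟩ := h.hyp.quot_props
  set π := QuotientGroup.mk' F with hπ
  have hxp : x ^ p ∈ E := h.index ▸ pow_index_mem E x
  set y : E := ⟨x ^ p, hxp⟩ with hy
  set c := MulAut.conjNormal (H := E) x with hc
  have hch : ∀ u : E, u ∈ F → c u ∈ F := fun u hu => by
    have := characteristic_iff_map_eq.1 (inferInstance : (frattini E).Characteristic) c
    exact this.le (mem_map_of_mem c.toMonoidHom hu)
  have hcy : c y = y := Subtype.ext (by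
    rw [hc, MulAut.conjNormal_apply, hy]
    show x * x ^ p * x⁻¹ = x ^ p
    rw [← pow_succ', pow_succ, mul_inv_cancel_right])
  obtain ⟨i, j, l, hco⟩ := h.hyp.coords y
  have hπc : ∀ u w : E, Cg u w → π (c u) = π (c w) := fun u w huw => by
    refine QuotientGroup.eq.2 ?_
    rw [← map_inv, ← map_mul]
    exact hch _ huw
  have key : π y = π (e ^ i * t ^ (i + j) * z ^ (j + l)) := by
    conv_lhs => rw [← hcy, hπc _ _ hco]
    simp only [map_mul, map_pow]
    rw [show π (c e) = π (e * t) from QuotientGroup.eq.2 h.xe,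
      show π (c t) = π (t * z) from QuotientGroup.eq.2 h.xt,
      show π (c z) = π z from QuotientGroup.eq.2 h.xz, map_mul, map_mul,
      (show Commute (π e) (π t) from hqc _ _).mul_pow, (show Commute (π t) (π z) from hqc _ _).mul_pow,
      pow_add, pow_add]
    simp only [mul_assoc]
  have key2 : π y = π (e ^ i * t ^ j * z ^ l) := QuotientGroup.eq.2 hco
  have hij : π (t ^ i * z ^ j) = 1 := by
    rw [key2, pow_add, pow_add] at key
    simp only [map_mul] at key ⊢
    have e1 : π (e ^ i) * (π (t ^ i) * π (t ^ j)) * (π (z ^ j) * π (z ^ l)) =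
        π (t ^ i) * π (z ^ j) * (π (e ^ i) * π (t ^ j) * π (z ^ l)) := by
      rw [hqc (π (e ^ i)), mul_assoc (π (t ^ i)) (π (t ^ j)),
        (show Commute (π (t ^ j) * π (e ^ i)) (π (z ^ j)) from hqc _ _).mul_mul_mul_comm,
        hqc (π (t ^ j))]
    rw [e1] at key
    exact right_eq_mul.1 key
  rw [hπ, QuotientGroup.mk'_apply, QuotientGroup.eq_one_iff] at hij
  obtain ⟨-, hi0, hj0⟩ := h.hyp.indep (i := 0) (j := i) (l := j) (by simpa using hij)
  have hy' : π y = π z ^ l := by
    rw [key2, map_mul, map_mul, map_pow, map_pow, map_pow, pow_eq_pow_of_cast (hqe _) (b := 0)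
      (by rw [hi0, Nat.cast_zero]), pow_eq_pow_of_cast (hqe (π t)) (b := 0)
      (by rw [hj0, Nat.cast_zero]), pow_zero, pow_zero, one_mul, one_mul]
  have hzpow : ∀ [((frattini E).map E.subtype).Normal],
      QuotientGroup.mk' ((frattini E).map E.subtype) (x ^ p) ∈
        zpowers (QuotientGroup.mk' ((frattini E).map E.subtype) (z : X)) := by
    intro _
    rw [← map_pow] at hy'
    refine mem_zpowers_iff.2 ⟨(l : ℤ), ?_⟩
    rw [zpow_natCast, ← map_pow, QuotientGroup.mk'_apply, QuotientGroup.mk'_apply, QuotientGroup.eq]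
    exact ⟨(z ^ l)⁻¹ * y, QuotientGroup.eq.1 hy'.symm, rfl⟩
  by_cases hl : (l : ZMod p) = 0
  · refine h.copy_false hB1 (fun {_} => hzpow) ?_
    obtain ⟨hmul, hexpE, -⟩ := h.quot (QuotientGroup.mk' ((frattini E).map E.subtype))
      (QuotientGroup.mk'_surjective _) (QuotientGroup.ker_mk' _) hzpow
    rw [agemo_le_iff]
    intro b _
    rw [← QuotientGroup.eq_one_iff, QuotientGroup.mk_pow, ← QuotientGroup.mk'_apply]
    obtain ⟨a, n, rfl⟩ := h.decomp b
    rw [map_mul, hmul, hexpE, one_mul, ← map_pow, ← pow_mul, mul_comm, pow_mul, map_pow]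
    have : QuotientGroup.mk' ((frattini E).map E.subtype) (x ^ p) = 1 := by
      rw [QuotientGroup.mk'_apply, QuotientGroup.eq_one_iff]
      refine ⟨y, ?_, rfl⟩
      rw [SetLike.mem_coe, ← QuotientGroup.eq_one_iff, ← QuotientGroup.mk'_apply, ← hπ, hy',
        pow_eq_pow_of_cast (hqe (π z)) (b := 0) (by rw [hl, Nat.cast_zero]), pow_zero]
    rw [this, one_pow]
  · -- normalise
    obtain ⟨t1, ht1⟩ : ∃ t1 : E, (t1 : X) = ⁅x, ((e ^ l : E) : X)⁆ :=
      ⟨c (e ^ l) * (e ^ l)⁻¹, by
        rw [Subgroup.coe_mul, hc, MulAut.conjNormal_apply, Subgroup.coe_inv, commutatorElement_def]⟩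
    have ht1e : t1 = c (e ^ l) * (e ^ l)⁻¹ := Subtype.ext (by
      rw [ht1, Subgroup.coe_mul, hc, MulAut.conjNormal_apply, Subgroup.coe_inv, commutatorElement_def])
    have pe : π (c e) = π e * π t := by
      rw [← map_mul]; exact QuotientGroup.eq.2 h.xe
    have pt : π (c t) = π t * π z := by
      rw [← map_mul]; exact QuotientGroup.eq.2 h.xt
    have pz : π (c z) = π z := QuotientGroup.eq.2 h.xz
    have pt1 : π t1 = π t ^ l := by
      rw [ht1e, map_mul, map_inv, map_pow, map_pow, map_pow, pe,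
        (show Commute (π e) (π t) from hqc _ _).mul_pow, hqc (π e ^ l), mul_inv_cancel_right]
    obtain ⟨k, hk⟩ : ∃ k : ℕ, ((l * k : ℕ) : ZMod p) = 1 := ⟨((l : ZMod p)⁻¹).val, by
      rw [Nat.cast_mul, ZMod.natCast_zmod_val, mul_inv_cancel₀ hl]⟩
    have back : ∀ (u w : E), π w = π u ^ l → π u = π w ^ k := fun u w hw => by
      rw [hw, ← pow_mul, pow_eq_pow_of_cast (hqe (π u)) (b := 1) (by rw [hk, Nat.cast_one]), pow_one]
    have hgen1 : closure ({e ^ l, t1, y} : Set E) ⊔ frattini E = ⊤ := by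
      refine top_le_iff.1 (h.hyp.closure_eq ▸ (closure_le _).2 ?_)
      intro u hu
      have main : ∀ (u w : E), π w = π u ^ l → w ∈ ({e ^ l, t1, y} : Set E) →
          u ∈ closure ({e ^ l, t1, y} : Set E) ⊔ frattini E := fun u w hw hmem => by
        have h1 := back u w hw
        rw [← map_pow] at h1
        have h2 : (w ^ k)⁻¹ * u ∈ frattini E := QuotientGroup.eq.1 h1.symm
        have := mul_mem (mem_sup_left (pow_mem (subset_closure hmem) k))
          (mem_sup_right h2 : (w ^ k)⁻¹ * u ∈ closure ({e ^ l, t1, y} : Set E) ⊔ frattini E)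
        rwa [mul_inv_cancel_left] at this
      rcases hu with rfl | rfl | rfl
      exacts [main _ _ (map_pow π u l) (by simp), main _ _ pt1 (by simp), main _ _ hy' (by simp)]
    have h1 : RegData p E x (e ^ l) t1 y :=
      { pgroup := h.pgroup, five := h.five, index := h.index, not_mem := h.not_mem
        hyp := ⟨h.hyp.pgroup, h.hyp.rank, h.hyp.index, hgen1⟩
        xe := QuotientGroup.eq.1 (show π (c (e ^ l)) = π (e ^ l * t1) by
          rw [map_mul, pt1, map_pow, map_pow, map_pow, pe,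
            (show Commute (π e) (π t) from hqc _ _).mul_pow])
        xt := QuotientGroup.eq.1 (show π (c t1) = π (t1 * y) by
          have h2 : π (c t1) = π (c (t ^ l)) := hπc _ _ (QuotientGroup.eq.1 (pt1.trans (map_pow π t l).symm))
          rw [h2, map_mul, pt1, hy', map_pow, map_pow, pt,
            (show Commute (π t) (π z) from hqc _ _).mul_pow])
        xz := QuotientGroup.eq.1 (show π (c y) = π y by rw [hcy])
        omega := h.omega }
    exact h1.false_norm A irr rfl ht1 hB1 hB2 hne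

end Cfsg.Agent.RankThreeEss
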