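import Cfsg.Agent.RankThreeEss.Module
import Cfsg.Agent.RankThreeEss.Reg3

/-!
Extending automorphisms to normalizers; the action of a regular unipotent element is excluded.
-/

set_option autoImplicit false

namespace Cfsg.Agent.RankThreeEss

open Cfsg Cfsg.FusionSystem Cfsg.Agent.FusSys Subgroup

universe u

variable {p : ℕ} [hp : Fact p.Prime]
variable {Ω : Type u} [Group Ω] {S : Subgroup Ω} {F : FusionSystem S} {E P : Subgroup Ω}

/-- An automorphism normalising the automorphisms induced by `S` extends to the normalizer. -/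
theorem exists_extension [Finite S] (hS : IsPGroup p S) (hF : F.IsSaturated p)
    (hP : F.IsFullyNormalized P) {α : MulAut P} (hα : α ∈ F.autGroup P)
    (hn : ∀ γ ∈ autInducedBy S P, α * γ * α⁻¹ ∈ autInducedBy S P) :
    ∃ h ∈ F.autGroup (normalizerIn S P), ∀ a ∈ P, apl h a = apl α a := by
  have hPS := hP.1
  have hiso : Iso F P P (apl α) := iso_apl hPS hα
  obtain ⟨f, hf, hfx⟩ := (isReceptive_iff.1 (receptive_of_fullyNormalized hS hF hP)).2 P _ hiso
  have hle : normalizerIn S P ≤ nPhi S P (apl α) := fun n hn' => by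
    obtain ⟨γ, hγ, hγx⟩ := exists_mem_autInducedBy (P := P) (K := S) hn'.1 hn'.2
    obtain ⟨m, hm, -, hmx⟩ := mem_autInducedBy_iff.1 (hn γ hγ)
    refine ⟨hn'.1, hn'.2, m, hm, fun z hz => ?_⟩
    rw [← hmx _ (apl_mem _ hz), ← hγx z hz, ← apl_mul _ _ hz, ← apl_mul _ _ hz, inv_mul_cancel_right]
  have hfN := hf.mono hle
  have hPN : P ≤ normalizerIn S P := le_normalizerIn hPS
  have hfiso : Iso F P P f := hiso.congr hfx
  have hfm : ∀ z ∈ normalizerIn S P, f z ∈ normalizerIn S P := fun z hz =>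
    hfN.mem_normalizerIn hPN hfiso hz hz.2
  have hI : Iso F (normalizerIn S P) (normalizerIn S P) f :=
    ⟨hfN, fun y => ⟨fun hy => hfN.surj_of_card inf_le_left hfm le_rfl hy,
      fun ⟨z, hz, hzy⟩ => hzy ▸ hfm z hz⟩⟩
  obtain ⟨h, hh, hhx⟩ := hI.exists_mem_autGroup
  exact ⟨h, hh, fun a ha => by rw [hhx a (hPN ha), hfx a ha]⟩

/-- A subgroup of `S` equal to its normalizer is `S`. -/
theorem eq_of_normalizerIn_eq [Finite S] (hS : IsPGroup p S) {M : Subgroup Ω} (hM : M ≤ S)
    (h : normalizerIn S M = M) : M = S := by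
  refine le_antisymm hM fun y hy => ?_
  by_contra hyM
  haveI := hS.isNilpotent
  have hne : M.subgroupOf S ≠ ⊤ := fun e => hyM (subgroupOf_eq_top.1 e hy)
  obtain ⟨⟨g, hg⟩, hgn, hgM⟩ := SetLike.exists_of_lt
    (Group.normalizerCondition_of_isNilpotent _ (lt_top_iff_ne_top.2 hne))
  haveI := finite_of_le hM
  refine hgM (mem_subgroupOf.2 (h.le ⟨hg, mem_normalizer_fintype (S := (M : Set Ω)) fun a ha => ?_⟩))
  exact (Subgroup.mem_normalizer_iff.1 hgn ⟨a, hM ha⟩).1 ha

/-- The regular case gives `M = S`. -/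
theorem reg_case [Finite S] (hp5 : 5 ≤ p) (hS : IsPGroup p S)
    (hES : E ≤ S) {x : normalizerIn S E} (hx : x ∉ E.subgroupOf (normalizerIn S E))
    (hidx : (E.subgroupOf (normalizerIn S E)).index = p)
    {e t z : ↥(E.subgroupOf (normalizerIn S E))} (hyp : EHyp p e t z)
    (xe : Cg (MulAut.conjNormal x e) (e * t)) (xt : Cg (MulAut.conjNormal x t) (t * z))
    (xz : Cg (MulAut.conjNormal x z) z)
    (irr : ∀ W : Subgroup ↥(E.subgroupOf (normalizerIn S E)),
      frattini ↥(E.subgroupOf (normalizerIn S E)) ≤ W →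
        (∀ α ∈ (F.autGroup E).map (toN hES), ∀ w ∈ W, α w ∈ W) →
          W = frattini ↥(E.subgroupOf (normalizerIn S E)) ∨ W = ⊤) :
    normalizerIn S E = S := by
  have hMS : (normalizerIn S E) ≤ S := inf_le_left
  haveI : Finite (normalizerIn S E) := finite_of_le hMS
  have hMp : IsPGroup p (normalizerIn S E) := hS.to_le hMS
  haveI := finite_of_le hES
  refine eq_of_normalizerIn_eq hS hMS (le_antisymm ?_ (le_normalizerIn hMS))
  intro g hg
  by_contra hgM
  set c : Subgroup.normalizer ((normalizerIn S E) : Set Ω) →* MulAut (normalizerIn S E) := (normalizerIn S E).normalizerMonoidHom with hc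
  have cx : ∀ (y : Subgroup.normalizer ((normalizerIn S E) : Set Ω)) (a : (normalizerIn S E)), ((c y a : (normalizerIn S E)) : Ω) = y * a * (y : Ω)⁻¹ :=
    fun y a => rfl
  have fix_mem : ∀ y : Subgroup.normalizer ((normalizerIn S E) : Set Ω), (y : Ω) ∈ S →
      (E.subgroupOf (normalizerIn S E)).map (c y).toMonoidHom = (E.subgroupOf (normalizerIn S E)) → (y : Ω) ∈ (normalizerIn S E) := by
    intro y hy e0
    refine ⟨hy, mem_normalizer_fintype (S := (E : Set Ω)) fun a ha => ?_⟩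
    have h1 : c y ⟨a, le_normalizerIn hES ha⟩ ∈ (E.subgroupOf (normalizerIn S E)) := e0.le (mem_map_of_mem _ (mem_subgroupOf.2 ha))
    rw [mem_subgroupOf, cx] at h1
    exact h1
  have hcopy : ∀ y : Subgroup.normalizer ((normalizerIn S E) : Set Ω), (y : Ω) ∈ S → (y : Ω) ∉ (normalizerIn S E) →
      Copy p (E.subgroupOf (normalizerIn S E)) ((E.subgroupOf (normalizerIn S E)).map (c y).toMonoidHom) := fun y hy hyM =>
    ⟨(index_map_equiv (E.subgroupOf (normalizerIn S E)) (c y)).trans hidx, ⟨(E.subgroupOf (normalizerIn S E)).equivMapOfInjective _ (c y).injective⟩,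
      fun e0 => hyM (fix_mem y hy e0)⟩
  set y : Subgroup.normalizer ((normalizerIn S E) : Set Ω) := ⟨g, hg.2⟩ with hy
  have hy2 : ((y ^ 2 : Subgroup.normalizer ((normalizerIn S E) : Set Ω)) : Ω) ∉ (normalizerIn S E) := fun h2 => by
    refine hgM ?_
    obtain ⟨n, hn⟩ := hS ⟨g, hg.1⟩
    have hn' : g ^ p ^ n = 1 := congrArg Subtype.val hn
    obtain ⟨q, hq⟩ : Odd (p ^ n) := (hp.out.odd_of_ne_two (by omega)).pow
    have h3 : ((g ^ 2) ^ (q + 1)) = g := by
      rw [← pow_mul, show 2 * (q + 1) = p ^ n + 1 by omega, pow_succ, hn', one_mul]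
    exact h3 ▸ pow_mem h2 _
  have hne : (E.subgroupOf (normalizerIn S E)).map (c y).toMonoidHom ≠ (E.subgroupOf (normalizerIn S E)).map (c (y ^ 2)).toMonoidHom := fun e0 => by
    refine hgM (fix_mem y hg.1 ?_)
    rw [pow_two, map_mul] at e0
    have e1 : ((E.subgroupOf (normalizerIn S E)).map (c y).toMonoidHom).map (c y).toMonoidHom = (E.subgroupOf (normalizerIn S E)).map (c y).toMonoidHom := by
      rw [map_map]; exact e0.symm
    exact map_injective (f := (c y).toMonoidHom) (c y).injective e1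
  obtain ⟨n, hn⟩ := hMp x
  have hom := hyp.reg ((F.autGroup E).map (toN hES) : Set (MulAut (E.subgroupOf (normalizerIn S E))))
    (τ := MulAut.conjNormal x) (k := n) (by rw [← map_pow, hn, map_one]) xe xt xz irr
  exact RegData.no_reg ⟨hMp, hp5, hidx, hx, hyp, xe, xt, xz, hom⟩ _ irr
    (hcopy y hg.1 hgM) (hcopy (y ^ 2) (pow_mem hg.1 2) hy2) hne

/-- A unit of `ZMod p` of large order. -/
theorem exists_scalar (hp5 : 5 ≤ p) :
    ∃ k : ZMod p, k ≠ 0 ∧ k ^ 2 ≠ 1 ∧ k ^ 3 ≠ 1 ∧ k ^ 5 ≠ 1 := by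
  obtain ⟨g, hg⟩ := IsCyclic.exists_generator (α := (ZMod p)ˣ)
  have ho : orderOf g = p - 1 := by
    rw [orderOf_eq_card_of_forall_mem_zpowers hg, Nat.card_eq_fintype_card, ZMod.card_units]
  have key : ∀ j : ℕ, (g : ZMod p) ^ j = 1 → p - 1 ∣ j := fun j hj => by
    rw [← ho]
    exact orderOf_dvd_of_pow_eq_one (Units.ext (by push_cast; exact hj))
  refine ⟨g, g.ne_zero, fun h => ?_, fun h => ?_, fun h => ?_⟩
  · have := Nat.le_of_dvd (by norm_num) (key 2 h); omega
  · have := Nat.le_of_dvd (by norm_num) (key 3 h); omega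
  · have h5 := key 5 h
    have := Nat.le_of_dvd (by norm_num) h5
    have h6 : p ≤ 6 := by omega
    interval_cases p
    · norm_num at h5
    · exact absurd hp.out (by norm_num)

end Cfsg.Agent.RankThreeEss
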