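import Cfsg.Agent.RankThreeEss.PairBase

/-!
Coordinates in `X / Φ` for the transvection case: a Heisenberg group times a group of order `p`.
-/

set_option autoImplicit false

namespace Cfsg.Agent.RankThreeEss

open Subgroup
open scoped commutatorElement

variable {p : ℕ} [hp : Fact p.Prime] {X : Type*} [Group X] [Finite X] {E Φ : Subgroup X} [Φ.Normal]
  {h : MulAut X} {k : ZMod p} {x e z u : X}

local notation "π" => QuotientGroup.mk' Φ

omit hp [Finite X] in
theorem PairBase.exp_q (d : PairBase p E Φ h k x e z u) (y : X ⧸ Φ) : y ^ p = 1 := by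
  obtain ⟨g, rfl⟩ := QuotientGroup.mk'_surjective Φ y
  rw [← map_pow, QuotientGroup.mk'_apply, QuotientGroup.eq_one_iff]
  exact d.powers g

omit hp [Finite X] in
theorem comm_one {a b : X} (hab : ⁅a, b⁆ ∈ Φ) : ⁅π a, π b⁆ = 1 := by
  rw [← map_commutatorElement, QuotientGroup.mk'_apply, QuotientGroup.eq_one_iff]
  exact hab

omit hp [Finite X] in
theorem PairBase.gen_q (d : PairBase p E Φ h k x e z u) :
    closure ({π x, π e, π z, π u} : Set (X ⧸ Φ)) = ⊤ := by
  have h1 := congrArg (Subgroup.map (QuotientGroup.mk' Φ)) d.gen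
  rw [Subgroup.map_sup, MonoidHom.map_closure, QuotientGroup.map_mk'_self, sup_bot_eq,
    map_top_of_surjective _ (QuotientGroup.mk'_surjective Φ)] at h1
  simpa [Set.image_insert_eq] using h1

omit hp [Finite X] in
theorem PairBase.xe_q (d : PairBase p E Φ h k x e z u) : ⁅π x, π e⁆ = π z := by
  rw [← map_commutatorElement]
  exact QuotientGroup.eq.2 d.xe

omit hp [Finite X] in
theorem PairBase.central_q (d : PairBase p E Φ h k x e z u) :
    (∀ g : X ⧸ Φ, π z * g = g * π z) ∧ ∀ g : X ⧸ Φ, π u * g = g * π u := by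
  have key : ∀ w : X ⧸ Φ, Commute w (π x) → Commute w (π e) → Commute w (π z) → Commute w (π u) →
      ∀ g, w * g = g * w := by
    intro w w1 w2 w3 w4 g
    have hle : closure ({π x, π e, π z, π u} : Set (X ⧸ Φ)) ≤ centralizer ({w} : Set (X ⧸ Φ)) := by
      rw [closure_le]
      rintro y (rfl | rfl | rfl | rfl) <;> rw [SetLike.mem_coe, mem_centralizer_singleton_iff]
      exacts [w1.eq.symm, w2.eq.symm, w3.eq.symm, w4.eq.symm]
    exact (mem_centralizer_singleton_iff.1 (hle (d.gen_q ▸ mem_top g))).symm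
  have c : ∀ a b : X, ⁅a, b⁆ ∈ Φ → Commute (π a) (π b) := fun a b hab =>
    commutatorElement_eq_one_iff_mul_comm.1 (comm_one hab)
  exact ⟨key _ (c _ _ d.xz).symm (c _ _ d.ez).symm (Commute.refl _) (c _ _ d.zu),
    key _ (c _ _ d.xu).symm (c _ _ d.eu).symm (c _ _ d.zu).symm (Commute.refl _)⟩

omit hp [Finite X] in
theorem PairBase.class_two (d : PairBase p E Φ h k x e z u) : CommCentral (X ⧸ Φ) := by
  obtain ⟨hz, hu⟩ := d.central_q
  have zc : ∀ (a b : X ⧸ Φ), (∀ g, a * g = g * a) → ∀ g, ⁅a, b⁆ * g = g * ⁅a, b⁆ := fun a b ha g => by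
    rw [commutatorElement_eq_one_iff_mul_comm.2 (ha b), one_mul, mul_one]
  have zc' : ∀ (a b : X ⧸ Φ), (∀ g, b * g = g * b) → ∀ g, ⁅a, b⁆ * g = g * ⁅a, b⁆ := fun a b hb g => by
    rw [commutatorElement_eq_one_iff_mul_comm.2 (hb a).symm, one_mul, mul_one]
  refine commCentral_of_gens d.gen_q ?_
  rintro a (rfl | rfl | rfl | rfl) b (rfl | rfl | rfl | rfl) g
  all_goals first
    | exact zc _ _ hz g
    | exact zc _ _ hu g
    | exact zc' _ _ hz g
    | exact zc' _ _ hu g
    | rw [commutatorElement_self, one_mul, mul_one]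
    | (rw [d.xe_q]; exact hz g)
    | (rw [← commutatorElement_inv, d.xe_q]; exact (show Commute (π z) g from hz g).inv_left.eq)

/-- The elements with given coordinates. -/
def coordEl (Φ : Subgroup X) [Φ.Normal] (x e z u : X) (v : ZMod p × ZMod p × ZMod p × ZMod p) : X ⧸ Φ :=
  zp (QuotientGroup.mk' Φ x) v.1 * zp (QuotientGroup.mk' Φ e) v.2.1 *
    (zp (QuotientGroup.mk' Φ z) v.2.2.1 * zp (QuotientGroup.mk' Φ u) v.2.2.2)

/-- `⟨z, u⟩` modulo `Φ`. -/
def cen (Φ : Subgroup X) [Φ.Normal] (z u : X) : Subgroup (X ⧸ Φ) :=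
  closure {QuotientGroup.mk' Φ z, QuotientGroup.mk' Φ u}

omit hp [Finite X] in
theorem PairBase.cen_le_center (d : PairBase p E Φ h k x e z u) :
    cen Φ z u ≤ center (X ⧸ Φ) := by
  rw [cen, closure_le]
  rintro y (rfl | rfl)
  · exact mem_center_iff.2 fun g => (d.central_q.1 g).symm
  · exact mem_center_iff.2 fun g => (d.central_q.2 g).symm

omit hp [Finite X] in
theorem PairBase.cen_normal (d : PairBase p E Φ h k x e z u) : (cen Φ z u).Normal :=
  ⟨fun n hn g => by rwa [mem_center_iff.1 (d.cen_le_center hn) g, mul_inv_cancel_right]⟩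

omit [Finite X] in
theorem PairBase.cen_coord (d : PairBase p E Φ h k x e z u) {y : X ⧸ Φ} (hy : y ∈ cen Φ z u) :
    ∃ c w : ZMod p, y = zp (π z) c * zp (π u) w := by
  haveI : NeZero p := ⟨hp.out.ne_zero⟩
  have hc := d.central_q.1
  rw [cen] at hy
  induction hy using Subgroup.closure_induction with
  | mem y hy =>
    rcases hy with rfl | rfl
    exacts [⟨1, 0, by rw [zp_one, zp_zero, mul_one]⟩, ⟨0, 1, by rw [zp_one, zp_zero, one_mul]⟩]
  | one => exact ⟨0, 0, by rw [zp_zero, zp_zero, mul_one]⟩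
  | mul a b _ _ ha hb =>
    obtain ⟨c, w, rfl⟩ := ha
    obtain ⟨c', w', rfl⟩ := hb
    refine ⟨c + c', w + w', ?_⟩
    rw [zp_add (d.exp_q _), zp_add (d.exp_q _),
      (show Commute (zp (π u) w) (zp (π z) c') from
        ((show Commute (π z) (π u) from hc _).symm.pow_pow _ _)).mul_mul_mul_comm]
  | inv a _ ha =>
    obtain ⟨c, w, rfl⟩ := ha
    refine ⟨-c, -w, ?_⟩
    rw [zp_neg (d.exp_q _), zp_neg (d.exp_q _), mul_inv_rev]
    exact (((show Commute (π z) (π u) from hc _).symm.pow_pow _ _).inv_inv).eq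

omit [Finite X] in
theorem PairBase.surj (d : PairBase p E Φ h k x e z u) :
    Function.Surjective (coordEl (p := p) Φ x e z u) := by
  haveI := d.cen_normal
  intro y
  set q := QuotientGroup.mk' (cen Φ z u) with hq
  have hgen : closure ({q (π x), q (π e), 1} : Set _) = ⊤ := by
    refine top_le_iff.1 ?_
    rw [← map_top_of_surjective q (QuotientGroup.mk'_surjective _), ← d.gen_q, MonoidHom.map_closure,
      closure_le]
    rintro _ ⟨g, hg, rfl⟩
    rcases hg with rfl | rfl | rfl | rfl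
    · exact subset_closure (by simp)
    · exact subset_closure (by simp)
    · rw [show q (π z) = 1 from (QuotientGroup.eq_one_iff _).2 (subset_closure (by simp))]; exact one_mem _
    · rw [show q (π u) = 1 from (QuotientGroup.eq_one_iff _).2 (subset_closure (by simp))]; exact one_mem _
  have hexp : ∀ g : (X ⧸ Φ) ⧸ cen Φ z u, g ^ p = 1 := fun g => by
    obtain ⟨g, rfl⟩ := QuotientGroup.mk'_surjective _ g
    rw [← map_pow, d.exp_q, map_one]
  have hcomm : ∀ a b : (X ⧸ Φ) ⧸ cen Φ z u, a * b = b * a := by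
    haveI : IsMulCommutative (closure ({q (π x), q (π e), 1} : Set _)) := isMulCommutative_closure (by
      have hxe : q (π x) * q (π e) = q (π e) * q (π x) := by
        rw [← commutatorElement_eq_one_iff_mul_comm, ← map_commutatorElement, d.xe_q]
        exact (QuotientGroup.eq_one_iff _).2 (subset_closure (by simp))
      rintro a (rfl | rfl | rfl) b (rfl | rfl | rfl)
      all_goals first
        | rfl
        | exact hxe
        | exact hxe.symm
        | rw [one_mul, mul_one]
        | rw [mul_one, one_mul])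
    exact fun a b => congrArg Subtype.val (mul_comm'
      (⟨a, hgen ▸ mem_top a⟩ : Subgroup.closure ({q (π x), q (π e), 1} : Set _)) ⟨b, hgen ▸ mem_top b⟩)
  obtain ⟨i, j, l, hij⟩ := closure_three_coords hexp hcomm (hgen.symm ▸ mem_top (q y))
  rw [one_pow, mul_one] at hij
  have hmem : (π x ^ i * π e ^ j)⁻¹ * y ∈ cen Φ z u := by
    rw [← QuotientGroup.eq_one_iff, ← QuotientGroup.mk'_apply, ← hq, map_mul, map_inv, map_mul, map_pow,
      map_pow, hij, inv_mul_cancel]
  obtain ⟨c, w, hcw⟩ := d.cen_coord hmem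
  refine ⟨(i, j, c, w), ?_⟩
  simp only [coordEl]
  rw [zp_natCast (d.exp_q _), zp_natCast (d.exp_q _), ← hcw, mul_inv_cancel_left]

theorem PairBase.inj (d : PairBase p E Φ h k x e z u) :
    Function.Injective (coordEl (p := p) Φ x e z u) := by
  haveI : NeZero p := ⟨hp.out.ne_zero⟩
  refine (d.surj.bijective_of_nat_card_le ?_).1
  rw [Nat.card_prod, Nat.card_prod, Nat.card_prod, Nat.card_zmod, ← index_eq_card, d.index]
  exact le_of_eq (by ring)

theorem PairBase.indep_cen (d : PairBase p E Φ h k x e z u) {a b : ZMod p}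
    (hab : zp (π x) a * zp (π e) b ∈ cen Φ z u) : a = 0 ∧ b = 0 := by
  obtain ⟨c, w, hcw⟩ := d.cen_coord hab
  have h1 : coordEl Φ x e z u (a, b, (0 : ZMod p), (0 : ZMod p)) = coordEl Φ x e z u (0, 0, c, w) := by
    simp only [coordEl, zp_zero, mul_one, one_mul, hcw]
  have h2 := d.inj h1
  exact ⟨congrArg Prod.fst h2, congrArg (fun v => v.2.1) h2⟩

theorem PairBase.indep_zu (d : PairBase p E Φ h k x e z u) {c w : ZMod p}
    (hcw : zp (π z) c * zp (π u) w = 1) : c = 0 ∧ w = 0 := by
  have h1 : coordEl Φ x e z u ((0 : ZMod p), (0 : ZMod p), c, w) = coordEl Φ x e z u ((0 : ZMod p), (0 : ZMod p), (0 : ZMod p), (0 : ZMod p)) := by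
    simp only [coordEl, zp_zero, mul_one, one_mul, hcw]
  have h2 := d.inj h1
  exact ⟨congrArg (fun v => v.2.2.1) h2, congrArg (fun v => v.2.2.2) h2⟩

theorem PairBase.x_ne (d : PairBase p E Φ h k x e z u) : π x ∉ cen Φ z u := fun hx =>
  one_ne_zero (d.indep_cen (a := (1 : ZMod p)) (b := 0) (by rwa [zp_one, zp_zero (p := p), mul_one])).1

theorem PairBase.z_ne (d : PairBase p E Φ h k x e z u) : π z ≠ 1 := fun hz =>
  one_ne_zero (d.indep_zu (c := (1 : ZMod p)) (w := 0) (by rw [zp_one, zp_zero (p := p), mul_one, hz])).1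

omit hp [Finite X] in
theorem PairBase.comap_cen (d : PairBase p E Φ h k x e z u) :
    (cen Φ z u).comap (QuotientGroup.mk' Φ) = closure ({z, u} : Set X) ⊔ Φ := by
  rw [cen, ← Set.image_pair, ← MonoidHom.map_closure, comap_map_eq, QuotientGroup.ker_mk']

theorem PairBase.center_q (d : PairBase p E Φ h k x e z u) : center (X ⧸ Φ) = cen Φ z u := by
  refine le_antisymm (fun y hy => ?_) d.cen_le_center
  obtain ⟨⟨a, b, c, w⟩, rfl⟩ := d.surj y
  have hzu : zp (π z) c * zp (π u) w ∈ cen Φ z u :=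
    mul_mem (pow_mem (subset_closure (by simp)) _) (pow_mem (subset_closure (by simp)) _)
  have hcc := d.class_two
  have hab : zp (π x) a * zp (π e) b ∈ center (X ⧸ Φ) := by
    have := mul_mem hy (inv_mem (d.cen_le_center hzu))
    simpa [coordEl, mul_assoc] using this
  have h1 : ⁅zp (π x) a * zp (π e) b, π e⁆ = 1 :=
    commutatorElement_eq_one_iff_mul_comm.2 (mem_center_iff.1 hab _).symm
  have h2 : ⁅zp (π x) a * zp (π e) b, π x⁆ = 1 :=
    commutatorElement_eq_one_iff_mul_comm.2 (mem_center_iff.1 hab _).symm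
  rw [hcc.mul_left, zp, zp, hcc.pow_left, hcc.pow_left, d.xe_q, commutatorElement_self, one_pow,
    mul_one] at h1
  rw [hcc.mul_left, zp, zp, hcc.pow_left, hcc.pow_left, ← commutatorElement_inv (π x) (π e), d.xe_q,
    commutatorElement_self, one_pow, one_mul, inv_pow, inv_eq_one] at h2
  have ha : a = 0 := by
    by_contra ha
    exact d.z_ne (zp_eq_one (d.exp_q _) ha h1)
  have hb : b = 0 := by
    by_contra hb
    exact d.z_ne (zp_eq_one (d.exp_q _) hb h2)
  rw [ha, hb]
  simpa [coordEl, zp_zero] using hzu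

/-- Automorphisms preserve `⟨z, u⟩ Φ`. -/
theorem PairBase.cen_invariant (d : PairBase p E Φ h k x e z u) (α : MulAut X) {m : X}
    (hm : m ∈ closure ({z, u} : Set X) ⊔ Φ) : α m ∈ closure ({z, u} : Set X) ⊔ Φ := by
  rw [← d.comap_cen, mem_comap, ← d.center_q] at hm ⊢
  refine mem_center_iff.2 fun g => ?_
  obtain ⟨g, rfl⟩ := QuotientGroup.mk'_surjective Φ g
  obtain ⟨g, rfl⟩ := α.surjective g
  have h1 := mem_center_iff.1 hm (π g)
  rw [← map_mul, ← map_mul, QuotientGroup.mk'_apply, QuotientGroup.mk'_apply, QuotientGroup.eq] at h1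
  rw [← map_mul (QuotientGroup.mk' Φ), ← map_mul (QuotientGroup.mk' Φ), ← map_mul α, ← map_mul α,
    QuotientGroup.mk'_apply, QuotientGroup.mk'_apply, QuotientGroup.eq, ← map_inv, ← map_mul]
  exact d.char α _ h1

/-- Automorphisms preserve `⟨z⟩ Φ`. -/
theorem PairBase.z0_invariant (d : PairBase p E Φ h k x e z u) (α : MulAut X) {m : X}
    (hm : m ∈ closure ({z} : Set X) ⊔ Φ) : α m ∈ closure ({z} : Set X) ⊔ Φ := by
  haveI := d.normal
  have hcom : ∀ a b : X, ⁅a, b⁆ ∈ closure ({z} : Set X) ⊔ Φ := by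
    intro a b
    have h1 : ⁅π a, π b⁆ ∈ (closure ({z} : Set X)).map (QuotientGroup.mk' Φ) := by
      refine commutator_le_of_gens d.class_two d.gen_q ?_ _ _
      have hz : π z ∈ (closure ({z} : Set X)).map (QuotientGroup.mk' Φ) :=
        mem_map_of_mem _ (subset_closure rfl)
      rintro a (rfl | rfl | rfl | rfl) b (rfl | rfl | rfl | rfl)
      all_goals first
        | (rw [d.xe_q]; exact hz)
        | (rw [← commutatorElement_inv, d.xe_q]; exact inv_mem hz)
        | (rw [commutatorElement_eq_one_iff_mul_comm.2 (d.central_q.1 _)]; exact one_mem _)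
        | (rw [commutatorElement_eq_one_iff_mul_comm.2 (d.central_q.2 _)]; exact one_mem _)
        | (rw [commutatorElement_eq_one_iff_mul_comm.2 (d.central_q.1 _).symm]; exact one_mem _)
        | (rw [commutatorElement_eq_one_iff_mul_comm.2 (d.central_q.2 _).symm]; exact one_mem _)
        | (rw [commutatorElement_self]; exact one_mem _)
    rw [← map_commutatorElement] at h1
    have h2 : ⁅a, b⁆ ∈ ((closure ({z} : Set X)).map (QuotientGroup.mk' Φ)).comap (QuotientGroup.mk' Φ) := h1
    rwa [comap_map_eq, QuotientGroup.ker_mk'] at h2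
  have hle : closure ({z} : Set X) ⊔ Φ ≤ (closure ({z} : Set X) ⊔ Φ).comap α.toMonoidHom := by
    refine sup_le ((closure_le _).2 ?_) fun w hw => mem_sup_right (d.char α w hw)
    intro y hy
    rw [Set.mem_singleton_iff] at hy
    subst hy
    have e1 : y = ⁅x, e⁆ * (⁅x, e⁆⁻¹ * y) := (mul_inv_cancel_left _ _).symm
    show α y ∈ closure ({y} : Set X) ⊔ Φ
    rw [e1, map_mul, map_commutatorElement, ← e1]
    exact mul_mem (hcom _ _) (mem_sup_right (d.char α _ d.xe))
  exact hle hm

end Cfsg.Agent.RankThreeEss
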