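import Cfsg.Agent.RankThreeEss.Reg3
import Cfsg.Agent.RankThreeEss.PairAlg

/-!
The transvection case: the normalizer modulo the Frattini subgroup, and the behaviour of the copies
of the essential subgroup.
-/

set_option autoImplicit false

namespace Cfsg.Agent.RankThreeEss

open Subgroup
open scoped commutatorElement

variable {p : ℕ} [hp : Fact p.Prime] {X : Type*} [Group X] [Finite X] {E : Subgroup X}

/-- The raw data of the transvection case. -/
structure PairData (p : ℕ) (E : Subgroup X) [E.Normal] (h : MulAut X) (k : ZMod p) (x : X)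
    (e z u : E) : Prop where
  pgroup : IsPGroup p X
  five : 5 ≤ p
  index : E.index = p
  not_mem : x ∉ E
  hyp : EHyp p e z u
  xe : Cg (MulAut.conjNormal x e) (e * z)
  xz : Cg (MulAut.conjNormal x z) z
  xu : Cg (MulAut.conjNormal x u) u
  lcs : (⊤ : Subgroup E).lowerCentralSeries 2 ≤ agemo p ⊤
  ucent : ∀ g : E, ⁅u, g⁆ ∈ agemo p (⊤ : Subgroup E)
  k0 : k ≠ 0
  k2 : k ^ 2 ≠ 1
  k3 : k ^ 3 ≠ 1
  k5 : k ^ 5 ≠ 1
  hE : ∀ a ∈ E, h a ∈ E
  he : Cn ((frattini E).map E.subtype) (h e) ((e : X) ^ k⁻¹.val)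
  hz : Cn ((frattini E).map E.subtype) (h z) ((z : X) ^ k.val)
  hu : Cn ((frattini E).map E.subtype) (h u) u

omit [Finite X] hp in
theorem frattini_map_iso {H K : Type*} [Group H] [Group K] [Finite H] [Finite K] (φ : H ≃* K) :
    (frattini H).map φ.toMonoidHom = frattini K := by
  refine le_antisymm (Core.map_frattini_le_of_surjective φ.surjective) ?_
  intro y hy
  refine ⟨φ.symm y, ?_, φ.apply_symm_apply y⟩
  exact Core.map_frattini_le_of_surjective (f := φ.symm.toMonoidHom) φ.symm.surjective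
    (mem_map_of_mem _ hy)

omit hp in
theorem frattini_image (α : MulAut X) (H : Subgroup X) :
    ((frattini H).map H.subtype).map α.toMonoidHom =
      (frattini (H.map α.toMonoidHom)).map (H.map α.toMonoidHom).subtype := by
  rw [← frattini_map_iso (H.equivMapOfInjective α.toMonoidHom α.injective), map_map, map_map]
  rfl

variable [hEn : E.Normal] {h : MulAut X} {k : ZMod p} {x : X} {e z u : E}

/-- The facts in `E / Φ(E)`, read in a quotient of `X`. -/
theorem PairData.vq (d : PairData p E h k x e z u) {Y : Type*} [Group Y] (π : X →* Y)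
    (hker : π.ker = (frattini E).map E.subtype) :
    (∀ a b : E, Cg a b → π (a : X) = π (b : X)) ∧
    (∀ a b : E, Commute (π (a : X)) (π (b : X))) ∧
    (∀ a : E, π (a : X) ^ p = 1) ∧
    π x * π (e : X) * (π x)⁻¹ = π (e : X) * π (z : X) ∧
    π x * π (z : X) * (π x)⁻¹ = π (z : X) ∧
    π x * π (u : X) * (π x)⁻¹ = π (u : X) ∧
    ∀ a b c : ℕ, π (e : X) ^ a * π (z : X) ^ b * π (u : X) ^ c = 1 →
      (a : ZMod p) = 0 ∧ (b : ZMod p) = 0 ∧ (c : ZMod p) = 0 := by
  obtain ⟨hqc, hqe⟩ := d.hyp.quot_props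
  have hmem : ∀ a : E, π (a : X) = 1 ↔ a ∈ frattini E := fun a => by
    rw [← MonoidHom.mem_ker, hker]
    exact mem_map_iff_mem E.subtype_injective
  have hcg : ∀ a b : E, Cg a b → π (a : X) = π (b : X) := fun a b hab => by
    have := (hmem _).2 hab
    rwa [Subgroup.coe_mul, map_mul, Subgroup.coe_inv, map_inv, inv_mul_eq_one] at this
  refine ⟨hcg, fun a b => ?_, fun a => ?_, ?_, ?_, ?_, fun a b c habc => ?_⟩
  · rw [commute_iff_eq, ← map_mul, ← map_mul, ← Subgroup.coe_mul, ← Subgroup.coe_mul]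
    refine hcg _ _ (QuotientGroup.eq.1 ?_)
    rw [QuotientGroup.mk_mul, QuotientGroup.mk_mul]
    exact hqc _ _
  · rw [← map_pow, ← SubmonoidClass.coe_pow, hmem, ← QuotientGroup.eq_one_iff, QuotientGroup.mk_pow]
    exact hqe _
  · have := hcg _ _ d.xe
    rwa [MulAut.conjNormal_apply, Subgroup.coe_mul, map_mul, map_mul, map_inv, map_mul] at this
  · have := hcg _ _ d.xz
    rwa [MulAut.conjNormal_apply, map_mul, map_mul, map_inv] at this
  · have := hcg _ _ d.xu
    rwa [MulAut.conjNormal_apply, map_mul, map_mul, map_inv] at this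
  · refine d.hyp.indep ((hmem _).1 ?_)
    simpa using habc

theorem PairData.decomp (d : PairData p E h k x e z u) (g : X) :
    ∃ (a : E) (i : ℕ), g = (a : X) * x ^ i := by
  have hsup : E ⊔ zpowers x = ⊤ :=
    (isCoatom_of_index_prime d.index).2 _ (lt_of_le_of_ne le_sup_left fun e0 =>
      d.not_mem (e0 ▸ mem_sup_right (mem_zpowers x)))
  obtain ⟨a, ha, y, hy, rfl⟩ := mem_sup_of_normal_left.1 (hsup ▸ mem_top g)
  obtain ⟨i, hi⟩ := (isOfFinOrder_of_finite x).mem_powers_iff_mem_zpowers.2 hy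
  exact ⟨⟨a, ha⟩, i, congrArg (a * ·) hi.symm⟩

theorem PairData.h_frattini (d : PairData p E h k x e z u) :
    ((frattini E).map E.subtype).map h.toMonoidHom = (frattini E).map E.subtype := by
  have hEeq : E.map h.toMonoidHom = E := by
    refine eq_of_le_of_card_ge ?_ ?_
    · rintro _ ⟨a, ha, rfl⟩; exact d.hE a ha
    · rw [card_map_of_injective (f := h.toMonoidHom) h.injective]
  rw [frattini_image, hEeq]

/-- The eigenvector outside `E`. -/
theorem PairData.normalise (d : PairData p E h k x e z u) :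
    ∃ (x1 : X) (j : ℕ), PairData p E h k x1 e z u ∧ (j : ZMod p) = k ^ 2 ∧
      Cn (closure ({(z : X), (u : X)} : Set X) ⊔ (frattini E).map E.subtype) (h x1) (x1 ^ j) := by
  haveI : NeZero p := ⟨hp.out.ne_zero⟩
  set Φ := (frattini E).map E.subtype with hΦ
  set π := QuotientGroup.mk' Φ with hπd
  have hπ : Function.Surjective π := QuotientGroup.mk'_surjective Φ
  obtain ⟨hcg, hab, hexp, ce, cz, cu, hind⟩ := d.vq π (QuotientGroup.ker_mk' _)
  obtain ⟨a, j, hj⟩ := d.decomp (h x)
  obtain ⟨ea, za, ua, hco⟩ := d.hyp.coords a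
  have hhπ : ∀ g g' : X, π g = π g' → π (h g) = π (h g') := fun g g' hgg => by
    rw [hπd, QuotientGroup.mk'_apply, QuotientGroup.mk'_apply, QuotientGroup.eq] at hgg ⊢
    rw [← map_inv, ← map_mul, hΦ, ← d.h_frattini]
    exact mem_map_of_mem h.toMonoidHom hgg
  have phe : π (h (e : X)) = π (e : X) ^ k⁻¹.val := by rw [← map_pow]; exact QuotientGroup.eq.2 d.he
  have phz : π (h (z : X)) = π (z : X) ^ k.val := by rw [← map_pow]; exact QuotientGroup.eq.2 d.hz
  have conjn : ∀ n : ℕ, (π x) ^ n * π (e : X) * ((π x) ^ n)⁻¹ = π (e : X) * π (z : X) ^ n := fun n => by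
    induction n with
    | zero => simp
    | succ n ih =>
      have czn : π x * π (z : X) ^ n * (π x)⁻¹ = π (z : X) ^ n := by rw [← conj_pow, cz]
      calc (π x) ^ (n + 1) * π (e : X) * ((π x) ^ (n + 1))⁻¹
          = π x * ((π x) ^ n * π (e : X) * ((π x) ^ n)⁻¹) * (π x)⁻¹ := by rw [pow_succ']; group
        _ = (π x * π (e : X) * (π x)⁻¹) * (π x * π (z : X) ^ n * (π x)⁻¹) := by rw [ih]; group
        _ = _ := by rw [ce, czn, mul_assoc, ← pow_succ']
  have key : π (z : X) ^ (j * k⁻¹.val) = π (z : X) ^ k.val := by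
    have e1 : π (h (x * e * x⁻¹)) = π (h ((e : X) * z)) := hhπ _ _ (by
      rw [map_mul, map_mul, map_inv, map_mul, ce])
    rw [map_mul, map_mul, map_inv, map_mul, map_mul, map_inv, map_mul h, map_mul, phe, phz, hj,
      map_mul, map_pow, mul_inv_rev] at e1
    have e2 : π (a : X) * ((π x) ^ j * π (e : X) ^ k⁻¹.val * ((π x) ^ j)⁻¹) * (π (a : X))⁻¹ =
        π (e : X) ^ k⁻¹.val * π (z : X) ^ k.val := by rw [← e1]; group
    rw [← conj_pow, conjn, (show Commute (π (e : X)) (π (z : X) ^ j) from (hab e z).pow_right j).mul_pow,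
      ← pow_mul (π (z : X))] at e2
    have e3 : Commute (π (a : X)) (π (e : X) ^ k⁻¹.val * π (z : X) ^ (j * k⁻¹.val)) :=
      ((hab a e).pow_right _).mul_right ((hab a z).pow_right _)
    rw [e3.eq, mul_inv_cancel_right] at e2
    exact mul_left_cancel e2
  have hjk : (j : ZMod p) = k ^ 2 := by
    have h1 : π (e : X) ^ 0 * π (z : X) ^ (j * k⁻¹.val + (p - 1) * k.val) * π (u : X) ^ 0 = 1 := by
      rw [pow_add, key, ← pow_add, add_pred_mul, pow_mul, hexp, one_pow, pow_zero, pow_zero, one_mul,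
        one_mul]
    have h2 := (hind _ _ _ h1).2.1
    push_cast [Nat.cast_sub hp.out.pos, ZMod.natCast_self, ZMod.natCast_zmod_val] at h2
    have h3 : (j : ZMod p) * k⁻¹ = k := by linear_combination h2
    calc (j : ZMod p) = (j : ZMod p) * k⁻¹ * k := by rw [mul_assoc, inv_mul_cancel₀ d.k0, mul_one]
      _ = _ := by rw [h3, pow_two]
  have hne : (j : ZMod p) - k⁻¹ ≠ 0 := by
    rw [hjk, sub_ne_zero]
    intro e0
    exact d.k3 (by rw [pow_succ, e0, inv_mul_cancel₀ d.k0])
  obtain ⟨i, hi⟩ : ∃ i : ℕ, (i : ZMod p) = (ea : ZMod p) / ((j : ZMod p) - k⁻¹) :=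
    ⟨_, ZMod.natCast_zmod_val _⟩
  refine ⟨(e : X) ^ i * x, j, ?_, hjk, ?_⟩
  · have hc : ∀ g : E, Cg (MulAut.conjNormal ((e : X) ^ i * x) g) (MulAut.conjNormal x g) := fun g => by
      have h1 : π ((MulAut.conjNormal ((e : X) ^ i * x) g : E) : X) =
          π ((MulAut.conjNormal x g : E) : X) := by
        rw [map_mul MulAut.conjNormal, MulAut.mul_apply, MulAut.conjNormal_apply]
        generalize MulAut.conjNormal x g = g'
        rw [map_mul, map_mul, map_inv, ((map_pow π (e : X) i).symm ▸ (hab e g').pow_left i :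
          Commute (π ((e : X) ^ i)) (π (g' : X))).eq, mul_inv_cancel_right]
      rw [hπd, QuotientGroup.mk'_apply, QuotientGroup.mk'_apply, QuotientGroup.eq, ← Subgroup.coe_inv,
        ← Subgroup.coe_mul] at h1
      exact (mem_map_iff_mem E.subtype_injective).1 h1
    have trans : ∀ a b c : E, Cg a b → Cg b c → Cg a c := fun a b c h1 h2 => by
      have := (frattini E).mul_mem h1 h2
      rwa [mul_assoc, mul_inv_cancel_left] at this
    exact { d with
      not_mem := fun hm => d.not_mem (by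
        have := mul_mem (inv_mem (pow_mem e.2 i)) hm
        rwa [inv_mul_cancel_left] at this)
      xe := trans _ _ _ (hc e) d.xe
      xz := trans _ _ _ (hc z) d.xz
      xu := trans _ _ _ (hc u) d.xu }
  · set C := closure ({(z : X), (u : X)} : Set X) ⊔ Φ with hC
    have hcen : ∀ w ∈ closure ({π (z : X), π (u : X)} : Set (X ⧸ Φ)), w ∈ center (X ⧸ Φ) := by
      refine fun w hw => ((closure_le (center (X ⧸ Φ))).2 ?_ : _) hw
      have cx : ∀ v : E, π x * π (v : X) * (π x)⁻¹ = π (v : X) → π (v : X) ∈ center (X ⧸ Φ) := by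
        intro v hv
        refine mem_center_iff.2 fun g => ?_
        obtain ⟨g, rfl⟩ := hπ g
        obtain ⟨g', m, rfl⟩ := d.decomp g
        rw [map_mul, map_pow]
        exact ((hab g' v).mul_left
          ((show Commute (π x) (π (v : X)) from mul_inv_eq_iff_eq_mul.1 hv).pow_left m)).eq
      rintro y (rfl | rfl)
      exacts [cx z cz, cx u cu]
    have hCimg : C = (closure ({π (z : X), π (u : X)} : Set (X ⧸ Φ))).comap π := by
      rw [← Set.image_pair, ← MonoidHom.map_closure, comap_map_eq, hπd, QuotientGroup.ker_mk', hC]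
    haveI hCn : C.Normal := by
      haveI : (closure ({π (z : X), π (u : X)} : Set (X ⧸ Φ))).Normal :=
        ⟨fun n hn g => by rwa [mem_center_iff.1 (hcen n hn) g, mul_inv_cancel_right]⟩
      rw [hCimg]
      infer_instance
    set q := QuotientGroup.mk' C with hqd
    have hzC : (z : X) ∈ C := mem_sup_left (subset_closure (by simp))
    have huC : (u : X) ∈ C := mem_sup_left (subset_closure (by simp))
    have hq : ∀ g g' : X, π g = π g' → q g = q g' := fun g g' hgg => by
      rw [hπd, QuotientGroup.mk'_apply, QuotientGroup.mk'_apply, QuotientGroup.eq] at hgg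
      rw [hqd, QuotientGroup.mk'_apply, QuotientGroup.mk'_apply, QuotientGroup.eq]
      exact mem_sup_right hgg
    have qz : q (z : X) = 1 := (QuotientGroup.eq_one_iff _).2 hzC
    have qu : q (u : X) = 1 := (QuotientGroup.eq_one_iff _).2 huC
    have qep : q (e : X) ^ p = 1 := by
      rw [← map_pow, ← map_one q]
      exact hq _ _ (by rw [map_pow, hexp, map_one])
    have qxe : Commute (q x) (q (e : X)) := by
      have h1 : q (x * e * x⁻¹) = q ((e : X) * z) := hq _ _ (by
        rw [map_mul, map_mul, map_inv, map_mul, ce])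
      rw [map_mul, map_mul, map_inv, map_mul, qz, mul_one, mul_inv_eq_iff_eq_mul] at h1
      exact h1
    have qhe : q (h (e : X)) = q (e : X) ^ k⁻¹.val := by
      rw [← map_pow]; exact hq _ _ (by rw [map_pow, phe])
    have qa : q (a : X) = q (e : X) ^ ea := by
      have := hq (a : X) ((e ^ ea * z ^ za * u ^ ua : E) : X) (hcg _ _ hco)
      rwa [Subgroup.coe_mul, Subgroup.coe_mul, SubmonoidClass.coe_pow, SubmonoidClass.coe_pow,
        SubmonoidClass.coe_pow, map_mul, map_mul, map_pow, map_pow, map_pow, qz, qu, one_pow, one_pow,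
        mul_one, mul_one] at this
    rw [cn_iff_mk, ← hqd, map_pow, map_mul h, map_pow h, hj, map_mul, map_mul, map_mul, map_pow,
      map_pow, map_pow, qhe, qa, (qxe.symm.pow_left i).mul_pow, ← mul_assoc, ← pow_mul, ← pow_mul,
      ← pow_add]
    congr 1
    refine pow_eq_pow_of_cast qep ?_
    rw [Nat.cast_add, Nat.cast_mul, Nat.cast_mul, ZMod.natCast_zmod_val, hi]
    generalize k⁻¹ = c at hne ⊢
    field_simp
    ring

/-- Assembling. -/
theorem PairData.base (d : PairData p E h k x e z u) {j : ℕ} (hjk : (j : ZMod p) = k ^ 2)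
    (hx : Cn (closure ({(z : X), (u : X)} : Set X) ⊔ (frattini E).map E.subtype) (h x) (x ^ j)) :
    PairBase p E ((frattini E).map E.subtype) h k x e z u ∧
      ∀ B : Subgroup X, Copy p E B →
        closure ({(z : X), (u : X)} : Set X) ⊔ (frattini E).map E.subtype ≤ B ∧
          (frattini B).map B.subtype = (frattini E).map E.subtype := by
  haveI : NeZero p := ⟨hp.out.ne_zero⟩
  haveI := d.hyp.pgroup.isNilpotent
  haveI := agemo_normal (p := p) (⊤ : Subgroup E)
  haveI hUc : (agemo p (⊤ : Subgroup E)).Characteristic :=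
    characteristic_iff_map_eq.2 fun α => agemo_top_map α
  set U : Subgroup X := (agemo p (⊤ : Subgroup E)).map E.subtype with hU
  set Φ := (frattini E).map E.subtype with hΦ
  set π := QuotientGroup.mk' Φ with hπd
  obtain ⟨hcg, hab, hexp, ce, cz, cu, hind⟩ := d.vq π (QuotientGroup.ker_mk' _)
  set q := QuotientGroup.mk' U with hqd
  have hq : Function.Surjective q := QuotientGroup.mk'_surjective U
  set ι : E →* X ⧸ U := q.comp E.subtype with hι
  have hιU : ∀ a : E, a ∈ agemo p (⊤ : Subgroup E) → ι a = 1 := fun a ha =>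
    (QuotientGroup.eq_one_iff _).2 (mem_map_of_mem _ ha)
  have hιker : ∀ a : E, ι a = 1 → a ∈ agemo p (⊤ : Subgroup E) := fun a ha =>
    (mem_map_iff_mem E.subtype_injective).1 ((QuotientGroup.eq_one_iff _).1 ha)
  have hιp : ∀ a : E, ι a ^ p = 1 := fun a => by
    rw [← map_pow]; exact hιU _ (pow_mem_agemo (mem_top a))
  have hcomm : ∀ a b : E, ⁅a, b⁆ ∈ agemo p (⊤ : Subgroup E) → Commute (ι a) (ι b) := fun a b hh => by
    apply commutatorElement_eq_one_iff_mul_comm.1
    rw [← map_commutatorElement]; exact hιU _ hh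
  obtain ⟨f, hf⟩ : ∃ f, f = ι ⁅e, z⁆ := ⟨_, rfl⟩
  have fE : ∀ a : E, Commute f (ι a) := fun a => by
    rw [hf]
    refine hcomm _ _ (d.lcs ?_)
    rw [Subgroup.lowerCentralSeries_succ, Subgroup.top_lowerCentralSeries_one]
    exact commutator_mem_commutator (commutator_mem_commutator (mem_top e) (mem_top z)) (mem_top a)
  have uE : ∀ a : E, Commute (ι u) (ι a) := fun a => hcomm _ _ (d.ucent a)
  set F := zpowers f with hF
  have hFE : ∀ w ∈ F, ∀ a : E, Commute w (ι a) := fun w hw a => by
    obtain ⟨n, rfl⟩ := mem_zpowers_iff.1 hw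
    exact (fE a).zpow_left n
  -- commutators and the Frattini subgroup of `E`
  have hcomF : ∀ a b : E, ⁅ι a, ι b⁆ ∈ F := by
    set R := ι.range with hR
    set r := ι.rangeRestrict with hr
    have hgen := closure_triple_map r ι.rangeRestrict_surjective d.hyp.closure_eq
    have huc : ∀ a : R, ∀ g : R, a = r u → a * g = g * a := by
      rintro _ g rfl
      obtain ⟨g, rfl⟩ := ι.rangeRestrict_surjective g
      exact Subtype.ext (uE g).eq
    have hfc : ∀ g : R, ⁅r e, r z⁆ * g = g * ⁅r e, r z⁆ := fun g => by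
      obtain ⟨g, rfl⟩ := ι.rangeRestrict_surjective g
      rw [← map_commutatorElement]
      exact Subtype.ext (hf ▸ fE g).eq
    have one_of : ∀ a b : R, (a = r u ∨ b = r u) → ⁅a, b⁆ = 1 := by
      rintro a b (h1 | h1)
      · exact commutatorElement_eq_one_iff_mul_comm.2 (huc a b h1)
      · exact commutatorElement_eq_one_iff_mul_comm.2 (huc b a h1).symm
    have hcc : CommCentral R := by
      refine commCentral_of_gens hgen ?_
      rintro a (rfl | rfl | rfl) b (rfl | rfl | rfl) g
      all_goals first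
        | exact hfc g
        | (rw [← commutatorElement_inv (r e) (r z)]
           exact (show Commute _ g from hfc g).inv_left.eq)
        | (rw [commutatorElement_self, one_mul, mul_one])
        | (rw [one_of _ _ (Or.inl rfl), one_mul, mul_one])
        | (rw [one_of _ _ (Or.inr rfl), one_mul, mul_one])
    intro a b
    have hm : ⁅r a, r b⁆ ∈ (F.comap R.subtype) := by
      have hf' : ⁅r e, r z⁆ ∈ F.comap R.subtype := by
        rw [mem_comap, map_commutatorElement]
        show ⁅ι e, ι z⁆ ∈ F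
        rw [← map_commutatorElement, ← hf]; exact mem_zpowers f
      refine commutator_le_of_gens hcc hgen ?_ _ _
      rintro a (rfl | rfl | rfl) b (rfl | rfl | rfl)
      all_goals first
        | exact hf'
        | (rw [← commutatorElement_inv (r e) (r z)]; exact inv_mem hf')
        | (rw [commutatorElement_self]; exact one_mem _)
        | (rw [one_of _ _ (Or.inl rfl)]; exact one_mem _)
        | (rw [one_of _ _ (Or.inr rfl)]; exact one_mem _)
    rw [mem_comap, map_commutatorElement] at hm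
    exact hm
  have hΦF : ∀ a ∈ frattini E, ι a ∈ F := fun a ha => by
    rw [frattini_eq_sup d.hyp.pgroup] at ha
    refine (sup_le ?_ ?_ : commutator E ⊔ agemo p ⊤ ≤ F.comap ι) ha
    · rw [_root_.commutator_def, commutator_le]
      intro a _ b _
      rw [mem_comap, map_commutatorElement]; exact hcomF a b
    · exact fun w hw => by rw [mem_comap, hιU w hw]; exact one_mem _
  have cgι : ∀ a b : E, Cg a b → ∃ w ∈ F, ι b = ι a * w := fun a b hh =>
    ⟨_, hΦF _ hh, by rw [← map_mul, mul_inv_cancel_left]⟩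
  obtain ⟨xb, hxb⟩ : ∃ y, y = q x := ⟨_, rfl⟩
  have cval : ∀ a : E, xb * ι a * xb⁻¹ = ι (MulAut.conjNormal x a) := fun a => by
    rw [hxb, hι, MonoidHom.comp_apply, MonoidHom.comp_apply, Subgroup.coe_subtype,
      MulAut.conjNormal_apply, map_mul, map_mul, map_inv]
  obtain ⟨we, hwe, ee⟩ := cgι _ _ d.xe
  obtain ⟨wz, hwz, ez⟩ := cgι _ _ d.xz
  obtain ⟨wu, hwu, eu⟩ := cgι _ _ d.xu
  have ce' : xb * ι e * xb⁻¹ = ι e * ι z * we⁻¹ := by
    rw [cval, ← map_mul, ee, mul_inv_cancel_right]
  have cz' : xb * ι z * xb⁻¹ = ι z * wz⁻¹ := by rw [cval, ez, mul_inv_cancel_right]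
  have cu' : xb * ι u * xb⁻¹ = ι u * wu⁻¹ := by rw [cval, eu, mul_inv_cancel_right]
  have fx : Commute f xb := by
    have h1 : xb * f * xb⁻¹ = f := by
      have e1 : ι ⁅MulAut.conjNormal x e, MulAut.conjNormal x z⁆ = ι ⁅e, z⁆ := by
        rw [map_commutatorElement, map_commutatorElement, ← cval, ← cval, ce', cz']
        have k1 : ∀ (a b : E) (w : X ⧸ U), w ∈ F → ⁅ι a * w, ι b⁆ = ⁅ι a, ι b⁆ := fun a b w hw => by
          simp only [commutatorElement_def, mul_inv_rev, mul_assoc]
          rw [(hFE w hw b).left_comm, mul_inv_cancel_left]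
        have k3 : ∀ (g : X ⧸ U) (b : E) (w : X ⧸ U), Commute g w → ⁅g, ι b * w⁆ = ⁅g, ι b⁆ := by
          intro g b w hg
          simp only [commutatorElement_def, mul_inv_rev, mul_assoc]
          rw [hg.inv_left.symm.left_comm, mul_inv_cancel_left]
        have hww : Commute (ι (e * z) * we⁻¹) wz⁻¹ := by
          refine ((hFE _ (inv_mem hwz) (e * z)).symm).mul_left ?_
          exact congrArg Subtype.val (mul_comm' (⟨_, inv_mem hwe⟩ : F) ⟨_, inv_mem hwz⟩)
        rw [← map_mul, k3 _ z _ hww, k1 _ _ _ (inv_mem hwe), ← map_commutatorElement,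
          ← map_commutatorElement]
        congr 1
        simp only [commutatorElement_def]; group
      rw [← map_commutatorElement (MulAut.conjNormal x)] at e1
      rw [hf, cval, e1]
    exact (mul_inv_eq_iff_eq_mul.1 h1).symm
  -- generators
  obtain ⟨eb, heb⟩ : ∃ y, y = ι e := ⟨_, rfl⟩
  obtain ⟨zb, hzb⟩ : ∃ y, y = ι z := ⟨_, rfl⟩
  obtain ⟨ub, hub⟩ : ∃ y, y = ι u := ⟨_, rfl⟩
  have hgenE : ∀ a : E, ι a ∈ closure ({eb, zb, ub} : Set (X ⧸ U)) := fun a => by
    have := closure_triple_map ι.rangeRestrict ι.rangeRestrict_surjective d.hyp.closure_eq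
    have ha : ι.rangeRestrict a ∈ Subgroup.closure _ := this.symm ▸ mem_top _
    have hm := mem_map_of_mem ι.range.subtype ha
    rw [MonoidHom.map_closure] at hm
    simpa [Set.image_insert_eq, heb, hzb, hub] using hm
  have hgen : closure ({xb, eb, zb, ub} : Set (X ⧸ U)) = ⊤ := by
    refine top_le_iff.1 fun y _ => ?_
    obtain ⟨g, rfl⟩ := hq y
    obtain ⟨a, i, rfl⟩ := d.decomp g
    rw [map_mul, map_pow, ← hxb]
    exact mul_mem (closure_mono (by simp) (hgenE a)) (pow_mem (subset_closure (by simp)) i)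
  have cent : ∀ w : X ⧸ U, Commute w xb → (∀ a : E, Commute w (ι a)) → ∀ g, w * g = g * w := by
    intro w w1 w2 g
    obtain ⟨g, rfl⟩ := hq g
    obtain ⟨a, i, rfl⟩ := d.decomp g
    rw [map_mul, map_pow, ← hxb]
    exact ((w2 a).mul_right (w1.pow_right i)).eq
  have fc : ∀ g, f * g = g * f := cent f fx fE
  have hFc : ∀ w ∈ F, ∀ g, w * g = g * w := fun w hw g => by
    obtain ⟨n, rfl⟩ := mem_zpowers_iff.1 hw
    exact ((show Commute f g from fc g).zpow_left n).eq
  have hFexp : ∀ w ∈ F, w ^ p = 1 := fun w hw => by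
    obtain ⟨n, rfl⟩ := mem_zpowers_iff.1 hw
    rw [← zpow_natCast, ← zpow_mul, mul_comm, zpow_mul, zpow_natCast, hf, hιp, one_zpow]
  have kom : ∀ (g : X ⧸ U) (a : E) (w : X ⧸ U), w ∈ F → g * ι a * g⁻¹ = ι a * w → ⁅g, ι a⁆ = w :=
    fun g a w hw hh => by rw [commutatorElement_def, hh, ← hFc w hw, mul_inv_cancel_right]
  obtain ⟨q1, hq1⟩ : ∃ w, w = ⁅xb, ub⁆ := ⟨_, rfl⟩
  obtain ⟨q2, hq2⟩ : ∃ w, w = ⁅xb, zb⁆ := ⟨_, rfl⟩
  have q1F : q1 ∈ F := by rw [hq1, hub, kom _ _ _ (inv_mem hwu) cu']; exact inv_mem hwu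
  have q2F : q2 ∈ F := by rw [hq2, hzb, kom _ _ _ (inv_mem hwz) cz']; exact inv_mem hwz
  have q3v : ⁅xb, eb⁆ = ι ((e * z) * e⁻¹) * we⁻¹ := by
    rw [commutatorElement_def, heb, ce', map_mul ι (e * z), map_inv, map_mul, mul_assoc (ι e * ι z),
      hFc _ (inv_mem hwe), mul_assoc (ι e * ι z)]
  -- the automorphism induced by `h`
  have hUm : U.map h.toMonoidHom = U := by
    have hEeq : E.map h.toMonoidHom = E := by
      refine eq_of_le_of_card_ge ?_ ?_
      · rintro _ ⟨a, ha, rfl⟩; exact d.hE a ha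
      · rw [card_map_of_injective (f := h.toMonoidHom) h.injective]
    rw [hU, ← agemo_map, ← MonoidHom.range_eq_map, range_subtype, ← agemo_map, hEeq]
  set H := qAut U h hUm with hH
  have Hq : ∀ g : X, H (q g) = q (h g) := fun g => qAut_mk U h hUm g
  have cnι : ∀ (g : X) (a : E), Cn Φ g a → ∃ w ∈ F, q g = ι a * w := by
    rintro g a ⟨c, hc, hgc⟩
    refine ⟨ι c⁻¹, hΦF _ (inv_mem hc), ?_⟩
    have e0 : g = (a : X) * (c : X)⁻¹ := by
      rw [show (c : X) = g⁻¹ * (a : X) from hgc, mul_inv_rev, inv_inv, mul_inv_cancel_left]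
    rw [e0, hι, MonoidHom.comp_apply, MonoidHom.comp_apply, map_mul]
    simp
  obtain ⟨we', hwe', He⟩ := cnι (h e) (e ^ k⁻¹.val) (by simpa using d.he)
  obtain ⟨wz', hwz', Hz⟩ := cnι (h z) (z ^ k.val) (by simpa using d.hz)
  obtain ⟨wu', hwu', Hu⟩ := cnι (h u) u d.hu
  have He' : H eb = eb ^ k⁻¹.val * we' := by
    rw [heb, hι, MonoidHom.comp_apply, Hq, Subgroup.coe_subtype, He, map_pow ι]; rfl
  have Hz' : H zb = zb ^ k.val * wz' := by
    rw [hzb, hι, MonoidHom.comp_apply, Hq, Subgroup.coe_subtype, Hz, map_pow ι]; rfl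
  have Hu' : H ub = ub * wu' := by
    rw [hub, hι, MonoidHom.comp_apply, Hq, Subgroup.coe_subtype, Hu]; rfl
  have hfeq : f = ⁅eb, zb⁆ := by rw [hf, heb, hzb, map_commutatorElement]
  have Hf : H f = f := by
    have hpl : ∀ n : ℕ, ⁅eb ^ n, zb⁆ = f ^ n := fun n => by
      induction n with
      | zero => simp
      | succ n ih => rw [pow_succ, comm_mul_left_of _ _ _ (hfeq ▸ fc), ih, ← hfeq, pow_succ]
    have hpr : ∀ n m : ℕ, ⁅eb ^ n, zb ^ m⁆ = (f ^ n) ^ m := fun n m => by
      induction m with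
      | zero => simp
      | succ m ih =>
        rw [pow_succ, comm_mul_right_of _ _ _ (fun g => by
          rw [hpl]; exact hFc _ (pow_mem (mem_zpowers f) n) g), ih, hpl, pow_succ]
    conv_lhs => rw [hfeq, map_commutatorElement, He', Hz', comm_mul_central_left _ _ (hFc _ hwe'),
      comm_mul_central_right _ _ (hFc _ hwz'), hpr, ← pow_mul]
    rw [pow_eq_pow_of_cast (hFexp f (mem_zpowers f)) (b := 1) (by
      rw [Nat.cast_mul, ZMod.natCast_zmod_val, ZMod.natCast_zmod_val, inv_mul_cancel₀ d.k0,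
        Nat.cast_one]), pow_one]
  have HF : ∀ w ∈ F, H w = w := fun w hw => by
    obtain ⟨n, rfl⟩ := mem_zpowers_iff.1 hw
    rw [map_zpow, Hf]
  -- `h x`
  set C := closure ({zb, ub} : Set (X ⧸ U)) ⊔ F with hC
  obtain ⟨y, hy, Hx⟩ : ∃ y ∈ C, H xb = xb ^ j * y := by
    refine ⟨(xb ^ j)⁻¹ * H xb, ?_, (mul_inv_cancel_left _ _).symm⟩
    have h1 : ((x ^ j)⁻¹ * h x) ∈ closure ({(z : X), (u : X)} : Set X) ⊔ Φ := by
      have := inv_mem hx
      rwa [mul_inv_rev, inv_inv] at this
    have h2 := mem_map_of_mem q h1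
    rw [map_mul, map_inv, map_pow, ← Hq, ← hxb] at h2
    refine (?_ : (closure ({(z : X), (u : X)} : Set X) ⊔ Φ).map q ≤ C) h2
    rw [Subgroup.map_sup, MonoidHom.map_closure, Set.image_pair]
    refine sup_le (le_sup_of_le_left (closure_mono ?_)) (le_sup_of_le_right ?_)
    · rw [hzb, hub]; rfl
    · rintro _ ⟨_, ⟨c, hc, rfl⟩, rfl⟩
      exact hΦF c hc
  have hCcomm : ∀ y ∈ C, Commute y zb ∧ Commute y ub ∧ y ^ p = 1 := by
    have key : C ≤ centralizer ({zb, ub} : Set (X ⧸ U)) := by
      refine sup_le ((closure_le _).2 ?_) fun w hw => mem_centralizer_iff.2 fun g _ => (hFc w hw g).symm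
      have czu : zb * ub = ub * zb := by rw [hzb, hub]; exact (uE z).eq.symm
      rintro a (rfl | rfl) <;> rw [SetLike.mem_coe, mem_centralizer_iff] <;> rintro b (rfl | rfl)
      exacts [rfl, czu.symm, czu, rfl]
    intro y hy
    refine ⟨(mem_centralizer_iff.1 (key hy) zb (by simp)).symm,
      (mem_centralizer_iff.1 (key hy) ub (by simp)).symm, ?_⟩
    have hle : C ≤ ι.range := sup_le ((closure_le _).2 (by
      rintro a (rfl | rfl)
      exacts [hzb ▸ ⟨z, rfl⟩, hub ▸ ⟨u, rfl⟩])) (zpowers_le.2 (hf ▸ ⟨_, rfl⟩))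
    obtain ⟨a, rfl⟩ := hle hy
    exact hιp a
  obtain ⟨yz, yu, hyp⟩ := hCcomm y hy
  have hjv : ((j : ℕ) : ZMod p) ≠ 1 := hjk ▸ d.k2
  have pl : ∀ (b : X ⧸ U), ⁅xb, b⁆ ∈ F → ∀ n : ℕ, ⁅xb ^ n, b⁆ = ⁅xb, b⁆ ^ n := fun b hb n => by
    induction n with
    | zero => simp
    | succ n ih => rw [pow_succ, comm_mul_left_of _ _ _ (hFc _ hb), ih, pow_succ]
  have hq10 : q1 = 1 := by
    have e1 : q1 ^ j = q1 := by
      conv_rhs => rw [← HF q1 q1F, hq1, map_commutatorElement, Hx, Hu',
        comm_mul_central_right _ _ (hFc _ hwu'),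
        comm_mul_left_of _ _ _ (fun g => by
          rw [commutatorElement_eq_one_iff_mul_comm.2 yu.eq, one_mul, mul_one]),
        commutatorElement_eq_one_iff_mul_comm.2 yu.eq, mul_one, pl _ (hq1 ▸ q1F), ← hq1]
    exact eq_one_of_pow_eq (hFexp _ q1F) (e1.trans (pow_one q1).symm) (by rwa [Nat.cast_one])
  have hq20 : q2 = 1 := by
    have hr : ∀ (m n : ℕ), ⁅xb ^ n, zb ^ m⁆ = (q2 ^ n) ^ m := fun m n => by
      induction m with
      | zero => simp
      | succ m ih =>
        rw [pow_succ, comm_mul_right_of _ _ _ (fun g => by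
          rw [pl _ (hq2 ▸ q2F), ← hq2]; exact hFc _ (pow_mem q2F n) g), ih, pl _ (hq2 ▸ q2F), ← hq2,
          pow_succ]
    have e1 : (q2 ^ j) ^ k.val = q2 := by
      conv_rhs => rw [← HF q2 q2F, hq2, map_commutatorElement, Hx, Hz',
        comm_mul_central_right _ _ (hFc _ hwz'),
        comm_mul_left_of _ _ _ (fun g => by
          rw [commutatorElement_eq_one_iff_mul_comm.2 (yz.pow_right k.val).eq, one_mul, mul_one]),
        commutatorElement_eq_one_iff_mul_comm.2 (yz.pow_right k.val).eq, mul_one, hr]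
    rw [← pow_mul] at e1
    refine eq_one_of_pow_eq (hFexp _ q2F) (e1.trans (pow_one q2).symm) ?_
    rw [Nat.cast_mul, ZMod.natCast_zmod_val, hjk, Nat.cast_one, ← pow_succ]
    exact d.k3
  have zxb : Commute zb xb := (commutatorElement_eq_one_iff_mul_comm.1 (hq2.symm.trans hq20) : Commute xb zb).symm
  have uxb : Commute ub xb := (commutatorElement_eq_one_iff_mul_comm.1 (hq1.symm.trans hq10) : Commute xb ub).symm
  have uc : ∀ g, ub * g = g * ub := cent ub uxb (hub ▸ uE)
  -- the lower central series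
  set A := closure ({zb} : Set (X ⧸ U)) ⊔ F with hA
  have hAc : ∀ a ∈ A, Commute a xb ∧ ∀ b : E, ⁅a, ι b⁆ ∈ F := by
    intro a ha
    have h1 : A ≤ centralizer ({xb} : Set (X ⧸ U)) := by
      refine sup_le ((closure_le _).2 ?_) fun w hw => mem_centralizer_singleton_iff.2 (hFc w hw _)
      intro w hw
      rw [Set.mem_singleton_iff] at hw
      subst hw
      rw [SetLike.mem_coe, mem_centralizer_singleton_iff]
      exact zxb.eq
    refine ⟨mem_centralizer_singleton_iff.1 (h1 ha), fun b => ?_⟩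
    have hle : A ≤ ι.range := sup_le ((closure_le _).2 (by
      intro w hw; rw [Set.mem_singleton_iff] at hw; subst hw; exact ⟨z, hzb.symm⟩))
      (zpowers_le.2 (hf ▸ ⟨_, rfl⟩))
    obtain ⟨a', rfl⟩ := hle ha
    exact hcomF a' b
  haveI hFn : F.Normal := ⟨fun n hn g => by rwa [← hFc n hn g, mul_inv_cancel_right]⟩
  have hAB : ∀ a ∈ A, ∀ g, ⁅a, g⁆ ∈ F := fun a ha g => by
    obtain ⟨g, rfl⟩ := hq g
    obtain ⟨b, i, rfl⟩ := d.decomp g
    rw [map_mul, map_pow, ← hxb]
    rw [show ⁅a, q (b : X) * xb ^ i⁆ = ⁅a, q (b : X)⁆ * (q (b : X) * ⁅a, xb ^ i⁆ * (q (b : X))⁻¹) by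
        simp only [commutatorElement_def]; group,
      commutatorElement_eq_one_iff_mul_comm.2 ((hAc a ha).1.pow_right i).eq, mul_one, mul_inv_cancel,
      mul_one]
    exact (hAc a ha).2 b
  have hFA : F ≤ A := le_sup_right
  haveI hAn : A.Normal := ⟨fun n hn g => by
    have e1 : g * n * g⁻¹ = ⁅n, g⁆⁻¹ * n := by simp only [commutatorElement_def]; group
    rw [e1]; exact mul_mem (inv_mem (hFA (hAB n hn g))) hn⟩
  have hxeA : ⁅xb, eb⁆ ∈ A := by
    rw [q3v]
    refine mul_mem ?_ (hFA (inv_mem hwe))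
    rw [show e * z * e⁻¹ = ⁅e, z⁆ * z by simp only [commutatorElement_def]; group, map_mul, ← hf, ← hzb]
    exact mul_mem (hFA (mem_zpowers f)) (mem_sup_left (subset_closure rfl))
  have hcA : ∀ g g' : X ⧸ U, ⁅g, g'⁆ ∈ A := by
    set r := QuotientGroup.mk' A
    have rgen : closure ({r xb, r eb, r ub} : Set _) = ⊤ := by
      refine top_le_iff.1 ?_
      rw [← map_top_of_surjective r (QuotientGroup.mk'_surjective A), ← hgen, MonoidHom.map_closure,
        closure_le]
      rintro _ ⟨w, hw, rfl⟩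
      rcases hw with rfl | rfl | rfl | rfl
      exacts [subset_closure (by simp), subset_closure (by simp),
        (show r w = 1 from (QuotientGroup.eq_one_iff w).2 (mem_sup_left (subset_closure rfl))) ▸ one_mem _,
        subset_closure (by simp)]
    have hxe' : r xb * r eb = r eb * r xb := by
      rw [← commutatorElement_eq_one_iff_mul_comm, ← map_commutatorElement]
      exact (QuotientGroup.eq_one_iff _).2 hxeA
    have hu' : ∀ w, r ub * r w = r w * r ub := fun w => by rw [← map_mul, uc, map_mul]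
    haveI : IsMulCommutative (Subgroup.closure ({r xb, r eb, r ub} : Set _)) :=
      isMulCommutative_closure (by
        rintro a (rfl | rfl | rfl) b (rfl | rfl | rfl)
        exacts [rfl, hxe', (hu' _).symm, hxe'.symm, rfl, (hu' _).symm, hu' _, hu' _, rfl])
    intro g g'
    rw [← QuotientGroup.eq_one_iff, ← QuotientGroup.mk'_apply, map_commutatorElement,
      commutatorElement_eq_one_iff_mul_comm]
    exact congrArg Subtype.val (mul_comm'
      (⟨r g, rgen ▸ mem_top _⟩ : Subgroup.closure ({r xb, r eb, r ub} : Set _)) ⟨r g', rgen ▸ mem_top _⟩)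
  have hAexp : ∀ a ∈ A, a ^ p = 1 := fun a ha =>
    (hCcomm a (sup_le_sup_right (Subgroup.closure_mono (by simp)) F ha)).2.2
  have mulp := mul_pow_p (d.pgroup.to_quotient U) d.five hcA hAB
    (fun b hb g => commutatorElement_eq_one_iff_mul_comm.2 (hFc b hb g)) hAexp
  -- `x ^ p`
  have hxpE : x ^ p ∈ E := d.index ▸ pow_index_mem E x
  obtain ⟨a0, b0, c0, hco⟩ := d.hyp.coords ⟨x ^ p, hxpE⟩
  have hπ0 : π (x ^ p) = π (e : X) ^ a0 * π (z : X) ^ b0 * π (u : X) ^ c0 := by
    have := hcg _ _ hco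
    simpa using this
  have ha0 : (a0 : ZMod p) = 0 := by
    have h1 : π x * π (x ^ p) * (π x)⁻¹ = π (x ^ p) := by
      rw [map_pow, (Commute.self_pow (π x) p).eq, mul_inv_cancel_right]
    rw [hπ0, show π x * (π (e : X) ^ a0 * π (z : X) ^ b0 * π (u : X) ^ c0) * (π x)⁻¹ =
      (π x * π (e : X) * (π x)⁻¹) ^ a0 * (π x * π (z : X) * (π x)⁻¹) ^ b0 *
        (π x * π (u : X) * (π x)⁻¹) ^ c0 by simp only [conj_pow]; group, ce, cz, cu,
      (hab e z).mul_pow] at h1
    have h2 := mul_right_cancel (mul_right_cancel h1)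
    rw [mul_eq_left] at h2
    exact (hind 0 a0 0 (by rw [pow_zero, pow_zero, one_mul, mul_one, h2])).2.1
  obtain ⟨w0, hw0, hxp⟩ : ∃ w ∈ F, xb ^ p = zb ^ b0 * ub ^ c0 * w := by
    obtain ⟨w, hw, e1⟩ := cgι _ _ hco
    refine ⟨w⁻¹, inv_mem hw, ?_⟩
    rw [map_mul, map_mul, map_pow, map_pow, map_pow, ← heb, ← hzb, ← hub,
      pow_eq_pow_of_cast (heb ▸ hιp e) (b := 0) (by rw [ha0, Nat.cast_zero]), pow_zero, one_mul] at e1
    rw [e1, mul_inv_cancel_right, hxb, ← map_pow]
    rfl
  have hHxp : zb ^ (b0 * j) * ub ^ (c0 * j) * w0 ^ j =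
      zb ^ (k.val * b0) * ub ^ c0 * (wz' ^ b0 * wu' ^ c0 * w0) := by
    have e1 : H (xb ^ p) = (xb ^ p) ^ j := by
      rw [map_pow, Hx, mulp, hyp, mul_one, ← pow_mul, ← pow_mul, mul_comm]
    have czu : Commute zb ub := (show Commute ub zb from uc zb).symm
    have cw : ∀ g, Commute w0 g := hFc w0 hw0
    rw [hxp] at e1
    rw [((cw (zb ^ b0 * ub ^ c0)).symm).mul_pow, (czu.pow_pow b0 c0).mul_pow, ← pow_mul, ← pow_mul,
      map_mul, map_mul, map_pow, map_pow, Hz', Hu', HF _ hw0,
      (show Commute (zb ^ k.val) wz' from (hFc _ hwz' _).symm).mul_pow,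
      (show Commute ub wu' from (hFc _ hwu' _).symm).mul_pow, ← pow_mul] at e1
    rw [← e1]
    have c1 : Commute (wz' ^ b0) (ub ^ c0) :=
      ((show Commute wz' ub from hFc _ hwz' _).pow_pow _ _)
    rw [c1.mul_mul_mul_comm, mul_assoc]
  obtain ⟨hb0, hc0⟩ : (b0 : ZMod p) = 0 ∧ (c0 : ZMod p) = 0 := by
    have hle : U ≤ Φ := map_mono (frattini_eq_sup d.hyp.pgroup ▸ le_sup_right)
    set φ := QuotientGroup.map U Φ (MonoidHom.id X) hle with hφ
    have φq : ∀ g : X, φ (q g) = π g := fun g => rfl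
    have φF : ∀ w ∈ F, φ w = 1 := by
      intro w hw
      obtain ⟨n, rfl⟩ := mem_zpowers_iff.1 hw
      rw [map_zpow, hf, hι, MonoidHom.comp_apply, φq, QuotientGroup.mk'_apply]
      rw [(QuotientGroup.eq_one_iff _).2 (mem_map_of_mem E.subtype
        (Core.commutator_le_frattini (commutator_mem_commutator (mem_top e) (mem_top z)))), one_zpow]
    have φz : φ zb = π (z : X) := by rw [hzb]; exact φq _
    have φu : φ ub = π (u : X) := by rw [hub]; exact φq _
    have e2 := congrArg φ hHxp
    rw [map_mul, map_mul, map_mul, map_mul, φF _ (pow_mem hw0 j),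
      φF _ (mul_mem (mul_mem (pow_mem hwz' b0) (pow_mem hwu' c0)) hw0), map_pow, map_pow, map_pow,
      map_pow, φz, φu, mul_one, mul_one] at e2
    have e3 : π (e : X) ^ 0 * π (z : X) ^ (b0 * j + (p - 1) * (k.val * b0)) *
        π (u : X) ^ (c0 * j + (p - 1) * c0) = 1 := by
      rw [pow_zero, one_mul, pow_add, pow_add,
        (((hab z u).pow_pow _ _)).mul_mul_mul_comm, e2,
        (((hab z u).pow_pow _ _)).symm.mul_mul_mul_comm, ← pow_add, ← pow_add, add_pred_mul, add_pred_mul,
        pow_mul _ p, pow_mul _ p, hexp, hexp, one_pow, one_pow, mul_one]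
    obtain ⟨-, r1, r2⟩ := hind _ _ _ e3
    push_cast [Nat.cast_sub hp.out.pos, ZMod.natCast_self, ZMod.natCast_zmod_val] at r1 r2
    rw [hjk] at r1 r2
    constructor
    · have hk1 : k ^ 2 - k ≠ 0 := by
        rw [show k ^ 2 - k = k * (k - 1) by ring]
        exact mul_ne_zero d.k0 (sub_ne_zero.2 fun e0 => d.k2 (by rw [e0, one_pow]))
      exact (mul_eq_zero.1 (show (b0 : ZMod p) * (k ^ 2 - k) = 0 by linear_combination r1)).resolve_right hk1
    · exact (mul_eq_zero.1 (show (c0 : ZMod p) * (k ^ 2 - 1) = 0 by linear_combination r2)).resolve_right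
        (sub_ne_zero.2 d.k2)
  have hxbp : xb ^ p = 1 := by
    have hzp : zb ^ p = 1 := hzb ▸ hιp z
    have hup : ub ^ p = 1 := hub ▸ hιp u
    have z0 : zb ^ b0 = 1 := by
      rw [pow_eq_pow_of_cast hzp (b := 0) (by rw [hb0, Nat.cast_zero]), pow_zero]
    have u0 : ub ^ c0 = 1 := by
      rw [pow_eq_pow_of_cast hup (b := 0) (by rw [hc0, Nat.cast_zero]), pow_zero]
    have wz0 : wz' ^ b0 = 1 := by
      rw [pow_eq_pow_of_cast (hFexp _ hwz') (b := 0) (by rw [hb0, Nat.cast_zero]), pow_zero]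
    have wu0 : wu' ^ c0 = 1 := by
      rw [pow_eq_pow_of_cast (hFexp _ hwu') (b := 0) (by rw [hc0, Nat.cast_zero]), pow_zero]
    have e2 := hHxp
    rw [pow_mul, z0, one_pow, one_mul, pow_mul, u0, one_pow, one_mul, mul_comm k.val b0, pow_mul, z0,
      one_pow, one_mul, one_mul, wz0, wu0, one_mul, one_mul] at e2
    have hw1 : w0 = 1 :=
      eq_one_of_pow_eq (hFexp _ hw0) (e2.trans (pow_one w0).symm) (by rwa [Nat.cast_one])
    rw [hxp, z0, u0, hw1, one_mul, one_mul]
  have hexpX : ∀ g : X ⧸ U, g ^ p = 1 := exponent_of_gens mulp hgen (by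
    rintro w (rfl | rfl | rfl | rfl)
    exacts [hxbp, heb ▸ hιp e, hzb ▸ hιp z, hub ▸ hιp u])
  have hUΦ : U ≤ Φ := map_mono (frattini_eq_sup d.hyp.pgroup ▸ le_sup_right)
  have hpow : ∀ g : X, g ^ p ∈ Φ := fun g => hUΦ ((QuotientGroup.eq_one_iff _).1 (by
    rw [← QuotientGroup.mk'_apply, map_pow]; exact hexpX _))
  -- the copies
  have copy : ∀ B : Subgroup X, Copy p E B →
      closure ({(z : X), (u : X)} : Set X) ⊔ Φ ≤ B ∧ (frattini B).map B.subtype = Φ := by
    intro B hB
    obtain ⟨hBn, hBc, hBp⟩ := max_props d.pgroup hB.index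
    obtain ⟨φ⟩ := hB.iso
    set ψ := B.subtype.comp φ.toMonoidHom with hψ
    have hr : (⊤ : Subgroup E).map ψ = B := by
      rw [hψ, ← map_map, map_top_of_surjective φ.toMonoidHom φ.surjective, ← MonoidHom.range_eq_map,
        range_subtype]
    have hag : agemo p B ≤ U := agemo_le_iff.2 fun g _ =>
      (QuotientGroup.eq_one_iff _).1 (by rw [← QuotientGroup.mk'_apply, map_pow]; exact hexpX _)
    have hl2 : ⁅⁅B, B⁆, B⁆ ≤ agemo p B := by
      conv_lhs => rw [← hr, ← map_commutator, ← map_commutator]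
      conv_rhs => rw [← hr, agemo_map]
      refine map_mono (le_trans (le_of_eq ?_) d.lcs)
      rw [Subgroup.lowerCentralSeries_succ, Subgroup.top_lowerCentralSeries_one, _root_.commutator_def]
    have hΦB : Φ ≤ B := by
      rw [hΦ, frattini_eq_sup d.hyp.pgroup, Subgroup.map_sup, ← agemo_map]
      refine sup_le ?_ (agemo_le_iff.2 fun g _ => hBp g)
      rw [_root_.commutator_def, map_commutator, commutator_le]
      exact fun a _ b _ => hBc a b
    have hzB : (z : X) ∈ B := by
      have h1 : ⁅x, (e : X)⁆⁻¹ * (z : X) ∈ Φ := by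
        rw [← QuotientGroup.eq, ← QuotientGroup.mk'_apply, ← QuotientGroup.mk'_apply, map_commutatorElement,
          commutatorElement_def, ← hπd, ce, (hab e z).eq, mul_inv_cancel_right]
      have := mul_mem (hBc x e) (hΦB h1)
      rwa [mul_inv_cancel_left] at this
    have huB : (u : X) ∈ B := by
      by_contra hu
      have hsup : B ⊔ zpowers (u : X) = ⊤ := (isCoatom_of_index_prime hB.index).2 _
        (lt_of_le_of_ne le_sup_left fun e0 => hu (e0 ▸ mem_sup_right (mem_zpowers _)))
      have split : ∀ g : X, ∃ b ∈ B, ∃ n : ℤ, q g = q b * ub ^ n := fun g => by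
        obtain ⟨b, hb, y', hy', e1⟩ := mem_sup_of_normal_left.1 (hsup ▸ mem_top g)
        obtain ⟨n, rfl⟩ := mem_zpowers_iff.1 hy'
        exact ⟨b, hb, n, by rw [← e1, map_mul, map_zpow, hub]; rfl⟩
      obtain ⟨b1, hb1, n1, e1⟩ := split x
      obtain ⟨b2, hb2, n2, e2⟩ := split e
      have uzc : ∀ (n : ℤ) g, ub ^ n * g = g * ub ^ n := fun n g =>
        ((show Commute ub g from uc g).zpow_left n).eq
      have hk : ⁅q b1, q b2⁆ = ⁅xb, eb⁆ := by
        rw [hxb, e1, show eb = q (e : X) from heb, e2, comm_mul_central_left _ _ (uzc n1),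
          comm_mul_central_right _ _ (uzc n2)]
      have h3 : ⁅⁅xb, eb⁆, eb⁆ = 1 := by
        have h4 : q ⁅⁅b1, b2⁆, b2⁆ = 1 := (QuotientGroup.eq_one_iff _).2 (hag (hl2
          (commutator_mem_commutator (commutator_mem_commutator hb1 hb2) hb2)))
        rw [map_commutatorElement, map_commutatorElement, hk] at h4
        rw [show eb = q (e : X) from heb] at h4 ⊢
        rw [e2, comm_mul_central_right _ _ (uzc n2)] at ⊢
        rw [e2] at h4
        exact h4
      have hf1 : f = 1 := by
        rw [q3v, show e * z * e⁻¹ = ⁅e, z⁆ * z by simp only [commutatorElement_def]; group, map_mul,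
          ← hf, ← hzb, comm_mul_central_left _ _ (hFc _ (inv_mem hwe)), fc,
          comm_mul_central_left _ _ fc, ← commutatorElement_inv, ← hfeq, inv_eq_one] at h3
        exact h3
      have hab0 : commutator E ≤ agemo p (⊤ : Subgroup E) := by
        rw [_root_.commutator_def, commutator_le]
        intro a _ b _
        refine hιker _ ?_
        have := hcomF a b
        rw [hF, hf1, zpowers_one_eq_bot, mem_bot] at this
        rwa [map_commutatorElement]
      have h5 : q ⁅b1, b2⁆ = 1 := (QuotientGroup.eq_one_iff _).2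
        (hag (hB.commutator_le hab0 (commutator_mem_commutator hb1 hb2)))
      rw [map_commutatorElement, hk, q3v, show e * z * e⁻¹ = ⁅e, z⁆ * z by
        simp only [commutatorElement_def]; group, map_mul, ← hf, hf1, one_mul] at h5
      have h6 : π (z : X) = 1 := by
        have hzF : ι z ∈ F := by
          rw [mul_inv_eq_one] at h5; rw [h5]; exact hwe
        rw [hF, hf1, zpowers_one_eq_bot, mem_bot] at hzF
        rw [hπd, QuotientGroup.mk'_apply, QuotientGroup.eq_one_iff]
        exact hUΦ ((QuotientGroup.eq_one_iff _).1 hzF)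
      exact one_ne_zero (show (1 : ZMod p) = 0 by
        have := (hind 0 1 0 (by rw [pow_zero, pow_zero, pow_one, h6, one_mul, mul_one])).2.1
        simpa using this)
    have hCB : closure ({(z : X), (u : X)} : Set X) ⊔ Φ ≤ B :=
      sup_le ((closure_le _).2 (by rintro a (rfl | rfl); exacts [hzB, huB])) hΦB
    refine ⟨hCB, eq_of_le_of_card_ge ?_ ?_⟩
    · -- `B` is abelian of exponent `p` modulo `Φ`
      have hgenπ : ∀ a : E, ∃ i j l : ℕ, π (a : X) = π (e : X) ^ i * π (z : X) ^ j * π (u : X) ^ l := fun a => by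
        obtain ⟨i, j', l, hh⟩ := d.hyp.coords a
        exact ⟨i, j', l, by simpa using hcg _ _ hh⟩
      have hπq : ∀ a b : X, q a = q b → π a = π b := fun a b hh => by
        rw [hπd, QuotientGroup.mk'_apply, QuotientGroup.mk'_apply, QuotientGroup.eq]
        exact hUΦ (QuotientGroup.eq.1 hh)
      have hzu : ∀ g, π (z : X) * g = g * π (z : X) ∧ π (u : X) * g = g * π (u : X) := by
        intro g
        obtain ⟨g, rfl⟩ := QuotientGroup.mk'_surjective Φ g
        constructor
        · obtain ⟨a, i, rfl⟩ := d.decomp g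
          rw [map_mul, map_pow]
          exact ((hab z a).mul_right ((show Commute (π x) (π (z : X)) from
            mul_inv_eq_iff_eq_mul.1 cz).symm.pow_right i)).eq
        · obtain ⟨a, i, rfl⟩ := d.decomp g
          rw [map_mul, map_pow]
          exact ((hab u a).mul_right ((show Commute (π x) (π (u : X)) from
            mul_inv_eq_iff_eq_mul.1 cu).symm.pow_right i)).eq
      set Cπ := closure ({π (z : X), π (u : X)} : Set (X ⧸ Φ)) with hCπ
      have hCc : ∀ w ∈ Cπ, ∀ g, w * g = g * w := by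
        intro w hw g
        induction hw using Subgroup.closure_induction with
        | mem w hw => rcases hw with rfl | rfl; exacts [(hzu g).1, (hzu g).2]
        | one => simp
        | mul a b _ _ iha ihb => rw [mul_assoc, ihb, ← mul_assoc, iha, mul_assoc]
        | inv a _ iha => exact (show Commute a g from iha).inv_left.eq
      haveI hCn : Cπ.Normal := ⟨fun n hn g => by rwa [← hCc n hn g, mul_inv_cancel_right]⟩
      set r := QuotientGroup.mk' Cπ with hrd
      have hCBπ : Cπ ≤ B.map π := (closure_le _).2 (by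
        rintro a (rfl | rfl); exacts [mem_map_of_mem π hzB, mem_map_of_mem π huB])
      have key : ∀ b ∈ B, ∃ (i n : ℕ), r (π b) = r (π (e : X)) ^ i * r (π x) ^ n := fun b hb => by
        obtain ⟨a, n, rfl⟩ := d.decomp b
        obtain ⟨i, j', l, hh⟩ := hgenπ a
        refine ⟨i, n, ?_⟩
        rw [map_mul, map_mul, hh, map_pow, map_mul, map_mul, map_pow, map_pow, map_pow, map_pow,
          show r (π (z : X)) = 1 from (QuotientGroup.eq_one_iff _).2 (subset_closure (by simp)),
          show r (π (u : X)) = 1 from (QuotientGroup.eq_one_iff _).2 (subset_closure (by simp)),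
          one_pow, one_pow, mul_one, mul_one]
      have hcyc : ∀ a ∈ B, ∀ b ∈ B, Commute (π a) (π b) := by
        obtain ⟨b0, hb0, hb0E⟩ := hB.exists_out d.index
        obtain ⟨a0', n0, rfl⟩ := d.decomp b0
        have hn0 : (n0 : ZMod p) ≠ 0 := fun e0 => hb0E (mul_mem a0'.2 (by
          obtain ⟨m, rfl⟩ := (ZMod.natCast_eq_zero_iff n0 p).1 e0
          rw [pow_mul]; exact pow_mem hxpE m))
        have hBE : ∀ b ∈ B, b ∈ E → π b ∈ Cπ := by
          intro b hb hbE
          obtain ⟨i, j', l, hh⟩ := hgenπ ⟨b, hbE⟩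
          by_cases hi : (i : ZMod p) = 0
          · rw [hh, pow_eq_pow_of_cast (hexp e) (b := 0) (by rw [hi, Nat.cast_zero]), pow_zero, one_mul]
            exact mul_mem (pow_mem (subset_closure (by simp)) _) (pow_mem (subset_closure (by simp)) _)
          exfalso
          obtain ⟨m, hm⟩ : ∃ m : ℕ, ((i * m : ℕ) : ZMod p) = 1 := ⟨((i : ZMod p)⁻¹).val, by
            rw [Nat.cast_mul, ZMod.natCast_zmod_val, mul_inv_cancel₀ hi]⟩
          have heB : π (e : X) ∈ B.map π := by
            have h7 := pow_mem (mem_map_of_mem π hb) m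
            change (π b) ^ m ∈ B.map π at h7
            rw [hh, mul_assoc, (show Commute (π (e : X) ^ i) (π (z : X) ^ j' * π (u : X) ^ l) from
              (((hab e z).pow_pow i j').mul_right ((hab e u).pow_pow i l))).mul_pow, ← pow_mul,
              pow_eq_pow_of_cast (hexp e) (b := 1) (by rw [hm, Nat.cast_one]), pow_one] at h7
            have h8 : (π (z : X) ^ j' * π (u : X) ^ l) ^ m ∈ B.map π := pow_mem (hCBπ
              (mul_mem (pow_mem (subset_closure (by simp)) _) (pow_mem (subset_closure (by simp)) _))) m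
            have := mul_mem h7 (inv_mem h8)
            rwa [mul_inv_cancel_right] at this
          have hE_B : E ≤ B := fun a ha => by
            obtain ⟨i', j'', l', hh'⟩ := hgenπ ⟨a, ha⟩
            have h9 : π a ∈ B.map π := by
              rw [hh']
              exact mul_mem (mul_mem (pow_mem heB _) (pow_mem (mem_map_of_mem π hzB) _))
                (pow_mem (mem_map_of_mem π huB) _)
            have h10 : a ∈ (B.map π).comap π := h9
            rwa [comap_map_eq, hπd, QuotientGroup.ker_mk', sup_eq_left.2 hΦB] at h10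
          exact hB.ne (max_eq_of_le d.index hB.index hE_B).symm
        have gen1 : ∀ b ∈ B, π b ∈ zpowers (π ((a0' : X) * x ^ n0)) ⊔ Cπ := by
          intro b hb
          obtain ⟨a, n, rfl⟩ := d.decomp b
          obtain ⟨m, hm⟩ : ∃ m : ℕ, (m : ZMod p) = (n : ZMod p) / n0 := ⟨_, ZMod.natCast_zmod_val _⟩
          have hmem : ((a : X) * x ^ n) * (((a0' : X) * x ^ n0) ^ m)⁻¹ ∈ E := by
            rw [← QuotientGroup.eq_one_iff, QuotientGroup.mk_mul, QuotientGroup.mk_inv,
              QuotientGroup.mk_pow, QuotientGroup.mk_mul, QuotientGroup.mk_mul,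
              (QuotientGroup.eq_one_iff (a : X)).2 a.2, (QuotientGroup.eq_one_iff (a0' : X)).2 a0'.2,
              one_mul, one_mul, QuotientGroup.mk_pow, QuotientGroup.mk_pow, ← pow_mul, mul_inv_eq_one]
            exact pow_eq_pow_of_cast (by rw [← QuotientGroup.mk_pow, QuotientGroup.eq_one_iff]; exact hxpE)
              (by rw [Nat.cast_mul, hm, mul_div_cancel₀ _ hn0])
          have h11 := hBE _ (mul_mem hb (inv_mem (pow_mem hb0 m))) hmem
          have := mul_mem (mem_sup_right h11 : _ ∈ zpowers (π ((a0' : X) * x ^ n0)) ⊔ Cπ)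
            (mem_sup_left (pow_mem (mem_zpowers (π ((a0' : X) * x ^ n0))) m))
          rwa [← map_pow, ← map_mul, inv_mul_cancel_right] at this
        intro a ha b hb
        obtain ⟨_, ⟨n, rfl⟩, c, hc, e1⟩ := mem_sup_of_normal_right.1 (gen1 a ha)
        obtain ⟨_, ⟨n', rfl⟩, c', hc', e2⟩ := mem_sup_of_normal_right.1 (gen1 b hb)
        rw [← e1, ← e2]
        exact ((Commute.refl _).zpow_zpow n n' |>.mul_right (show Commute _ c' from (hCc c' hc' _).symm)).mul_left
          (show Commute c _ from hCc c hc _)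
      rw [frattini_eq_sup (d.pgroup.to_subgroup B), Subgroup.map_sup, ← agemo_map,
        ← MonoidHom.range_eq_map, range_subtype]
      refine sup_le ?_ (hag.trans hUΦ)
      rw [_root_.commutator_def, map_commutator, ← MonoidHom.range_eq_map, range_subtype, commutator_le]
      intro a ha b hb
      rw [← QuotientGroup.eq_one_iff, ← QuotientGroup.mk'_apply, map_commutatorElement, ← hπd,
        commutatorElement_eq_one_iff_mul_comm]
      exact (hcyc a ha b hb).eq
    · rw [card_map_of_injective B.subtype_injective, hΦ, card_map_of_injective E.subtype_injective,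
        ← frattini_map_iso φ, card_map_of_injective (f := φ.toMonoidHom) φ.injective]
  refine ⟨?_, copy⟩
  have hcomΦ : ∀ a b : X, Commute (π a) (π b) → ⁅a, b⁆ ∈ Φ := fun a b hh => by
    rw [← QuotientGroup.eq_one_iff, ← QuotientGroup.mk'_apply, map_commutatorElement,
      commutatorElement_eq_one_iff_mul_comm]
    exact hh.eq
  have hΦE : Φ ≤ E := map_subtype_le _
  have hEeq : E = closure ({(e : X), (z : X), (u : X)} : Set X) ⊔ Φ := by
    have h1 := congrArg (Subgroup.map E.subtype) d.hyp.gen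
    rw [Subgroup.map_sup, MonoidHom.map_closure, ← MonoidHom.range_eq_map, range_subtype] at h1
    rw [hΦ]
    simpa [Set.image_insert_eq] using h1.symm
  exact
  { normal := inferInstance
    index := by rw [hΦ, index_map_subtype, d.hyp.index, d.index, ← pow_succ]
    le_frattini := Core.frattini_le_of_normal E
    hE := hEeq
    gen := by
      refine top_le_iff.1 fun g _ => ?_
      obtain ⟨a, i, rfl⟩ := d.decomp g
      have hle : E ≤ closure ({x, (e : X), (z : X), (u : X)} : Set X) ⊔ Φ := by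
        conv_lhs => rw [hEeq]
        exact sup_le_sup_right (Subgroup.closure_mono (Set.subset_insert _ _)) Φ
      exact mul_mem (hle a.2) (mem_sup_left (pow_mem (subset_closure (by simp)) i))
    xe := by
      rw [← QuotientGroup.eq, ← QuotientGroup.mk'_apply, ← QuotientGroup.mk'_apply, map_commutatorElement,
        commutatorElement_def, ← hπd, ce, (hab e z).eq, mul_inv_cancel_right]
    xz := hcomΦ _ _ (mul_inv_eq_iff_eq_mul.1 cz)
    xu := hcomΦ _ _ (mul_inv_eq_iff_eq_mul.1 cu)
    ez := hcomΦ _ _ (hab e z)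
    eu := hcomΦ _ _ (hab e u)
    zu := hcomΦ _ _ (hab z u)
    powers := hpow
    char := fun α w hw => by
      have hm : α w ∈ (frattini (E.map α.toMonoidHom)).map (E.map α.toMonoidHom).subtype := by
        rw [← frattini_image]; exact mem_map_of_mem α.toMonoidHom hw
      by_cases hE' : E.map α.toMonoidHom = E
      · rw [hE'] at hm; exact hm
      · exact (copy (E.map α.toMonoidHom) ⟨(index_map_equiv E α).trans d.index,
          ⟨E.equivMapOfInjective α.toMonoidHom α.injective⟩, hE'⟩).2.le hm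
    k0 := d.k0
    k2 := d.k2
    k3 := d.k3
    k5 := d.k5
    hx := by
      have h1 : (x ^ j)⁻¹ * x ^ (k ^ 2).val ∈ Φ := by
        rw [← QuotientGroup.eq, ← QuotientGroup.mk'_apply, ← QuotientGroup.mk'_apply, map_pow, map_pow]
        refine pow_eq_pow_of_cast ?_ (by rw [ZMod.natCast_zmod_val, hjk])
        rw [← map_pow, QuotientGroup.mk'_apply, QuotientGroup.eq_one_iff]
        exact hpow x
      have h2 := mul_mem hx (mem_sup_right h1 :
        (x ^ j)⁻¹ * x ^ (k ^ 2).val ∈ closure ({(z : X), (u : X)} : Set X) ⊔ Φ)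
      rwa [mul_assoc, mul_inv_cancel_left] at h2
    he := mem_sup_right d.he
    hu := mem_sup_right d.hu }

end Cfsg.Agent.RankThreeEss
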