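import Cfsg.Agent.RankThreeEss.Shapes
import Cfsg.Agent.RankThreeEss.PairA
import Cfsg.Agent.FusSys.Saturation
import Cfsg.Agent.FusSys.Alperin

/-!
The action of the automorphism group of an essential subgroup on its Frattini quotient, translated
back into automorphisms and congruences modulo the Frattini subgroup.
-/

set_option autoImplicit false

namespace Cfsg.Agent.RankThreeEss

open Cfsg Cfsg.FusionSystem Cfsg.Agent.FusSys Subgroup

universe u

/-- The Frattini quotient as a space over `ZMod p`, given by the projection. -/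
structure QPi (p : ℕ) {P : Type u} [Group P] {V : Type u} [AddCommGroup V] [Module (ZMod p) V]
    (π : P → V) : Prop where
  surj : Function.Surjective π
  mul : ∀ a b, π (a * b) = π a + π b
  ker : ∀ a, π a = 0 ↔ a ∈ frattini P
  dim : Module.finrank (ZMod p) V = 3
  index : (frattini P).index = p ^ 3

variable {p : ℕ} [hp : Fact p.Prime]

theorem exists_qpi {P : Type u} [Group P] [Finite P] (hP : IsPGroup p P)
    (hr : (frattini P).index = p ^ 3) :
    ∃ (V : Type u) (_ : AddCommGroup V) (_ : Module (ZMod p) V) (π : P → V), QPi p π := by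
  obtain ⟨n, hn⟩ := IsPGroup.iff_card.1 hP
  obtain ⟨hcomm, hexp⟩ := FGS.frattini_quotient_props hn
  letI cg : CommGroup (P ⧸ frattini P) :=
    { (inferInstance : Group (P ⧸ frattini P)) with mul_comm := hcomm }
  letI md : Module (ZMod p) (Additive (P ⧸ frattini P)) :=
    AddCommGroup.zmodModule fun v => hexp v.toMul
  refine ⟨Additive (P ⧸ frattini P), inferInstance, md,
    fun a => Additive.ofMul ((a : P) : P ⧸ frattini P), ?_, fun a b => rfl, fun a => ?_, ?_, hr⟩
  · intro v
    obtain ⟨a, ha⟩ := QuotientGroup.mk_surjective v.toMul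
    exact ⟨a, congrArg Additive.ofMul ha⟩
  · exact QuotientGroup.eq_one_iff a
  · haveI : Finite (Additive (P ⧸ frattini P)) := Finite.of_equiv _ Additive.ofMul
    haveI : Module.Finite (ZMod p) (Additive (P ⧸ frattini P)) := Module.Finite.of_finite
    have h1 : Nat.card (Additive (P ⧸ frattini P)) =
        Nat.card (ZMod p) ^ Module.finrank (ZMod p) (Additive (P ⧸ frattini P)) :=
      @Module.natCard_eq_pow_finrank (ZMod p) _ (ZMod.instField p).toDivisionRing _ md this
    rw [Nat.card_zmod, Nat.card_congr (Additive.ofMul (α := P ⧸ frattini P)).symm,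
      ← index_eq_card, hr] at h1
    exact (Nat.pow_right_injective hp.out.two_le h1).symm

section
variable {P : Type u} [Group P] {V : Type u} [AddCommGroup V] [Module (ZMod p) V] {π : P → V}
  (q : QPi p π)
include q

theorem QPi.one : π 1 = 0 := (q.ker 1).2 (one_mem _)

theorem QPi.inv (a : P) : π a⁻¹ = -π a :=
  eq_neg_of_add_eq_zero_left (by rw [← q.mul, inv_mul_cancel, q.one])

theorem QPi.cg (a b : P) : Cg a b ↔ π a = π b := by
  rw [Cg, ← q.ker, q.mul, q.inv, neg_add_eq_zero]

theorem QPi.pow (a : P) (n : ℕ) : π (a ^ n) = (n : ZMod p) • π a := by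
  induction n with
  | zero => rw [pow_zero, q.one, Nat.cast_zero, zero_smul]
  | succ n ih => rw [pow_succ, q.mul, ih, Nat.cast_succ, add_smul, one_smul]

theorem QPi.pow_val (a : P) (c : ZMod p) : π (a ^ c.val) = c • π a := by
  haveI : NeZero p := ⟨hp.out.ne_zero⟩
  rw [q.pow, ZMod.natCast_zmod_val]

theorem QPi.congr_aut (α : MulAut P) {a b : P} (h : π a = π b) : π (α a) = π (α b) := by
  rw [← q.cg] at h ⊢
  have h1 : (frattini P).comap α.toMonoidHom = frattini P :=
    (frattini_characteristic (G := P)).fixed α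
  rw [Cg, ← map_inv, ← map_mul]
  exact h1.symm.le h

/-- The induced linear map. -/
noncomputable def QPi.act (α : MulAut P) : Module.End (ZMod p) V :=
  AddMonoidHom.toZModLinearMap p (AddMonoidHom.mk' (fun v => π (α (Function.surjInv q.surj v)))
    fun v w => by
      rw [q.congr_aut α (b := Function.surjInv q.surj v * Function.surjInv q.surj w)
        (by rw [q.mul, Function.surjInv_eq q.surj, Function.surjInv_eq q.surj,
          Function.surjInv_eq q.surj]), map_mul, q.mul])

theorem QPi.act_apply (α : MulAut P) (a : P) : q.act α (π a) = π (α a) :=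
  q.congr_aut α (Function.surjInv_eq q.surj (π a))

/-- The representation on the Frattini quotient. -/
noncomputable def QPi.rep : MulAut P →* Module.End (ZMod p) V where
  toFun := q.act
  map_one' := LinearMap.ext fun v => by
    obtain ⟨a, rfl⟩ := q.surj v
    rw [q.act_apply, MulAut.one_apply, Module.End.one_apply]
  map_mul' α β := LinearMap.ext fun v => by
    obtain ⟨a, rfl⟩ := q.surj v
    rw [Module.End.mul_apply, q.act_apply, q.act_apply, q.act_apply, MulAut.mul_apply]

theorem QPi.rep_apply (α : MulAut P) (a : P) : q.rep α (π a) = π (α a) := q.act_apply α a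

theorem QPi.rep_conj (g : P) : q.rep (MulAut.conj g) = 1 := LinearMap.ext fun v => by
  obtain ⟨a, rfl⟩ := q.surj v
  rw [q.rep_apply, MulAut.conj_apply, q.mul, q.mul, q.inv, Module.End.one_apply]
  abel

theorem QPi.fd : FiniteDimensional (ZMod p) V := Module.finite_of_finrank_eq_succ q.dim

theorem QPi.ehyp [Finite P] (hP : IsPGroup p P)
    (hrank : ∀ (N : Subgroup P) [N.Normal], PRankLE p 3 (P ⧸ N)) {b1 b2 b3 : P}
    (li : LinearIndependent (ZMod p) ![π b1, π b2, π b3]) : EHyp p b1 b2 b3 := by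
  haveI := q.fd
  refine ⟨hP, hrank, q.index, eq_top_iff.2 fun a _ => ?_⟩
  have hspan := li.span_eq_top_of_card_eq_finrank (by rw [q.dim]; rfl)
  obtain ⟨c, hc⟩ := (Submodule.mem_span_range_iff_exists_fun (ZMod p)).1
    (hspan.symm ▸ Submodule.mem_top : π a ∈ Submodule.span (ZMod p) (Set.range ![π b1, π b2, π b3]))
  simp [Fin.sum_univ_three] at hc
  set w := b1 ^ (c 0).val * b2 ^ (c 1).val * b3 ^ (c 2).val with hw
  have h1 : w⁻¹ * a ∈ frattini P := by
    refine (q.cg w a).2 ?_
    rw [hw, q.mul, q.mul, q.pow_val, q.pow_val, q.pow_val, hc]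
  have h2 : w ∈ closure ({b1, b2, b3} : Set P) :=
    mul_mem (mul_mem (pow_mem (Subgroup.subset_closure (by simp)) _)
      (pow_mem (Subgroup.subset_closure (by simp)) _)) (pow_mem (Subgroup.subset_closure (by simp)) _)
  rw [← mul_inv_cancel_left w a]
  exact mul_mem (mem_sup_left h2) (mem_sup_right h1)

theorem QPi.irr_subgroup (A : Set (MulAut P))
    (hirr : ∀ W : Submodule (ZMod p) V, (∀ α ∈ A, ∀ w ∈ W, q.rep α w ∈ W) → W = ⊥ ∨ W = ⊤)
    (W : Subgroup P) (hΦ : frattini P ≤ W) (hW : ∀ α ∈ A, ∀ w ∈ W, α w ∈ W) :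
    W = frattini P ∨ W = ⊤ := by
  let U : Submodule (ZMod p) V :=
    { carrier := π '' W
      zero_mem' := ⟨1, one_mem W, q.one⟩
      add_mem' := by rintro _ _ ⟨a, ha, rfl⟩ ⟨b, hb, rfl⟩; exact ⟨a * b, mul_mem ha hb, q.mul a b⟩
      smul_mem' := by rintro c _ ⟨a, ha, rfl⟩; exact ⟨a ^ c.val, pow_mem ha _, q.pow_val a c⟩ }
  have memU : ∀ v, v ∈ U ↔ ∃ a ∈ W, π a = v := fun v => Iff.rfl
  rcases hirr U (fun α hα v hv => by
    obtain ⟨a, ha, rfl⟩ := (memU v).1 hv
    exact (memU _).2 ⟨α a, hW α hα a ha, (q.rep_apply α a).symm⟩) with h | h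
  · refine Or.inl (le_antisymm (fun a ha => (q.ker a).1 ?_) hΦ)
    exact (Submodule.mem_bot (ZMod p)).1 (h ▸ (memU (π a)).2 ⟨a, ha, rfl⟩)
  · refine Or.inr ((eq_top_iff' W).2 fun a => ?_)
    obtain ⟨b, hb, hab⟩ := (memU (π a)).1 (h ▸ Submodule.mem_top)
    have := hΦ ((q.cg b a).2 hab)
    simpa using mul_mem hb this

end

/-! ### The essential subgroup inside its normalizer -/

variable {Ω : Type u} [Group Ω] {S : Subgroup Ω} {F : FusionSystem S} {E : Subgroup Ω}

instance normal_subgroupOf_normalizerIn : (E.subgroupOf (normalizerIn S E)).Normal :=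
  ⟨fun y hy g => (Subgroup.mem_normalizer_iff.1 g.2.2 y).1 hy⟩

/-- Automorphisms of `E` seen on the copy of `E` inside its normalizer. -/
noncomputable def toN (hES : E ≤ S) : MulAut E →* MulAut ↥(E.subgroupOf (normalizerIn S E)) :=
  (MulAut.congr (subgroupOfEquivOfLe (le_normalizerIn hES)).symm).toMonoidHom

theorem toN_coe (hES : E ≤ S) (α : MulAut E) (a : ↥(E.subgroupOf (normalizerIn S E))) :
    ((toN hES α a : normalizerIn S E) : Ω) = apl α ((a : normalizerIn S E) : Ω) :=
  (apl_apply α a.2).symm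

theorem conjNormal_eq_toN (hES : E ≤ S) (y : normalizerIn S E) :
    (MulAut.conjNormal y : MulAut ↥(E.subgroupOf (normalizerIn S E))) =
      toN hES (E.normalizerMonoidHom ⟨y, y.2.2⟩) := by
  refine MulEquiv.ext fun a => Subtype.ext (Subtype.ext ?_)
  refine Eq.trans ?_ (toN_coe hES _ a).symm
  refine Eq.trans ?_ (apl_normalizerMonoidHom ⟨(y : Ω), y.2.2⟩ a.2).symm
  exact congrArg Subtype.val (MulAut.conjNormal_apply y a)

/-- The two kinds of action. -/
def Shape (F : FusionSystem S) (p : ℕ) (E : Subgroup Ω) (hES : E ≤ S) (x : normalizerIn S E) :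
    Prop :=
  let N := E.subgroupOf (normalizerIn S E)
  (∃ e t z : N, EHyp p e t z ∧ Cg (MulAut.conjNormal x e) (e * t) ∧
      Cg (MulAut.conjNormal x t) (t * z) ∧ Cg (MulAut.conjNormal x z) z ∧
      ∀ W : Subgroup N, frattini N ≤ W →
        (∀ α ∈ (F.autGroup E).map (toN hES), ∀ w ∈ W, α w ∈ W) → W = frattini N ∨ W = ⊤) ∨
  ∃ (e z u : N) (τ' : MulAut N) (k' : ℕ), EHyp p e z u ∧ τ' ^ p ^ k' = 1 ∧
    τ' ∈ (F.autGroup E).map (toN hES) ∧
    Cg (MulAut.conjNormal x e) (e * z) ∧ Cg (MulAut.conjNormal x z) z ∧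
    Cg (MulAut.conjNormal x u) u ∧ Cg (τ' e) e ∧ Cg (τ' z) (z * e) ∧ Cg (τ' u) u ∧
    ∀ k : ZMod p, k ≠ 0 → ∃ h ∈ F.autGroup E,
      (∀ γ ∈ autInducedBy S E, h * γ * h⁻¹ ∈ autInducedBy S E) ∧
      Cg (toN hES h e) (e ^ k⁻¹.val) ∧ Cg (toN hES h z) (z ^ k.val) ∧ Cg (toN hES h u) u

theorem essential_shape [Finite S] (hp5 : 5 ≤ p) (hS : IsPGroup p S) (hF : F.IsSaturated p)
    (hsr : SectionalPRankLE p 3 S) (hE : F.IsEssential p E) (hrk : (frattini E).index = p ^ 3)
    (hES : E ≤ S) :
    ∃ x : normalizerIn S E, x ∉ E.subgroupOf (normalizerIn S E) ∧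
      (E.subgroupOf (normalizerIn S E)).index = p ∧ Shape F p E hES x := by
  classical
  haveI := finite_of_le hES
  obtain ⟨hc, hfn, hn, E0, hE0⟩ := id hE
  haveI : Finite (MulAut E) := Finite.of_injective _ MulEquiv.toEquiv_injective
  haveI : (innIn F E).Normal := hn
  set M := normalizerIn S E with hM
  have hMS : M ≤ S := inf_le_left
  haveI : Finite M := finite_of_le hMS
  have hMp : IsPGroup p M := hS.to_le hMS
  set N := E.subgroupOf M with hN
  have hNp : IsPGroup p N := hMp.to_subgroup N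
  set ι : N ≃* E := subgroupOfEquivOfLe (le_normalizerIn hES) with hι
  have hrkN : (frattini N).index = p ^ 3 := by
    have h1 := frattini_map_iso ι
    rw [← hrk, ← h1]
    exact (index_map_equiv (frattini N) ι).symm
  obtain ⟨V, _, _, π, q⟩ := exists_qpi hNp hrkN
  obtain ⟨-, R, hR⟩ := fullyAutomized_of_fullyNormalized hS hF hfn
  set j : F.autGroup E →* MulAut N := (toN hES).comp (F.autGroup E).subtype with hj
  have hinn : innIn F E ≤ (q.rep.comp j).ker := fun α hα => by
    obtain ⟨g, hg⟩ := mem_subgroupOf.1 hα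
    have e1 : j α = MulAut.conj (ι.symm g) := by
      refine MulEquiv.ext fun a => ?_
      show toN hES α a = _
      rw [← hg]
      show ι.symm (MulAut.conj g (ι a)) = _
      rw [MulAut.conj_apply, MulAut.conj_apply, map_mul, map_mul, map_inv, ι.symm_apply_apply]
    rw [MonoidHom.mem_ker, MonoidHom.comp_apply, e1, q.rep_conj]
  set ρ := QuotientGroup.lift (innIn F E) (q.rep.comp j) hinn with hρ
  have ρmk : ∀ α : F.autGroup E, ρ (α : F.autGroup E ⧸ innIn F E) = q.rep (j α) := fun α => rfl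
  have hmks := QuotientGroup.mk'_surjective (innIn F E)
  have hinj : Function.Injective ρ := by
    rw [← MonoidHom.ker_eq_bot_iff, eq_bot_iff, ← pCore_eq_bot_of_stronglyPEmbedded hE0]
    refine Core.le_pCore ?_
    have hK : IsPGroup p (q.rep.comp j).ker := by
      obtain ⟨n, hn⟩ := IsPGroup.iff_card.1 hNp
      have hd := FGS.card_dvd_of_trivial_on_frattini_quotient hn hrkN ((q.rep.comp j).ker.map j) (by
        rintro _ ⟨α, hα, rfl⟩ a
        rw [← q.ker, q.mul, q.inv, ← q.rep_apply, show q.rep (j α) = 1 from hα, Module.End.one_apply,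
          add_neg_cancel])
      have hjinj : Function.Injective j :=
        fun a b hab => Subtype.ext ((MulAut.congr (subgroupOfEquivOfLe (le_normalizerIn hES)).symm).injective hab)
      rw [card_map_of_injective hjinj] at hd
      obtain ⟨m, -, hm⟩ := (Nat.dvd_prime_pow hp.out).1 hd
      exact IsPGroup.of_card hm
    refine (hK.map (QuotientGroup.mk' (innIn F E))).to_le ?_
    intro y hy
    obtain ⟨α, rfl⟩ := hmks y
    exact ⟨α, hy, rfl⟩
  set T := R.mapSurjective hmks with hT
  obtain ⟨Y, hY, hNY⟩ := exists_proper_of_stronglyPEmbedded hE0 T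
  set θ : M →* F.autGroup E :=
    (E.normalizerMonoidHom.comp (Subgroup.inclusion inf_le_right)).codRestrict _ (fun y =>
      autInducedBy_le_autGroup hES (mem_autInducedBy_iff.2
        ⟨y, y.2.1, y.2.2, fun a ha => apl_normalizerMonoidHom ⟨(y : Ω), y.2.2⟩ ha⟩)) with hθ
  have hθj : ∀ y : M, j (θ y) = MulAut.conjNormal y := fun y => (conjNormal_eq_toN hES y).symm
  have hθR : θ.range = R := by
    refine le_antisymm ?_ fun γ hγ => ?_
    · rintro _ ⟨y, rfl⟩
      rw [hR, mem_subgroupOf]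
      exact mem_autInducedBy_iff.2
        ⟨y, y.2.1, y.2.2, fun a ha => apl_normalizerMonoidHom ⟨(y : Ω), y.2.2⟩ ha⟩
    · rw [hR, mem_subgroupOf, mem_autInducedBy_iff] at hγ
      obtain ⟨g, hg, hgn, hgx⟩ := hγ
      exact ⟨⟨g, hg, hgn⟩, Subtype.ext (apl_ext fun a ha => by
        rw [hgx a ha]; exact apl_normalizerMonoidHom ⟨g, hgn⟩ ha)⟩
  set θG := (QuotientGroup.mk' (innIn F E)).comp θ with hθG
  have hrange : θG.range = (T : Subgroup (F.autGroup E ⧸ innIn F E)) := by
    rw [hθG, MonoidHom.range_comp, hθR]; rfl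
  have hker : θG.ker = N := by
    ext y
    rw [hθG, MonoidHom.mem_ker, MonoidHom.comp_apply, QuotientGroup.mk'_apply,
      QuotientGroup.eq_one_iff, mem_subgroupOf, hN, mem_subgroupOf]
    refine ⟨fun h => mem_of_conj_mem_inn (centric_self hc) hES y.2.1
      (fun a ha => apl_normalizerMonoidHom ⟨(y : Ω), y.2.2⟩ ha) h, fun h => ?_⟩
    rw [inn_eq_autInducedBy, mem_autInducedBy_iff]
    exact ⟨y, h, y.2.2, fun a ha => apl_normalizerMonoidHom ⟨(y : Ω), y.2.2⟩ ha⟩
  have hTne : (T : Subgroup (F.autGroup E ⧸ innIn F E)) ≠ ⊥ := T.ne_bot_of_dvd_card hE0.1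
  have hset : Setup ρ T Y := ⟨hinj, q.dim, by omega, hY, hTne, hNY⟩
  obtain ⟨τ, hτT, hτ1, hTτ, hsh⟩ := hset.shapes
  obtain ⟨x, hx⟩ : τ ∈ θG.range := hrange ▸ hτT
  have hidx : N.index = p := by
    rw [← hker, Subgroup.index_ker, hrange, hset.card_T]
  refine ⟨x, fun h => hτ1 (hx.symm.trans (MonoidHom.mem_ker.1 (hker.symm ▸ h))), hidx, ?_⟩
  have hrankN : ∀ (L : Subgroup N) [L.Normal], PRankLE p 3 (N ⧸ L) := fun L _ =>
    rank_of_injective hsr ((Subgroup.inclusion hMS).comp N.subtype)
      ((Subgroup.inclusion_injective hMS).comp N.subtype_injective) L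
  have hρθ : ∀ a : N, ρ τ (π a) = π (MulAut.conjNormal x a) := fun a => by
    rw [← hx, ← hθj, ← q.rep_apply]; rfl
  have hρj : ∀ (α : F.autGroup E) (a : N), ρ (α : F.autGroup E ⧸ innIn F E) (π a) = π (j α a) :=
    fun α a => by rw [ρmk, q.rep_apply]
  rcases hsh with ⟨τ', e, z, u, P⟩ | ⟨e, t, z, P⟩
  · obtain ⟨e, rfl⟩ := q.surj e
    obtain ⟨z, rfl⟩ := q.surj z
    obtain ⟨u, rfl⟩ := q.surj u
    obtain ⟨α, rfl⟩ := hmks τ'
    have hα : ∃ i : ℕ, α ^ p ^ i = 1 := by
      have h1 : (QuotientGroup.mk' (innIn F E) α) ^ p = 1 := by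
        refine hinj (LinearMap.ext fun v => ?_)
        have h2 : ∀ (n : ℕ) (c : V), ρ (QuotientGroup.mk' (innIn F E) α) c = c →
            (ρ (QuotientGroup.mk' (innIn F E) α) ^ n) c = c := fun n c hc => by
          induction n with
          | zero => rfl
          | succ n ih => rw [pow_succ', Module.End.mul_apply, ih, hc]
        rw [map_one, Module.End.one_apply]
        have hz : ∀ n : ℕ, (ρ (QuotientGroup.mk' (innIn F E) α) ^ n) (π z) = π z + (n : ZMod p) • π e := by
          intro n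
          induction n with
          | zero => simp
          | succ n ih =>
            rw [pow_succ', Module.End.mul_apply, ih, map_add, map_smul, P.τ'z, P.τ'e, add_assoc,
              Nat.cast_succ, add_comm (n : ZMod p), add_smul, one_smul]
        haveI := q.fd
        have hspan := P.li.span_eq_top_of_card_eq_finrank (by rw [q.dim]; rfl)
        refine congrFun (congrArg DFunLike.coe (LinearMap.ext_on_range hspan
          (g := (1 : Module.End (ZMod p) V)) ?_)) v
        intro i
        fin_cases i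
        · simpa [map_pow] using h2 p _ P.τ'e
        · simpa [map_pow] using hz p
        · simpa [map_pow] using h2 p _ P.τ'u
      rw [← map_pow, QuotientGroup.mk'_apply, QuotientGroup.eq_one_iff] at h1
      have hI : IsPGroup p (innIn F E) := by
        refine ((isPGroup_autInducedBy (hS.to_le hES)).comap_subtype).to_le ?_
        rw [innIn, inn_eq_autInducedBy]; rfl
      obtain ⟨i, hi⟩ := hI ⟨_, h1⟩
      exact ⟨i + 1, by rw [pow_succ', pow_mul]; exact congrArg Subtype.val hi⟩
    obtain ⟨i, hi⟩ := hα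
    refine Or.inr ⟨e, z, u, j α, i, q.ehyp hNp hrankN P.li, by rw [← map_pow, hi, map_one],
      mem_map_of_mem _ α.2,
      ?_, ?_, ?_, ?_, ?_, ?_, fun k hk => ?_⟩
    · rw [q.cg, ← hρθ, P.τe, q.mul]
    · rw [q.cg, ← hρθ, P.τz]
    · rw [q.cg, ← hρθ, P.τu]
    · rw [q.cg, ← hρj]; exact P.τ'e
    · rw [q.cg, ← hρj, q.mul]; exact P.τ'z
    · rw [q.cg, ← hρj]; exact P.τ'u
    obtain ⟨g, ge, gz, gu⟩ := P.torus k k⁻¹ (mul_inv_cancel₀ hk)
    obtain ⟨h, rfl⟩ := hmks g
    refine ⟨h, h.2, fun γ hγ => ?_, ?_, ?_, ?_⟩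
    · set H := QuotientGroup.mk' (innIn F E) h with hH
      have key : H * τ * H⁻¹ = τ ^ (k ^ 2).val := by
        haveI : NeZero p := ⟨hp.out.ne_zero⟩
        haveI := q.fd
        have hspan := P.li.span_eq_top_of_card_eq_finrank (by rw [q.dim]; rfl)
        have hτn : ∀ n : ℕ, (ρ τ ^ n) (π e) = π e + (n : ZMod p) • π z ∧
            (ρ τ ^ n) (π z) = π z ∧ (ρ τ ^ n) (π u) = π u := fun n => by
          induction n with
          | zero => simp
          | succ n ih =>
            simp only [pow_succ', Module.End.mul_apply, ih.1, ih.2.1, ih.2.2, P.τz, P.τu, map_add,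
              map_smul, P.τe, Nat.cast_succ, add_smul, one_smul, and_true]
            abel
        rw [mul_inv_eq_iff_eq_mul]
        refine hinj (LinearMap.ext_on_range hspan ?_)
        intro i
        rw [map_mul, map_mul, map_pow, Module.End.mul_apply, Module.End.mul_apply]
        fin_cases i
        · show ρ H (ρ τ (π e)) = (ρ τ ^ _) (ρ H (π e))
          rw [P.τe, map_add, ge, gz, map_smul, (hτn _).1, ZMod.natCast_zmod_val, smul_add, smul_smul,
            pow_two, ← mul_assoc, inv_mul_cancel₀ hk, one_mul]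
        · show ρ H (ρ τ (π z)) = (ρ τ ^ _) (ρ H (π z))
          rw [P.τz, gz, map_smul, (hτn _).2.1]
        · show ρ H (ρ τ (π u)) = (ρ τ ^ _) (ρ H (π u))
          rw [P.τu, gu, (hτn _).2.2]
      have hmem : ∀ δ : F.autGroup E, (δ : MulAut E) ∈ autInducedBy S E → h * δ * h⁻¹ ∈
          ((R : Subgroup (F.autGroup E)).map (QuotientGroup.mk' (innIn F E))).comap
            (QuotientGroup.mk' (innIn F E)) := fun δ hδ => by
        have h1 : QuotientGroup.mk' (innIn F E) δ ∈ (T : Subgroup (F.autGroup E ⧸ innIn F E)) :=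
          mem_map_of_mem _ (hR.symm ▸ mem_subgroupOf.2 hδ)
        rw [hTτ] at h1
        obtain ⟨n, hn⟩ := mem_zpowers_iff.1 h1
        rw [mem_comap, map_mul, map_mul, map_inv, ← hn, ← conj_zpow, ← hH, key]
        show _ ∈ (T : Subgroup (F.autGroup E ⧸ innIn F E))
        exact zpow_mem (pow_mem hτT _) n
      have h2 := hmem ⟨γ, autInducedBy_le_autGroup hES hγ⟩ hγ
      rw [comap_map_eq, QuotientGroup.ker_mk', sup_eq_left.2] at h2
      · rw [hR, mem_subgroupOf] at h2; exact h2
      · intro δ hδ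
        rw [hR, mem_subgroupOf]
        exact inn_le_autInducedBy hES (mem_subgroupOf.1 hδ)
    · rw [q.cg, q.pow_val, ← ge]; exact (hρj h e).symm
    · rw [q.cg, q.pow_val, ← gz]; exact (hρj h z).symm
    · rw [q.cg]; exact (hρj h u).symm.trans gu
  · obtain ⟨e, rfl⟩ := q.surj e
    obtain ⟨t, rfl⟩ := q.surj t
    obtain ⟨z, rfl⟩ := q.surj z
    refine Or.inl ⟨e, t, z, q.ehyp hNp hrankN P.li, ?_, ?_, ?_, fun W hΦ hW =>
      q.irr_subgroup _ (fun U hU => P.irr U fun g w hw => ?_) W hΦ hW⟩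
    · rw [q.cg, ← hρθ, P.τe, q.mul]
    · rw [q.cg, ← hρθ, P.τt, q.mul]
    · rw [q.cg, ← hρθ, P.τz]
    · obtain ⟨α, rfl⟩ := hmks g
      exact hU (j α) (mem_map.2 ⟨α, α.2, rfl⟩) w hw

end Cfsg.Agent.RankThreeEss
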