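import Cfsg.Prelude
import Cfsg.Agent.S4209
import Cfsg.Agent.Core.Frattini
import Cfsg.Agent.Core.Basics
import Cfsg.Agent.Fusion.Critical
import Mathlib.FieldTheory.Finite.Basic

/-!
Tools for small `p`-groups: class two identities, agemo, powers in class three, elementary abelian
subgroups under a rank bound.
-/

set_option autoImplicit false

namespace Cfsg.Agent.RankThreeEss

open Subgroup
open scoped commutatorElement

variable {Q : Type*} [Group Q] {p : ℕ}

/-! ### Class two -/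

/-- All commutators are central. -/
def CommCentral (Q : Type*) [Group Q] : Prop := ∀ a b g : Q, ⁅a, b⁆ * g = g * (⁅a, b⁆ : Q)

theorem comm_mul_left_of (a b c : Q) (h : ∀ g : Q, ⁅b, c⁆ * g = g * ⁅b, c⁆) :
    ⁅a * b, c⁆ = ⁅a, c⁆ * ⁅b, c⁆ := by
  rw [show ⁅a * b, c⁆ = a * ⁅b, c⁆ * a⁻¹ * ⁅a, c⁆ by simp only [commutatorElement_def]; group,
    ← h a, mul_inv_cancel_right, h]

theorem comm_mul_right_of (a b c : Q) (h : ∀ g : Q, ⁅a, c⁆ * g = g * ⁅a, c⁆) :
    ⁅a, b * c⁆ = ⁅a, b⁆ * ⁅a, c⁆ := by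
  rw [show ⁅a, b * c⁆ = ⁅a, b⁆ * (b * ⁅a, c⁆ * b⁻¹) by simp only [commutatorElement_def]; group,
    ← h b, mul_inv_cancel_right]

theorem CommCentral.mul_left (h : CommCentral Q) (a b c : Q) : ⁅a * b, c⁆ = ⁅a, c⁆ * ⁅b, c⁆ :=
  comm_mul_left_of a b c (h b c)

theorem CommCentral.mul_right (h : CommCentral Q) (a b c : Q) : ⁅a, b * c⁆ = ⁅a, b⁆ * ⁅a, c⁆ :=
  comm_mul_right_of a b c (h a c)

theorem CommCentral.pow_left (h : CommCentral Q) (a b : Q) (n : ℕ) : ⁅a ^ n, b⁆ = ⁅a, b⁆ ^ n := by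
  induction n with
  | zero => simp
  | succ n ih => rw [pow_succ, h.mul_left, ih, pow_succ]

theorem CommCentral.pow_right (h : CommCentral Q) (a b : Q) (n : ℕ) : ⁅a, b ^ n⁆ = ⁅a, b⁆ ^ n := by
  induction n with
  | zero => simp
  | succ n ih => rw [pow_succ, h.mul_right, ih, pow_succ]

theorem comm_mul_central_left (a b : Q) {c : Q} (hc : ∀ g, c * g = g * c) : ⁅a * c, b⁆ = ⁅a, b⁆ := by
  have e : ⁅c, b⁆ = 1 := commutatorElement_eq_one_iff_mul_comm.2 (hc b)
  rw [comm_mul_left_of a c b (fun g => by rw [e, one_mul, mul_one]), e, mul_one]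

theorem comm_mul_central_right (a b : Q) {c : Q} (hc : ∀ g, c * g = g * c) : ⁅a, b * c⁆ = ⁅a, b⁆ := by
  have e : ⁅a, c⁆ = 1 := commutatorElement_eq_one_iff_mul_comm.2 (hc a).symm
  rw [comm_mul_right_of a b c (fun g => by rw [e, one_mul, mul_one]), e, mul_one]

/-- The subgroup of elements commuting modulo `N` with a generating set is everything. -/
theorem commCentral_of_gens {s : Set Q} (hs : closure s = ⊤)
    (h : ∀ a ∈ s, ∀ b ∈ s, ∀ g, ⁅a, b⁆ * g = g * ⁅a, b⁆) : CommCentral Q := by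
  have key : ∀ a b : Q, ⁅a, b⁆ ∈ center Q → ∀ g, ⁅a, b⁆ * g = g * ⁅a, b⁆ := fun a b hab g =>
    (mem_center_iff.1 hab g).symm
  have h1 : ∀ a ∈ s, ∀ b : Q, ⁅a, b⁆ ∈ center Q := by
    intro a ha b
    have hb : b ∈ closure s := hs ▸ mem_top b
    induction hb using Subgroup.closure_induction with
    | mem x hx => exact mem_center_iff.2 fun g => (h a ha x hx g).symm
    | one => rw [commutatorElement_one_right]; exact one_mem _
    | mul x y _ _ hx hy => rw [comm_mul_right_of a x y (key a y hy)]; exact mul_mem hx hy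
    | inv x _ hx =>
      rw [show ⁅a, x⁻¹⁆ = x⁻¹ * ⁅a, x⁆⁻¹ * x by simp only [commutatorElement_def]; group,
        mul_assoc, ← mem_center_iff.1 (inv_mem hx) x, inv_mul_cancel_left]
      exact inv_mem hx
  have h2 : ∀ a b : Q, ⁅a, b⁆ ∈ center Q := by
    intro a b
    have ha : a ∈ closure s := hs ▸ mem_top a
    induction ha using Subgroup.closure_induction with
    | mem x hx => exact h1 x hx b
    | one => rw [commutatorElement_one_left]; exact one_mem _
    | mul x y _ _ hx hy => rw [comm_mul_left_of x y b (key y b hy)]; exact mul_mem hx hy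
    | inv x _ hx =>
      rw [show ⁅x⁻¹, b⁆ = x⁻¹ * ⁅x, b⁆⁻¹ * x by simp only [commutatorElement_def]; group,
        mul_assoc, ← mem_center_iff.1 (inv_mem hx) x, inv_mul_cancel_left]
      exact inv_mem hx
  exact fun a b => key a b (h2 a b)

/-- In class two the derived subgroup is generated by the commutators of generators. -/
theorem commutator_le_of_gens (hc : CommCentral Q) {s : Set Q} (hs : closure s = ⊤) {W : Subgroup Q}
    (h : ∀ a ∈ s, ∀ b ∈ s, ⁅a, b⁆ ∈ W) (a b : Q) : ⁅a, b⁆ ∈ W := by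
  have h1 : ∀ a ∈ s, ∀ b, ⁅a, b⁆ ∈ W := by
    intro a ha b
    have hb : b ∈ closure s := hs ▸ mem_top b
    induction hb using Subgroup.closure_induction with
    | mem x hx => exact h a ha x hx
    | one => rw [commutatorElement_one_right]; exact one_mem _
    | mul x y _ _ hx hy => rw [hc.mul_right]; exact mul_mem hx hy
    | inv x _ hx =>
      have e := hc.mul_right a x⁻¹ x
      rw [inv_mul_cancel, commutatorElement_one_right] at e
      rw [eq_inv_of_mul_eq_one_left e.symm]
      exact inv_mem hx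
  have ha : a ∈ closure s := hs ▸ mem_top a
  induction ha using Subgroup.closure_induction with
  | mem x hx => exact h1 x hx b
  | one => rw [commutatorElement_one_left]; exact one_mem _
  | mul x y _ _ hx hy => rw [hc.mul_left]; exact mul_mem hx hy
  | inv x _ hx =>
    have e := hc.mul_left x⁻¹ x b
    rw [inv_mul_cancel, commutatorElement_one_left] at e
    rw [eq_inv_of_mul_eq_one_left e.symm]
    exact inv_mem hx

/-! ### Agemo -/

/-- The subgroup generated by the `p`-th powers of `H`. -/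
def agemo (p : ℕ) (H : Subgroup Q) : Subgroup Q := closure ((fun x => x ^ p) '' (H : Set Q))

theorem pow_mem_agemo {H : Subgroup Q} {x : Q} (hx : x ∈ H) : x ^ p ∈ agemo p H :=
  subset_closure ⟨x, hx, rfl⟩

theorem agemo_le_iff {H N : Subgroup Q} : agemo p H ≤ N ↔ ∀ x ∈ H, x ^ p ∈ N := by
  rw [agemo, closure_le, Set.image_subset_iff]
  rfl

theorem agemo_map {Q' : Type*} [Group Q'] (f : Q →* Q') (H : Subgroup Q) :
    agemo p (H.map f) = (agemo p H).map f := by
  simp only [agemo, MonoidHom.map_closure, Subgroup.coe_map, Set.image_image, map_pow]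

theorem agemo_normal (H : Subgroup Q) [hH : H.Normal] : (agemo p H).Normal where
  conj_mem n hn g := by
    have h1 : agemo p H ≤ (agemo p H).comap (MulAut.conj g).toMonoidHom := agemo_le_iff.2 fun x hx => by
      rw [mem_comap, map_pow]
      exact pow_mem_agemo (hH.conj_mem x hx g)
    exact h1 hn

variable [hp : Fact p.Prime]

theorem frattini_eq_sup [Finite Q] (hQ : IsPGroup p Q) :
    frattini Q = commutator Q ⊔ agemo p ⊤ := by
  haveI := hQ.isNilpotent
  refine le_antisymm (Fusion.frattini_le_of_elementary _ le_sup_left fun x =>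
    mem_sup_right (pow_mem_agemo (mem_top x))) (sup_le Core.commutator_le_frattini ?_)
  exact agemo_le_iff.2 fun x _ => Core.pow_mem_frattini hQ x

/-! ### Powers -/

theorem pow_eq_pow_of_cast {y : Q} (hy : y ^ p = 1) {a b : ℕ} (h : (a : ZMod p) = b) :
    y ^ a = y ^ b :=
  pow_eq_pow_iff_modEq.2 (((ZMod.natCast_eq_natCast_iff a b p).1 h).of_dvd
    (orderOf_dvd_of_pow_eq_one hy))

theorem eq_one_of_pow_eq {y : Q} (hy : y ^ p = 1) {a b : ℕ} (e : y ^ a = y ^ b)
    (h : (a : ZMod p) ≠ b) : y = 1 := by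
  by_contra hne
  refine h ((ZMod.natCast_eq_natCast_iff a b p).2 ?_)
  have := pow_eq_pow_iff_modEq.1 e
  rwa [orderOf_eq_prime hy hne] at this

/-- In a group of class at most three with derived subgroup of exponent `p ≥ 5` the `p`-th power is
multiplicative. -/
theorem mul_pow_p [Finite Q] (hQ : IsPGroup p Q) (hp5 : 5 ≤ p) {A B : Subgroup Q}
    (hA : ∀ g h : Q, ⁅g, h⁆ ∈ A) (hB : ∀ a ∈ A, ∀ g : Q, ⁅a, g⁆ ∈ B)
    (hC : ∀ b ∈ B, ∀ g : Q, ⁅b, g⁆ = 1) (hexp : ∀ a ∈ A, a ^ p = 1) (a b : Q) :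
    (a * b) ^ p = a ^ p * b ^ p := by
  have h1 : (⊤ : Subgroup Q).lowerCentralSeries 1 ≤ A := by
    rw [Subgroup.lowerCentralSeries_succ, Subgroup.lowerCentralSeries_zero, commutator_le]
    exact fun g _ h _ => hA g h
  have h2 : (⊤ : Subgroup Q).lowerCentralSeries 2 ≤ B := by
    rw [Subgroup.lowerCentralSeries_succ, commutator_le]
    exact fun g hg h _ => hB g (h1 hg) h
  have h3 : (⊤ : Subgroup Q).lowerCentralSeries 3 = ⊥ := by
    rw [Subgroup.lowerCentralSeries_succ, eq_bot_iff, commutator_le]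
    exact fun g hg h _ => mem_bot.2 (hC g (h2 hg) h)
  have h4 : (⊤ : Subgroup Q).lowerCentralSeries (p - 1) = ⊥ :=
    eq_bot_iff.2 (h3 ▸ Subgroup.lowerCentralSeries_antitone (⊤ : Subgroup Q) (by omega : 3 ≤ p - 1))
  obtain ⟨c, hc, e⟩ := (S4209.result hQ h4).2 a b 1
  have hc1 : c = 1 := by
    refine mem_bot.1 ((?_ : powerClosure p 1 _ ≤ (⊥ : Subgroup Q)) hc)
    rw [powerClosure, closure_le]
    rintro _ ⟨x, hx, rfl⟩
    rw [pow_one]
    exact hexp x ((commutator_le.2 fun g _ k _ => hA g k :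
      ⁅closure ({a, b} : Set Q), closure ({a, b} : Set Q)⁆ ≤ A) hx)
  rwa [hc1, mul_one, pow_one] at e

/-- The `p`-th power as a homomorphism. -/
def powHom (h : ∀ a b : Q, (a * b) ^ p = a ^ p * b ^ p) : Q →* Q where
  toFun x := x ^ p
  map_one' := one_pow p
  map_mul' := h

omit hp in
theorem exponent_of_gens (h : ∀ a b : Q, (a * b) ^ p = a ^ p * b ^ p) {s : Set Q}
    (hs : closure s = ⊤) (h1 : ∀ a ∈ s, a ^ p = 1) (x : Q) : x ^ p = 1 := by
  have hle : closure s ≤ (powHom h).ker := (closure_le _).2 fun a ha => h1 a ha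
  exact hle (hs ▸ mem_top x)

/-! ### A fixed point lemma -/

/-- An automorphism of `p`-power order fixes a cyclic invariant subgroup of order dividing `p`. -/
theorem fix_of_zpowers {α : MulAut Q} {k : ℕ} (hα : α ^ p ^ k = 1) {w : Q} (hw : w ^ p = 1)
    (hinv : α w ∈ zpowers w) : α w = w := by
  by_cases hw1 : w = 1
  · rw [hw1, map_one]
  have hfin : IsOfFinOrder w := isOfFinOrder_iff_pow_eq_one.2 ⟨p, hp.out.pos, hw⟩
  obtain ⟨a, ha⟩ := hfin.mem_powers_iff_mem_zpowers.2 hinv
  change w ^ a = α w at ha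
  have hit : ∀ n : ℕ, (α ^ n) w = w ^ a ^ n := fun n => by
    induction n with
    | zero => simp
    | succ n ih => rw [pow_succ', MulAut.mul_apply, ih, map_pow, ← ha, ← pow_mul, pow_succ']
  have h1 := hit (p ^ k)
  rw [hα, MulAut.one_apply] at h1
  have h2 : ((a : ZMod p)) ^ p ^ k = 1 := by
    rw [← Nat.cast_pow]
    by_contra hne
    exact hw1 (eq_one_of_pow_eq hw (h1.symm.trans (pow_one w).symm) (by rwa [Nat.cast_one]))
  rw [ZMod.pow_card_pow] at h2
  rw [← ha, pow_eq_pow_of_cast hw (b := 1) (by rw [h2, Nat.cast_one]), pow_one]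

/-! ### Ranks -/

/-- Elementary abelian. -/
def Elem (p : ℕ) (A : Subgroup Q) : Prop :=
  (∀ a ∈ A, ∀ b ∈ A, a * b = b * a) ∧ ∀ a ∈ A, a ^ p = 1

omit hp in
theorem elem_bot : Elem p (⊥ : Subgroup Q) :=
  ⟨fun a ha b hb => by rw [mem_bot.1 ha, mem_bot.1 hb], fun a ha => by rw [mem_bot.1 ha, one_pow]⟩

theorem Elem.extend [Finite Q] {A : Subgroup Q} (hA : Elem p A) {x : Q} (hx : x ^ p = 1)
    (hxA : ∀ a ∈ A, x * a = a * x) (hx' : x ∉ A) :
    Elem p (A ⊔ zpowers x) ∧ Nat.card A * p ≤ Nat.card (A ⊔ zpowers x : Subgroup Q) := by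
  have hgen : A ⊔ zpowers x = closure (insert x (A : Set Q)) := by
    rw [Set.insert_eq, Subgroup.closure_union, closure_eq, ← zpowers_eq_closure, sup_comm]
  have hcomm : ∀ a ∈ insert x (A : Set Q), ∀ b ∈ insert x (A : Set Q), a * b = b * a := by
    rintro a (rfl | ha) b (rfl | hb)
    exacts [rfl, hxA b hb, (hxA a ha).symm, hA.1 a ha b hb]
  have hc : IsMulCommutative (A ⊔ zpowers x : Subgroup Q) :=
    hgen ▸ isMulCommutative_closure hcomm
  have hc' : ∀ a ∈ A ⊔ zpowers x, ∀ b ∈ A ⊔ zpowers x, a * b = b * a := fun a ha b hb =>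
    congrArg Subtype.val (hc.is_comm.comm ⟨a, ha⟩ ⟨b, hb⟩)
  refine ⟨⟨hc', fun a ha => ?_⟩, ?_⟩
  · rw [hgen] at ha
    induction ha using Subgroup.closure_induction with
    | mem y hy => rcases hy with rfl | hy; exacts [hx, hA.2 y hy]
    | one => exact one_pow p
    | mul y z hy hz ihy ihz =>
      rw [(show Commute y z from hc' y (hgen ▸ hy) z (hgen ▸ hz)).mul_pow, ihy, ihz, one_mul]
    | inv y _ ihy => rw [inv_pow, ihy, inv_one]
  · let f : A × ZMod p → (A ⊔ zpowers x : Subgroup Q) := fun q =>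
      ⟨q.1 * x ^ q.2.val, mul_mem_sup q.1.2 (pow_mem (mem_zpowers x) _)⟩
    have hf : Function.Injective f := by
      rintro ⟨a, i⟩ ⟨b, j⟩ hab
      have h1 : (a : Q) * x ^ i.val = (b : Q) * x ^ j.val := congrArg Subtype.val hab
      have hij : i = j := by
        by_contra hne
        refine hx' ?_
        have h3 : x ^ ((j.val : ℤ) - i.val) ∈ A := by
          rw [zpow_sub, zpow_natCast, zpow_natCast,
            show x ^ j.val * (x ^ i.val)⁻¹ = (b : Q)⁻¹ * a by
              rw [eq_inv_mul_iff_mul_eq, ← mul_assoc, ← h1, mul_inv_cancel_right]]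
          exact A.mul_mem (A.inv_mem b.2) a.2
        obtain ⟨s, t, hst⟩ := ((Nat.prime_iff_prime_int.mp hp.out).coprime_iff_not_dvd
          (n := (j.val : ℤ) - i.val)).mpr fun hdvd => hne (by
            haveI : NeZero p := ⟨hp.out.ne_zero⟩
            have := (ZMod.intCast_zmod_eq_zero_iff_dvd _ p).2 hdvd
            rw [Int.cast_sub, Int.cast_natCast, Int.cast_natCast, ZMod.natCast_zmod_val,
              ZMod.natCast_zmod_val, sub_eq_zero] at this
            exact this.symm)
        rw [← zpow_one x, ← hst, zpow_add, mul_comm s, zpow_mul, zpow_natCast, hx, one_zpow,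
          one_mul, mul_comm t, zpow_mul]
        exact A.zpow_mem h3 t
      subst hij
      exact Prod.ext (Subtype.ext (mul_right_cancel h1)) rfl
    have := Nat.card_le_card_of_injective f hf
    rwa [Nat.card_prod, Nat.card_zmod] at this

theorem Elem.card_le {A : Subgroup Q} (hA : Elem p A) {k : ℕ} (h : PRankLE p k Q) :
    Nat.card A ≤ p ^ k :=
  h A ⟨⟨fun a b => Subtype.ext (hA.1 a a.2 b b.2)⟩⟩ hA.2

omit hp in
theorem pRankLE_of_mulEquiv {Q' : Type*} [Group Q'] (e : Q ≃* Q') {k : ℕ} (h : PRankLE p k Q') :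
    PRankLE p k Q := fun A hA hexp => by
  haveI := hA
  rw [Nat.card_congr (A.equivMapOfInjective e.toMonoidHom e.injective).toEquiv]
  refine h _ inferInstance ?_
  rintro _ ⟨a, ha, rfl⟩
  rw [← map_pow, hexp a ha, map_one]

omit hp in
/-- The rank bound on the sections given by an injective homomorphism. -/
theorem rank_of_injective {K : Type*} [Group K] {k : ℕ} (h : SectionalPRankLE p k Q) (ι : K →* Q)
    (hι : Function.Injective ι) (N : Subgroup K) [N.Normal] : PRankLE p k (K ⧸ N) := by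
  haveI : (N.map ι.rangeRestrict).Normal :=
    Subgroup.Normal.map inferInstance _ ι.rangeRestrict_surjective
  exact pRankLE_of_mulEquiv
    (QuotientGroup.congr N (N.map ι.rangeRestrict) (MonoidHom.ofInjective hι) rfl)
    (h ι.range (N.map ι.rangeRestrict))

end Cfsg.Agent.RankThreeEss
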