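import Cfsg.Agent.RankThreeEss.Linear

/-!
The two shapes of a group with a strongly `p`-embedded subgroup on a space of dimension three:
a pair of opposite transvections, or a regular unipotent element without invariant line or plane.
-/

set_option autoImplicit false

namespace Cfsg.Agent.RankThreeEss

open Cfsg Cfsg.Agent.FusSys

universe u

variable {p : ℕ} [hp : Fact p.Prime] {V : Type u} [AddCommGroup V] [Module (ZMod p) V]

local notation "End'" => Module.End (ZMod p) V

/-- The standing hypotheses. -/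
structure Setup {G : Type*} [Group G] [Finite G] (ρ : G →* End') (T : Sylow p G) (Y : Subgroup G) :
    Prop where
  inj : Function.Injective ρ
  dim : Module.finrank (ZMod p) V = 3
  three : 3 ≤ p
  top : Y ≠ ⊤
  ne : (T : Subgroup G) ≠ ⊥
  norm : ∀ Q : Subgroup G, Q ≤ T → Q ≠ ⊥ → Subgroup.normalizer (Q : Set G) ≤ Y

variable {G : Type*} [Group G] [Finite G] {ρ : G →* Module.End (ZMod p) V} {T : Sylow p G}
  {Y : Subgroup G}

theorem rho_inv_apply (g : G) (v : V) : ρ g⁻¹ (ρ g v) = v := by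
  rw [← Module.End.mul_apply, ← map_mul, inv_mul_cancel, map_one, Module.End.one_apply]

theorem rho_apply_inv (g : G) (v : V) : ρ g (ρ g⁻¹ v) = v := by
  rw [← Module.End.mul_apply, ← map_mul, mul_inv_cancel, map_one, Module.End.one_apply]

variable (h : Setup ρ T Y)
include h

theorem Setup.fd : FiniteDimensional (ZMod p) V := Module.finite_of_finrank_eq_succ h.dim

theorem Setup.mem_of {x q : G} (hq : q ∈ (T : Subgroup G)) (hq1 : q ≠ 1)
    (hx : x * q * x⁻¹ ∈ (T : Subgroup G)) : x ∈ Y :=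
  mem_of_normalizers_le T h.norm (Subgroup.zpowers q) x (Subgroup.zpowers_le.2 hq)
    (by rwa [Ne, Subgroup.zpowers_eq_bot]) (by
      rintro _ ⟨n, rfl⟩
      rw [← conj_zpow]
      exact zpow_mem hx n)

theorem Setup.T_le : (T : Subgroup G) ≤ Y :=
  Subgroup.le_normalizer.trans (h.norm _ le_rfl h.ne)

theorem Setup.key {q γ : G} {k : ℕ} (hk : q ^ p ^ k = 1) (hq1 : q ≠ 1) (hqY : q ∈ Y)
    (hγ : γ⁻¹ * q * γ ∈ Y) : γ ∈ Y := by
  let T' : Sylow p Y := T.subtype h.T_le
  have conjT : ∀ r : G, r ^ p ^ k = 1 → r ∈ Y → ∃ y ∈ Y, y * r * y⁻¹ ∈ (T : Subgroup G) := by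
    intro r hr hrY
    obtain ⟨y, hy⟩ := exists_conj_mem_sylow
      (isPGroup_zpowers_of_pow_eq_one (x := (⟨r, hrY⟩ : Y)) (e := k) (Subtype.ext hr)) T'
    exact ⟨y, y.2, hy _ (Subgroup.mem_zpowers _)⟩
  obtain ⟨y, hy, hyq⟩ := conjT q hk hqY
  obtain ⟨y', hy', hyq'⟩ := conjT (γ⁻¹ * q * γ)
    (by simpa [hk] using conj_pow (i := p ^ k) (a := γ⁻¹) (b := q)) hγ
  have h1 : y' * γ⁻¹ * y⁻¹ ∈ Y := h.mem_of hyq (fun e => hq1 (by simpa using e))
    (by convert hyq' using 1; group)
  have h2 := Y.inv_mem (Y.mul_mem (Y.mul_mem (Y.inv_mem hy') h1) hy)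
  convert h2 using 1
  group

theorem Setup.cent_le {q g : G} (hq : q ∈ (T : Subgroup G)) (hq1 : q ≠ 1) (hg : g * q = q * g) :
    g ∈ Y :=
  h.mem_of hq hq1 (by rw [hg, mul_inv_cancel_right]; exact hq)

theorem Setup.exists_pow {q : G} (hq : q ∈ (T : Subgroup G)) : ∃ k : ℕ, q ^ p ^ k = 1 := by
  obtain ⟨k, hk⟩ := T.2 ⟨q, hq⟩
  exact ⟨k, congrArg Subtype.val hk⟩

theorem Setup.sub_one_pow {q : G} {k : ℕ} (hq : q ^ p ^ k = 1) : (ρ q - 1) ^ 3 = 0 := by
  haveI := h.fd
  haveI : Nontrivial V := Module.nontrivial_of_finrank_pos (R := ZMod p) (by rw [h.dim]; norm_num)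
  haveI : CharP End' p := charP_of_injective_algebraMap' (ZMod p) p
  refine nilp_cube h.dim ⟨p ^ k, ?_⟩
  rw [sub_pow_char_pow_of_commute p k (Commute.one_right _), ← map_pow, hq, map_one, one_pow, sub_self]

theorem Setup.eigen {q : G} {k : ℕ} (hq : q ^ p ^ k = 1) {a : V} (ha : a ≠ 0) {c : ZMod p}
    (hc : ρ q a = c • a) : c = 1 := by
  refine eigen_eq_one (k := k) ?_
  have : ∀ n : ℕ, ρ (q ^ n) a = c ^ n • a := fun n => by
    induction n with
    | zero => simp
    | succ n ih =>
      rw [pow_succ', map_mul, Module.End.mul_apply, ih, map_smul, hc, smul_smul, pow_succ]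
  have h1 := this (p ^ k)
  rw [hq, map_one, Module.End.one_apply] at h1
  by_contra hne
  have h2 : (c ^ p ^ k - 1) • a = 0 := by rw [sub_smul, one_smul, ← h1, sub_self]
  rcases smul_eq_zero.1 h2 with h3 | h3
  exacts [hne (sub_eq_zero.1 h3), ha h3]

theorem Setup.tv_pow {z : G} {a : V} {f : V →ₗ[ZMod p] ZMod p} (hz : IsTv (ρ z) a f) : z ^ p = 1 := by
  refine h.inj (LinearMap.ext fun v => ?_)
  rw [map_pow, hz.pow_apply, ZMod.natCast_self, zero_mul, zero_smul, add_zero, map_one,
    Module.End.one_apply]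

/-- Linked conjugate transvections lie in the same coset. -/
theorem Setup.linked {z γ : G} {a : V} {f : V →ₗ[ZMod p] ZMod p} (hzT : z ∈ (T : Subgroup G))
    (hz : IsTv (ρ z) a f) (hl : f (ρ γ⁻¹ a) = 0) : γ ∈ Y := by
  have hz1 : z ≠ 1 := fun e => by
    obtain ⟨v, hv⟩ := hz.exists_one
    have := hz.apply v
    rw [e, map_one, Module.End.one_apply, hv, one_smul, left_eq_add] at this
    exact hz.ne this
  set z' := γ * z * γ⁻¹ with hz'
  have hz'1 : z' ≠ 1 := fun e => hz1 (conj_eq_one_iff.1 e)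
  have hz'p : z' ^ p ^ 1 = 1 := by rw [pow_one, hz', conj_pow, h.tv_pow hz, mul_one, mul_inv_cancel]
  have ha' : ∀ v, ρ z' v = v + f (ρ γ⁻¹ v) • ρ γ a := fun v => by
    rw [hz', map_mul, map_mul, Module.End.mul_apply, Module.End.mul_apply, hz.apply, map_add,
      map_smul, rho_apply_inv]
  have hf' : f (ρ γ⁻¹ (ρ γ a)) = 0 := by rw [rho_inv_apply, hz.self]
  set s := f (ρ γ a) with hs
  set a' := ρ γ a with ha'd
  clear_value z'
  by_cases hs0 : s = 0
  · have hc : z' * z = z * z' := by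
      refine h.inj (LinearMap.ext fun v => ?_)
      rw [map_mul, map_mul, Module.End.mul_apply, Module.End.mul_apply, hz.apply v, ha',
        map_add, map_add, map_smul, map_smul, hl, ha' v, hz.apply, map_add, map_smul, ← hs,
        hs0, smul_zero, add_zero, smul_zero, add_zero]
      abel
    refine h.key hz'p hz'1 (h.cent_le hzT hz1 hc) ?_
    rw [hz', show γ⁻¹ * (γ * z * γ⁻¹) * γ = z by group]
    exact h.T_le hzT
  · set c := z * z' * (z' * z)⁻¹ with hc
    have hcv : ∀ v, ρ c v = v + (s * f (ρ γ⁻¹ v)) • a := by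
      intro v
      set w := ρ (z' * z)⁻¹ v with hw
      have hv : v = ρ z' (ρ z w) := by
        rw [← Module.End.mul_apply, ← map_mul, hw, rho_apply_inv]
      have h1 : ρ c v = ρ z (ρ z' w) := by
        rw [hc, map_mul, Module.End.mul_apply, ← hw, map_mul, Module.End.mul_apply]
      rw [h1, hv, hz.apply w, ha' (w + f w • a), ha' w, hz.apply]
      simp only [map_add, map_smul, smul_eq_mul, hl, hf', ← hs, hz.self, mul_zero, add_zero]
      module
    clear_value c
    have hc1 : c ≠ 1 := by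
      intro e
      obtain ⟨v, hv⟩ := hz.exists_one
      have h1 := hcv (ρ γ v)
      rw [e, map_one, Module.End.one_apply, rho_inv_apply, hv, mul_one, left_eq_add] at h1
      rcases smul_eq_zero.1 h1 with h2 | h2
      exacts [hs0 h2, hz.ne h2]
    have hcp : c ^ p ^ 1 = 1 := by
      refine h.inj (LinearMap.ext fun v => ?_)
      have : ∀ (n : ℕ) (v : V), (ρ c ^ n) v = v + ((n : ZMod p) * (s * f (ρ γ⁻¹ v))) • a := by
        intro n
        induction n with
        | zero => simp
        | succ n ih =>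
          intro v
          rw [pow_succ', Module.End.mul_apply, ih, hcv]
          simp only [map_add, map_smul, smul_eq_mul, hl, mul_zero, add_zero, Nat.cast_succ]
          module
      rw [pow_one, map_pow, this, ZMod.natCast_self, zero_mul, zero_smul, add_zero, map_one,
        Module.End.one_apply]
    have hcz : c * z = z * c := by
      refine h.inj (LinearMap.ext fun v => ?_)
      rw [map_mul, map_mul, Module.End.mul_apply, Module.End.mul_apply, hz.apply v, hcv, hcv v,
        hz.apply]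
      simp only [map_add, map_smul, smul_eq_mul, hl, hz.self, mul_zero, add_zero]
      module
    have hcz' : c * z' = z' * c := by
      refine h.inj (LinearMap.ext fun v => ?_)
      rw [map_mul, map_mul, Module.End.mul_apply, Module.End.mul_apply, ha' v, hcv, hcv v, ha']
      simp only [map_add, map_smul, smul_eq_mul, hl, hf', mul_zero, add_zero]
      module
    refine h.key hcp hc1 (h.cent_le hzT hz1 hcz) (h.cent_le hzT hz1 ?_)
    have e : z = γ⁻¹ * z' * γ := by rw [hz']; group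
    rw [e, show γ⁻¹ * c * γ * (γ⁻¹ * z' * γ) = γ⁻¹ * (c * z') * γ by group, hcz']
    group

theorem Setup.linked' {z γ : G} {a : V} {f : V →ₗ[ZMod p] ZMod p} (hzT : z ∈ (T : Subgroup G))
    (hz : IsTv (ρ z) a f) (hl : f (ρ γ a) = 0) : γ ∈ Y :=
  Y.inv_mem_iff.1 (h.linked (γ := γ⁻¹) hzT hz (by rwa [inv_inv]))

theorem Setup.exists_tv (hT : p < Nat.card (T : Subgroup G)) :
    ∃ z ∈ (T : Subgroup G), ∃ a f, IsTv (ρ z) a f := by
  haveI := h.fd
  haveI : Nontrivial (T : Subgroup G) := (Subgroup.nontrivial_iff_ne_bot _).2 h.ne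
  haveI := T.2.center_nontrivial
  obtain ⟨⟨⟨z0, hz0T⟩, hz0c⟩, hz0ne⟩ := exists_ne (1 : Subgroup.center ↥(T : Subgroup G))
  have hz01 : z0 ≠ 1 := fun e => hz0ne (Subtype.ext (Subtype.ext e))
  obtain ⟨k0, hk0⟩ := h.exists_pow hz0T
  set N := ρ z0 - 1 with hN
  have hN3 : N ^ 3 = 0 := h.sub_one_pow hk0
  by_cases hsq : N ^ 2 = 0
  · exact ⟨z0, hz0T, isTv_of_sq h.dim hsq fun e => hz01 (h.inj (by rw [sub_eq_zero.1 e, map_one]))⟩
  obtain ⟨v, hv⟩ : ∃ v, (N ^ 2) v ≠ 0 := by
    by_contra! hc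
    exact hsq (LinearMap.ext hc)
  have hli := li_nilp hN3 hv
  have hspan := hli.span_eq_top_of_card_eq_finrank (by rw [h.dim]; rfl)
  obtain ⟨⟨u, huT⟩, hu⟩ : ∃ u : (T : Subgroup G), u ∉ Subgroup.zpowers (⟨z0, hz0T⟩ : (T : Subgroup G)) := by
    by_contra! hc
    have h1 := orderOf_le_of_pow_eq_one hp.out.pos (x := z0) (h.inj (by
      haveI : Nontrivial V := Module.nontrivial_of_finrank_pos (R := ZMod p) (by rw [h.dim]; norm_num)
      haveI : CharP End' p := charP_of_injective_algebraMap' (ZMod p) p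
      have e : (N + 1) ^ p = 1 := by
        rw [add_pow_char_of_commute p (Commute.one_right N), one_pow,
          pow_eq_zero_of_le h.three hN3, zero_add]
      rw [hN, sub_add_cancel] at e
      rw [map_pow, e, map_one]))
    have h2 : Nat.card (T : Subgroup G) = orderOf z0 := by
      rw [← Subgroup.orderOf_mk z0 hz0T, ← Nat.card_zpowers,
        (Subgroup.eq_top_iff' _).2 hc, Subgroup.card_top]
    omega
  obtain ⟨ku, hku⟩ := h.exists_pow huT
  set U := ρ u - 1 with hU
  have hcomm : Commute N U := by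
    have : z0 * u = u * z0 := congrArg Subtype.val (Subgroup.mem_center_iff.1 hz0c ⟨u, huT⟩).symm
    refine ((Commute.sub_left ?_ (Commute.one_left _)).sub_right (Commute.one_right _))
    show ρ z0 * ρ u = ρ u * ρ z0
    rw [← map_mul, this, map_mul]
  obtain ⟨g, hg⟩ := (Submodule.mem_span_range_iff_exists_fun (ZMod p)).1
    (hspan.symm ▸ Submodule.mem_top (x := U v))
  rw [Fin.sum_univ_three] at hg
  simp only [Matrix.cons_val_zero, Matrix.cons_val_one, Matrix.cons_val] at hg
  set a0 := g 0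
  set b0 := g 1
  set c0 := g 2
  have hUeq : U = a0 • 1 + b0 • N + c0 • N ^ 2 := by
    refine LinearMap.ext_on_range (v := ![v, N v, (N ^ 2) v]) hspan fun i => ?_
    have base : U v = (a0 • (1 : End') + b0 • N + c0 • N ^ 2) v := by rw [← hg]; rfl
    have cN : ∀ m : ℕ, U ((N ^ m) v) = (a0 • (1 : End') + b0 • N + c0 • N ^ 2) ((N ^ m) v) := by
      intro m
      rw [← Module.End.mul_apply, ← (hcomm.pow_left m).eq, Module.End.mul_apply, base,
        ← Module.End.mul_apply, ← Module.End.mul_apply]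
      congr 1
      exact ((((Commute.one_right N).smul_right a0).add_right
        ((Commute.refl N).smul_right b0)).add_right ((Commute.pow_self N 2).symm.smul_right c0)).pow_left m
    fin_cases i
    · exact base
    · simpa using cN 1
    · exact cN 2
  have ha0 : a0 = 0 := by
    have h3 := h.sub_one_pow hku
    rw [← hU] at h3
    have e : ∀ m : ℕ, (U ^ m) ((N ^ 2) v) = a0 ^ m • (N ^ 2) v := fun m => by
      induction m with
      | zero => simp
      | succ m ih =>
        rw [pow_succ', Module.End.mul_apply, ih, map_smul, hUeq, LinearMap.add_apply,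
          LinearMap.add_apply, LinearMap.smul_apply, LinearMap.smul_apply, LinearMap.smul_apply,
          ← Module.End.mul_apply, ← Module.End.mul_apply, ← Module.End.mul_apply, ← pow_succ',
          show N ^ (2 + 1) = 0 from hN3, ← pow_add,
          show N ^ (2 + 2) = 0 by rw [show 2 + 2 = 3 + 1 by rfl, pow_succ, hN3, zero_mul]]
        simp [smul_smul, pow_succ]
    have := e 3
    rw [h3, LinearMap.zero_apply] at this
    exact pow_eq_zero_iff (n := 3) (by norm_num) |>.1 ((smul_eq_zero.1 this.symm).resolve_right hv)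
  rw [ha0, zero_smul, zero_add] at hUeq
  haveI : NeZero p := ⟨hp.out.ne_zero⟩
  set i := (-b0).val with hi
  have hpow : ∀ n : ℕ, ∃ c : ZMod p, (ρ z0) ^ n = 1 + (n : ZMod p) • N + c • N ^ 2 := by
    intro n
    induction n with
    | zero => exact ⟨0, by simp⟩
    | succ n ih =>
      obtain ⟨c, hc⟩ := ih
      refine ⟨c + n, ?_⟩
      rw [pow_succ, hc, show ρ z0 = 1 + N by rw [hN]; abel, mul_add, mul_one, add_mul, add_mul,
        one_mul, smul_mul_assoc, smul_mul_assoc, ← pow_two, ← pow_succ, hN3, smul_zero,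
        add_zero, Nat.cast_succ]
      module
  obtain ⟨ci, hci⟩ := hpow i
  rw [hi, ZMod.natCast_zmod_val, ← hi] at hci
  have hne : z0 ^ i * u ≠ 1 := fun e => hu (by
    rw [Subgroup.mem_zpowers_iff]
    refine ⟨-(i : ℤ), Subtype.ext ?_⟩
    show z0 ^ (-(i : ℤ)) = u
    rw [zpow_neg, zpow_natCast]
    exact (eq_inv_of_mul_eq_one_right e).symm)
  refine ⟨z0 ^ i * u, Subgroup.mul_mem _ (Subgroup.pow_mem _ hz0T i) huT, isTv_of_sq h.dim ?_
    fun e => hne (h.inj (by rw [sub_eq_zero.1 e, map_one]))⟩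
  have hu' : ρ u = 1 + (b0 • N + c0 • N ^ 2) := by rw [← hUeq, hU]; abel
  have e : ρ (z0 ^ i * u) - 1 = (ci - b0 * b0 + c0) • N ^ 2 := by
    rw [map_mul, map_pow, hci, hu']
    have hN4 : N ^ 2 * N ^ 2 = 0 := by
      rw [← pow_add, show 2 + 2 = 3 + 1 by rfl, pow_succ, hN3, zero_mul]
    simp only [mul_add, mul_one, add_mul, one_mul, smul_mul_assoc, mul_smul_comm, hN4,
      ← pow_two, ← pow_succ, ← pow_succ', hN3, smul_zero, add_zero,
      show N ^ (2 + 1) = 0 from hN3, show N ^ (1 + 2) = 0 from hN3]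
    module
  rw [e, smul_pow, ← pow_mul, show 2 * 2 = 3 + 1 by rfl, pow_succ N 3, hN3, zero_mul, smul_zero]

/-- The Sylow subgroups have order `p`. -/
theorem Setup.card_T : Nat.card (T : Subgroup G) = p := by
  obtain ⟨n, hn⟩ := IsPGroup.iff_card.1 T.2
  haveI : Nontrivial (T : Subgroup G) := (Subgroup.nontrivial_iff_ne_bot _).2 h.ne
  have h1 : 1 < Nat.card (T : Subgroup G) := Finite.one_lt_card
  rcases Nat.lt_or_ge n 2 with hn2 | hn2
  · interval_cases n <;> simp_all
  exfalso
  haveI := h.fd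
  have hlt : p < Nat.card (T : Subgroup G) := by
    rw [hn]
    calc p = p ^ 1 := (pow_one p).symm
      _ < p ^ n := Nat.pow_lt_pow_right hp.out.one_lt hn2
  obtain ⟨z, hzT, a, f, hz⟩ := h.exists_tv hlt
  have hzord : Nat.card (Subgroup.zpowers z) ≤ p := by
    rw [Nat.card_zpowers]; exact orderOf_le_of_pow_eq_one hp.out.pos (h.tv_pow hz)
  obtain ⟨u, huT, hu, huz⟩ : ∃ u ∈ (T : Subgroup G), u ∉ Subgroup.zpowers z ∧ u * z = z * u := by
    haveI := T.2.center_nontrivial
    by_cases hc : ∀ c ∈ Subgroup.center ↥(T : Subgroup G), (c : G) ∈ Subgroup.zpowers z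
    · obtain ⟨⟨c, hcc⟩, hc1⟩ := exists_ne (1 : Subgroup.center ↥(T : Subgroup G))
      have hzc : z ∈ Subgroup.zpowers (c : G) := by
        have e : Subgroup.zpowers (c : G) = Subgroup.zpowers z := by
          refine Subgroup.eq_of_le_of_card_ge (Subgroup.zpowers_le.2 (hc c hcc)) (hzord.trans ?_)
          obtain ⟨m, hm⟩ := IsPGroup.iff_card.1 (T.2.to_le (Subgroup.zpowers_le.2 c.2))
          rw [hm]
          refine Nat.le_self_pow (fun e => hc1 (Subtype.ext (Subtype.ext ?_))) p
          rw [e, pow_zero, Subgroup.card_eq_one, Subgroup.zpowers_eq_bot] at hm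
          exact hm
        rw [e]; exact Subgroup.mem_zpowers z
      obtain ⟨u, huT, hu⟩ : ∃ u ∈ (T : Subgroup G), u ∉ Subgroup.zpowers z := by
        by_contra! hcon
        have := Subgroup.card_le_of_le (show (T : Subgroup G) ≤ Subgroup.zpowers z from hcon)
        omega
      refine ⟨u, huT, hu, ?_⟩
      obtain ⟨j, rfl⟩ := Subgroup.mem_zpowers_iff.1 hzc
      exact (Commute.zpow_right (congrArg Subtype.val (Subgroup.mem_center_iff.1 hcc ⟨u, huT⟩)) j).eq
    · push Not at hc
      obtain ⟨c, hcc, hcz⟩ := hc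
      exact ⟨c, c.2, hcz, (congrArg Subtype.val (Subgroup.mem_center_iff.1 hcc ⟨z, hzT⟩)).symm⟩
  obtain ⟨ku, hku⟩ := h.exists_pow huT
  obtain ⟨v, hv⟩ := hz.exists_one
  have huv : ∀ w, f (ρ u w) • a = f w • ρ u a := fun w => by
    have := LinearMap.congr_fun (congrArg ρ huz) w
    rw [map_mul, map_mul, Module.End.mul_apply, Module.End.mul_apply, hz.apply w, map_add, map_smul,
      hz.apply, add_right_inj] at this
    exact this.symm
  have hua : ρ u a = a := by
    have e := huv v
    rw [hv, one_smul] at e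
    rw [← e, h.eigen hku hz.ne e.symm, one_smul]
  have hfu : ∀ w, f (ρ u w) = f w := fun w => by
    have e := huv w
    rw [hua, ← sub_eq_zero, ← sub_smul] at e
    exact sub_eq_zero.1 ((smul_eq_zero.1 e).resolve_right hz.ne)
  obtain ⟨γ, hγ⟩ : ∃ γ, γ ∉ Y := by
    by_contra! hc
    exact h.top ((Subgroup.eq_top_iff' _).2 hc)
  have h1 : f (ρ γ a) ≠ 0 := fun e => hγ (h.linked' hzT hz e)
  have h2 : f (ρ γ⁻¹ a) ≠ 0 := fun e => hγ (h.linked hzT hz e)
  haveI : NeZero p := ⟨hp.out.ne_zero⟩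
  set i := (-(f (ρ γ⁻¹ (ρ u (ρ γ a)))) / (f (ρ γ a) * f (ρ γ⁻¹ a))).val with hi
  have hδ : f (ρ (γ⁻¹ * (z ^ i * u) * γ) a) = 0 := by
    rw [map_mul, map_mul, Module.End.mul_apply, Module.End.mul_apply, map_mul, map_pow,
      Module.End.mul_apply, hz.pow_apply, map_add, map_smul, map_add, map_smul, smul_eq_mul, hfu,
      hi, ZMod.natCast_zmod_val]
    field_simp
    ring
  have hδY := h.linked' hzT hz hδ
  have hu'T : z ^ i * u ∈ (T : Subgroup G) := Subgroup.mul_mem _ (Subgroup.pow_mem _ hzT i) huT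
  obtain ⟨k, hk⟩ := h.exists_pow hu'T
  refine hγ (h.key hk (fun e => hu ?_) (h.T_le hu'T) hδY)
  rw [eq_inv_of_mul_eq_one_right e]
  exact inv_mem (pow_mem (Subgroup.mem_zpowers z) i)

end Cfsg.Agent.RankThreeEss
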