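import Cfsg.Agent.RankThreeEss.EPart

/-!
Coordinates modulo the Frattini subgroup, maximal subgroups of a `p`-group.
-/

set_option autoImplicit false

namespace Cfsg.Agent.RankThreeEss

open Subgroup
open scoped commutatorElement

variable {p : ℕ} [hp : Fact p.Prime]

theorem isCoatom_of_index_prime {X : Type*} [Group X] [Finite X] {B : Subgroup X}
    (hB : B.index = p) : IsCoatom B := by
  refine ⟨fun e => hp.out.one_lt.ne (by rw [← hB, e, index_top]), fun K hK => ?_⟩
  have h1 := relIndex_mul_index hK.le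
  rw [hB] at h1
  rcases hp.out.eq_one_or_self_of_dvd _ (Dvd.intro_left _ h1 : K.index ∣ p) with h | h
  · exact index_eq_one.1 h
  · rw [h, Nat.mul_eq_right hp.out.ne_zero, relIndex_eq_one] at h1
    exact absurd h1 hK.not_ge

theorem max_props {X : Type*} [Group X] [Finite X] (hX : IsPGroup p X) {B : Subgroup X}
    (hB : B.index = p) :
    B.Normal ∧ (∀ g h : X, ⁅g, h⁆ ∈ B) ∧ ∀ g : X, g ^ p ∈ B := by
  obtain ⟨hn, -⟩ := Core.index_eq_of_isCoatom hX (isCoatom_of_index_prime hB)
  refine ⟨hn, fun g h => ?_, fun g => hB ▸ pow_index_mem B g⟩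
  have := Core.commutator_le_of_isCoatom_normal (isCoatom_of_index_prime hB)
  exact this (commutator_mem_commutator (mem_top g) (mem_top h))

theorem max_eq_of_le {X : Type*} [Group X] [Finite X] {B C : Subgroup X} (hB : B.index = p)
    (hC : C.index = p) (h : B ≤ C) : B = C :=
  ((isCoatom_of_index_prime hB).le_iff.1 h).resolve_left
    (fun e => hp.out.one_lt.ne (by rw [← hC, e, index_top])) |>.symm

/-- Elements with coordinates modulo `N`. -/
theorem closure_three_coords {Q : Type*} [Group Q] (hexp : ∀ q : Q, q ^ p = 1)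
    (hcomm : ∀ a b : Q, a * b = b * a) {a b c g : Q} (hg : g ∈ closure ({a, b, c} : Set Q)) :
    ∃ i j l : ℕ, g = a ^ i * b ^ j * c ^ l := by
  induction hg using Subgroup.closure_induction with
  | mem x hx =>
    rcases hx with rfl | rfl | rfl
    exacts [⟨1, 0, 0, by simp⟩, ⟨0, 1, 0, by simp⟩, ⟨0, 0, 1, by simp⟩]
  | one => exact ⟨0, 0, 0, by simp⟩
  | mul x y _ _ hx hy =>
    obtain ⟨i, j, l, rfl⟩ := hx
    obtain ⟨i', j', l', rfl⟩ := hy
    refine ⟨i + i', j + j', l + l', ?_⟩
    rw [pow_add, pow_add, pow_add, (show Commute (a ^ i * b ^ j) (c ^ l) from hcomm _ _).eq]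
    have : ∀ u v w z : Q, u * v * (w * z) = u * w * (v * z) := fun u v w z =>
      (show Commute v w from hcomm v w).mul_mul_mul_comm u z
    rw [hcomm (c ^ l) (a ^ i * b ^ j), this, this (a ^ i)]
  | inv x _ hx =>
    obtain ⟨i, j, l, rfl⟩ := hx
    refine ⟨(p - 1) * i, (p - 1) * j, (p - 1) * l, ?_⟩
    rw [inv_eq_iff_mul_eq_one, mul_comm (p - 1), mul_comm (p - 1), mul_comm (p - 1), pow_mul,
      pow_mul, pow_mul, ← (show Commute (a ^ i) (b ^ j) from hcomm _ _).mul_pow,
      ← (show Commute (a ^ i * b ^ j) (c ^ l) from hcomm _ _).mul_pow, ← pow_succ',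
      Nat.sub_add_cancel hp.out.pos, hexp]

variable {P : Type*} [Group P] [Finite P] {b1 b2 b3 : P}

theorem EHyp.quot_props (h : EHyp p b1 b2 b3) :
    (∀ a b : P ⧸ frattini P, a * b = b * a) ∧ ∀ x : P ⧸ frattini P, x ^ p = 1 := by
  obtain ⟨n, hn⟩ := IsPGroup.iff_card.1 h.pgroup
  exact FGS.frattini_quotient_props hn

theorem EHyp.coords (h : EHyp p b1 b2 b3) (g : P) :
    ∃ i j l : ℕ, Cg g (b1 ^ i * b2 ^ j * b3 ^ l) := by
  obtain ⟨hc, he⟩ := h.quot_props
  have hg : QuotientGroup.mk' (frattini P) g ∈ closure ({QuotientGroup.mk' (frattini P) b1,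
      QuotientGroup.mk' (frattini P) b2, QuotientGroup.mk' (frattini P) b3} : Set _) :=
    (closure_triple_map (QuotientGroup.mk' (frattini P)) (QuotientGroup.mk'_surjective _) h.closure_eq) ▸ mem_top _
  obtain ⟨i, j, l, e⟩ := closure_three_coords he hc hg
  refine ⟨i, j, l, QuotientGroup.eq.1 ?_⟩
  simpa using e

theorem EHyp.indep (h : EHyp p b1 b2 b3) {i j l : ℕ}
    (hm : b1 ^ i * b2 ^ j * b3 ^ l ∈ frattini P) :
    (i : ZMod p) = 0 ∧ (j : ZMod p) = 0 ∧ (l : ZMod p) = 0 := by
  obtain ⟨hc, he⟩ := h.quot_props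
  set π := QuotientGroup.mk' (frattini P) with hπ
  have e : π b1 ^ i * π b2 ^ j * π b3 ^ l = 1 := by
    rw [← map_pow, ← map_pow, ← map_pow, ← map_mul, ← map_mul, hπ, QuotientGroup.mk'_apply,
      QuotientGroup.eq_one_iff]
    exact hm
  have key : ∀ (a b c : P) (n : ℕ), closure ({a, b, c} : Set P) = ⊤ →
      π a ^ n ∈ closure ({π b, π c} : Set (P ⧸ frattini P)) → (n : ZMod p) = 0 := by
    intro a b c n hgen hmem
    by_contra hn
    haveI : NeZero p := ⟨hp.out.ne_zero⟩
    have ha : π a ∈ closure ({π b, π c} : Set (P ⧸ frattini P)) := by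
      have := pow_mem hmem ((n : ZMod p)⁻¹).val
      rwa [← pow_mul, pow_eq_pow_of_cast (he (π a)) (b := 1) (by
        rw [Nat.cast_mul, ZMod.natCast_zmod_val, mul_inv_cancel₀ hn, Nat.cast_one]), pow_one] at this
    refine h.not_two b c (top_le_iff.1 (hgen ▸ (closure_le _).2 ?_))
    have hle : closure ({π b, π c} : Set (P ⧸ frattini P)) = (closure ({b, c} : Set P)).map π := by
      rw [MonoidHom.map_closure, Set.image_pair]
    rintro x (rfl | rfl | rfl)
    · rw [hle] at ha
      have : x ∈ ((closure ({b, c} : Set P)).map π).comap π := ha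
      rw [comap_map_eq, hπ, QuotientGroup.ker_mk'] at this
      exact this
    exacts [mem_sup_left (subset_closure (by simp)), mem_sup_left (subset_closure (by simp))]
  have hgen := h.closure_eq
  have m : ∀ (x y : P) (n : ℕ), π x ^ n ∈ closure ({π x, π y} : Set _) := fun x y n =>
    pow_mem (subset_closure (by simp)) n
  have m' : ∀ (x y : P) (n : ℕ), π y ^ n ∈ closure ({π x, π y} : Set _) := fun x y n =>
    pow_mem (subset_closure (by simp)) n
  refine ⟨key b1 b2 b3 i hgen ?_, key b2 b1 b3 j (by rwa [Set.insert_comm]) ?_,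
    key b3 b1 b2 l (by rw [← hgen]; congr 1; ext; simp; tauto) ?_⟩
  · rw [mul_assoc] at e
    rw [eq_inv_of_mul_eq_one_left e]
    exact inv_mem (mul_mem (m _ _ _) (m' _ _ _))
  · rw [hc (π b1 ^ i), mul_assoc] at e
    rw [eq_inv_of_mul_eq_one_left e]
    exact inv_mem (mul_mem (m _ _ _) (m' _ _ _))
  · rw [eq_inv_of_mul_eq_one_right e]
    exact inv_mem (mul_mem (m _ _ _) (m' _ _ _))

end Cfsg.Agent.RankThreeEss
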