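import Cfsg.Agent.RankThreeEss.Tools
import Cfsg.Agent.FGS.AutFrattini

/-!
The derived subgroup of a three-generator `p`-group of sectional rank three with the two shapes of
automorphisms.
-/

set_option autoImplicit false

namespace Cfsg.Agent.RankThreeEss

open Subgroup
open scoped commutatorElement

variable {p : ℕ} [hp : Fact p.Prime]

omit hp in
theorem closure_triple_map {P Q : Type*} [Group P] [Group Q] (f : P →* Q)
    (hf : Function.Surjective f) {a b c : P} (h : closure ({a, b, c} : Set P) = ⊤) :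
    closure ({f a, f b, f c} : Set Q) = ⊤ := by
  rw [← Subgroup.map_top_of_surjective f hf, ← h, MonoidHom.map_closure]
  simp [Set.image_insert_eq]

/-- The bound on the derived subgroup in class two and exponent `p`. -/
theorem small_derived {Q : Type*} [Group Q] [Finite Q] (hexp : ∀ x : Q, x ^ p = 1)
    (hc : CommCentral Q) (hr : PRankLE p 3 Q) {b1 b2 b3 : Q}
    (hgen : closure ({b1, b2, b3} : Set Q) = ⊤)
    (hind : ∀ a b : Q, closure ({a, b} : Set Q) ⊔ commutator Q ≠ ⊤) :
    Nat.card (commutator Q) ≤ p := by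
  set W := commutator Q with hW
  have hWc : ∀ w ∈ W, ∀ g, w * g = g * w := by
    intro w hw g
    rw [hW, commutator_eq_closure] at hw
    induction hw using Subgroup.closure_induction with
    | mem x hx => obtain ⟨a, b, rfl⟩ := hx; exact hc a b g
    | one => simp
    | mul x y _ _ ihx ihy => rw [mul_assoc, ihy, ← mul_assoc, ihx, mul_assoc]
    | inv x _ ih => exact (show Commute x g from ih).inv_left.eq
  have hWe : Elem p W := ⟨fun a ha b _ => hWc a ha b, fun a _ => hexp a⟩
  have gen3 : ∀ a b c : Q, b1 ∈ closure ({a, b, c} : Set Q) → b2 ∈ closure ({a, b, c} : Set Q) →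
      b3 ∈ closure ({a, b, c} : Set Q) → closure ({a, b, c} : Set Q) = ⊤ := by
    intro a b c h1 h2 h3
    refine top_le_iff.1 (hgen ▸ (closure_le _).2 ?_)
    rintro x (rfl | rfl | rfl)
    exacts [h1, h2, h3]
  have out1 : ∀ a b c : Q, closure ({a, b, c} : Set Q) = ⊤ → a ∉ W := by
    intro a b c h ha
    refine hind b c (top_le_iff.1 (h ▸ (closure_le _).2 ?_))
    rintro x (rfl | rfl | rfl)
    exacts [mem_sup_right ha, mem_sup_left (subset_closure (by simp)),
      mem_sup_left (subset_closure (by simp))]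
  have out2 : ∀ a b c : Q, closure ({a, b, c} : Set Q) = ⊤ → b ∉ W ⊔ zpowers a := by
    intro a b c h hb
    refine hind a c (top_le_iff.1 (h ▸ (closure_le _).2 ?_))
    rintro x (rfl | rfl | rfl)
    · exact mem_sup_left (subset_closure (by simp))
    · exact (sup_le le_sup_right (le_sup_of_le_left (zpowers_le.2 (subset_closure (by simp)))) :
        W ⊔ zpowers a ≤ closure ({a, c} : Set Q) ⊔ commutator Q) hb
    · exact mem_sup_left (subset_closure (by simp))
  have pair : ∀ a b c : Q, closure ({a, b, c} : Set Q) = ⊤ → ⁅a, b⁆ = 1 → Nat.card W ≤ p := by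
    intro a b c h hab
    obtain ⟨e1, c1⟩ := hWe.extend (hexp a) (fun w hw => (hWc w hw a).symm) (out1 a b c h)
    have hcomm : ∀ y ∈ W ⊔ zpowers a, b * y = y * b := by
      intro y hy
      obtain ⟨w, hw, z, hz, rfl⟩ := mem_sup_of_normal_left.1 hy
      obtain ⟨n, rfl⟩ := mem_zpowers_iff.1 hz
      exact ((show Commute b w from (hWc w hw b).symm).mul_right
        ((show Commute b a from (commutatorElement_eq_one_iff_mul_comm.1 hab).symm).zpow_right n)).eq
    obtain ⟨e2, c2⟩ := e1.extend (hexp b) hcomm (out2 a b c h)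
    have h3 := e2.card_le hr
    have : Nat.card W * p * p ≤ p * (p * p) := by
      calc _ ≤ _ := Nat.mul_le_mul_right p c1
        _ ≤ _ := c2
        _ ≤ _ := h3.trans (le_of_eq (by ring))
    rw [mul_assoc] at this
    exact Nat.le_of_mul_le_mul_right this (Nat.mul_pos hp.out.pos hp.out.pos)
  have hW2 : Nat.card W ≤ p * p := by
    obtain ⟨e1, c1⟩ := hWe.extend (hexp b1) (fun w hw => (hWc w hw b1).symm) (out1 b1 b2 b3 hgen)
    have h3 := e1.card_le hr
    refine Nat.le_of_mul_le_mul_right (c1.trans (h3.trans (le_of_eq ?_))) hp.out.pos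
    ring
  haveI : NeZero p := ⟨hp.out.ne_zero⟩
  obtain ⟨c12, h12⟩ : ∃ c, c = ⁅b1, b2⁆ := ⟨_, rfl⟩
  obtain ⟨c13, h13⟩ : ∃ c, c = ⁅b1, b3⁆ := ⟨_, rfl⟩
  obtain ⟨c23, h23⟩ : ∃ c, c = ⁅b2, b3⁆ := ⟨_, rfl⟩
  have hmem : ∀ a b : Q, ⁅a, b⁆ ∈ W := fun a b =>
    commutator_mem_commutator (mem_top a) (mem_top b)
  -- a relation
  obtain ⟨i, j, l, hne, hrel⟩ : ∃ i j l : ZMod p, (i ≠ 0 ∨ j ≠ 0 ∨ l ≠ 0) ∧
      c12 ^ i.val * c13 ^ j.val * c23 ^ l.val = 1 := by
    have hlt : Nat.card W < Nat.card (ZMod p × ZMod p × ZMod p) := by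
      rw [Nat.card_prod, Nat.card_prod, Nat.card_zmod]
      calc Nat.card W ≤ p * p := hW2
        _ < p * (p * p) := lt_mul_of_one_lt_left (Nat.mul_pos hp.out.pos hp.out.pos) hp.out.one_lt
    let F : ZMod p × ZMod p × ZMod p → W := fun v => ⟨c12 ^ v.1.val * c13 ^ v.2.1.val * c23 ^ v.2.2.val,
      mul_mem (mul_mem (pow_mem (h12 ▸ hmem _ _) _) (pow_mem (h13 ▸ hmem _ _) _))
        (pow_mem (h23 ▸ hmem _ _) _)⟩
    obtain ⟨v, v', hvv, hne⟩ : ∃ v v', F v = F v' ∧ v ≠ v' := by
      by_contra! h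
      exact absurd (Nat.card_le_card_of_injective F fun a b e => h a b e) (not_le.2 hlt)
    refine ⟨v.1 - v'.1, v.2.1 - v'.2.1, v.2.2 - v'.2.2, ?_, ?_⟩
    · by_contra! h
      exact hne (Prod.ext (sub_eq_zero.1 h.1) (Prod.ext (sub_eq_zero.1 h.2.1) (sub_eq_zero.1 h.2.2)))
    · have sp : ∀ (c : Q) (a b : ZMod p), c ^ (a - b).val * c ^ b.val = c ^ a.val := fun c a b => by
        rw [← pow_add]
        exact pow_eq_pow_of_cast (hexp c) (by
          rw [Nat.cast_add, ZMod.natCast_zmod_val, ZMod.natCast_zmod_val, ZMod.natCast_zmod_val,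
            sub_add_cancel])
      have e : c12 ^ v.1.val * c13 ^ v.2.1.val * c23 ^ v.2.2.val =
          c12 ^ v'.1.val * c13 ^ v'.2.1.val * c23 ^ v'.2.2.val := congrArg Subtype.val hvv
      rw [← sp c12 v.1 v'.1, ← sp c13 v.2.1 v'.2.1, ← sp c23 v.2.2 v'.2.2] at e
      have com : ∀ (a b : Q) (m n : ℕ), a ∈ W → Commute (a ^ m) (b ^ n) := fun a b m n ha =>
        (show Commute a b from hWc a ha b).pow_pow m n
      have m12 : c12 ∈ W := h12 ▸ hmem _ _
      have m13 : c13 ∈ W := h13 ▸ hmem _ _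
      have m23 : c23 ∈ W := h23 ▸ hmem _ _
      rw [(com c12 c13 v'.1.val _ m12).mul_mul_mul_comm,
        ((com c12 c23 v'.1.val _ m12).mul_left (com c13 c23 v'.2.1.val _ m13)).mul_mul_mul_comm] at e
      exact mul_right_cancel (e.trans (one_mul _).symm)
  have scale : ∀ (a : ZMod p), a ≠ 0 → ∀ (m : ZMod p) (c : Q),
      (c ^ m.val) ^ a⁻¹.val = c ^ (a⁻¹ * m).val := fun a _ m c => by
    rw [← pow_mul]
    exact pow_eq_pow_of_cast (hexp c) (by
      rw [Nat.cast_mul, ZMod.natCast_zmod_val, ZMod.natCast_zmod_val, ZMod.natCast_zmod_val, mul_comm])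
  have hrel' : ∀ (a : ZMod p), a ≠ 0 → c12 ^ (a⁻¹ * i).val * c13 ^ (a⁻¹ * j).val * c23 ^ (a⁻¹ * l).val = 1 := by
    intro a ha
    have m12 : c12 ∈ W := h12 ▸ hmem _ _
    have m13 : c13 ∈ W := h13 ▸ hmem _ _
    rw [← scale a ha, ← scale a ha, ← scale a ha,
      ← (show Commute (c12 ^ i.val) (c13 ^ j.val) from hWc _ (pow_mem m12 _) _).mul_pow,
      ← (show Commute (c12 ^ i.val * c13 ^ j.val) (c23 ^ l.val) from
        hWc _ (mul_mem (pow_mem m12 _) (pow_mem m13 _)) _).mul_pow, hrel, one_pow]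
  have val1 : ∀ c : Q, c ^ (1 : ZMod p).val = c := fun c => by rw [ZMod.val_one, pow_one]
  by_cases hi : i = 0
  · by_cases hj : j = 0
    · have hl : l ≠ 0 := by tauto
      have r := hrel' l hl
      rw [hi, hj, mul_zero, ZMod.val_zero, pow_zero, pow_zero, one_mul, one_mul, inv_mul_cancel₀ hl,
        val1] at r
      exact pair b2 b3 b1 (gen3 _ _ _ (subset_closure (by simp)) (subset_closure (by simp))
        (subset_closure (by simp))) (h23 ▸ r)
    · have r := hrel' j hj
      rw [hi, mul_zero, ZMod.val_zero, pow_zero, one_mul, inv_mul_cancel₀ hj, val1] at r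
      refine pair (b1 * b2 ^ (j⁻¹ * l).val) b3 b2 (gen3 _ _ _ ?_ (subset_closure (by simp))
        (subset_closure (by simp))) ?_
      · have := mul_mem (subset_closure (by simp) :
            b1 * b2 ^ (j⁻¹ * l).val ∈ closure ({b1 * b2 ^ (j⁻¹ * l).val, b3, b2} : Set Q))
          (inv_mem (pow_mem (subset_closure (by simp) :
            b2 ∈ closure ({b1 * b2 ^ (j⁻¹ * l).val, b3, b2} : Set Q)) (j⁻¹ * l).val))
        rwa [mul_inv_cancel_right] at this
      · rw [hc.mul_left, hc.pow_left, ← h13, ← h23, r]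
  · have r := hrel' i hi
    rw [inv_mul_cancel₀ hi, val1] at r
    obtain ⟨α, hα⟩ : ∃ α : ℕ, α = (-(i⁻¹ * l)).val := ⟨_, rfl⟩
    obtain ⟨β, hβ⟩ : ∃ β : ℕ, β = (i⁻¹ * j).val := ⟨_, rfl⟩
    refine pair (b1 * b3 ^ α) (b2 * b3 ^ β) b3 (gen3 _ _ _ ?_ ?_ (subset_closure (by simp))) ?_
    · have := mul_mem (subset_closure (by simp) :
          b1 * b3 ^ α ∈ closure ({b1 * b3 ^ α, b2 * b3 ^ β, b3} : Set Q))
        (inv_mem (pow_mem (subset_closure (by simp) :
          b3 ∈ closure ({b1 * b3 ^ α, b2 * b3 ^ β, b3} : Set Q)) α))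
      rwa [mul_inv_cancel_right] at this
    · have := mul_mem (subset_closure (by simp) :
          b2 * b3 ^ β ∈ closure ({b1 * b3 ^ α, b2 * b3 ^ β, b3} : Set Q))
        (inv_mem (pow_mem (subset_closure (by simp) :
          b3 ∈ closure ({b1 * b3 ^ α, b2 * b3 ^ β, b3} : Set Q)) β))
      rwa [mul_inv_cancel_right] at this
    · rw [hc.mul_left, hc.mul_right, hc.mul_right, hc.pow_right b1, hc.pow_left b3 b2,
        hc.pow_left b3 (b3 ^ β), hc.pow_right b3 b3, commutatorElement_self, one_pow, one_pow, mul_one,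
        show ⁅b3, b2⁆ = c23⁻¹ by rw [h23, commutatorElement_inv], ← h12, ← h13, inv_pow]
      rw [show (c23 ^ α)⁻¹ = c23 ^ (i⁻¹ * l).val by
        refine (eq_inv_of_mul_eq_one_left ?_).symm
        rw [← pow_add, ← pow_zero c23]
        exact pow_eq_pow_of_cast (hexp _) (by
          rw [Nat.cast_add, hα, ZMod.natCast_zmod_val, ZMod.natCast_zmod_val, Nat.cast_zero,
            add_neg_cancel]), hβ]
      exact r

variable {P : Type*} [Group P] [Finite P]

omit hp [Finite P] in
/-- A term absorbed by its commutator with the whole group. -/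
theorem le_of_le_sup_commutator [Group.IsNilpotent P] {H N : Subgroup P} [N.Normal]
    (h : H ≤ N ⊔ ⁅H, (⊤ : Subgroup P)⁆) : H ≤ N := by
  set π := QuotientGroup.mk' N with hπd
  have hsurj : Function.Surjective π := QuotientGroup.mk'_surjective N
  have hK : H.map π ≤ ⁅H.map π, (⊤ : Subgroup (P ⧸ N))⁆ := by
    refine (map_mono h).trans (le_of_eq ?_)
    rw [Subgroup.map_sup, map_commutator, map_top_of_surjective π hsurj, hπd,
      QuotientGroup.map_mk'_self, bot_sup_eq]
  obtain ⟨n, hn⟩ := (Subgroup.nilpotent_iff_lowerCentralSeries (G := P ⧸ N)).1 inferInstance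
  have : ∀ m, H.map π ≤ (⊤ : Subgroup (P ⧸ N)).lowerCentralSeries m := fun m => by
    induction m with
    | zero => exact le_top
    | succ m ih => exact hK.trans (commutator_mono ih le_rfl)
  intro x hx
  rw [← QuotientGroup.eq_one_iff, ← QuotientGroup.mk'_apply, ← mem_bot, ← hn]
  exact this n (mem_map_of_mem π hx)

/-- The automorphism induced on a quotient. -/
noncomputable def qAut (N : Subgroup P) [N.Normal] (α : MulAut P)
    (h : N.map α.toMonoidHom = N) : MulAut (P ⧸ N) :=
  QuotientGroup.congr N N α h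

omit [Finite P] in
theorem qAut_mk (N : Subgroup P) [N.Normal] (α : MulAut P) (h : N.map α.toMonoidHom = N) (x : P) :
    qAut N α h (QuotientGroup.mk' N x) = QuotientGroup.mk' N (α x) := rfl

omit [Finite P] in
theorem qAut_pow_eq_one (N : Subgroup P) [N.Normal] (α : MulAut P) (h : N.map α.toMonoidHom = N)
    {m : ℕ} (hm : α ^ m = 1) : qAut N α h ^ m = 1 := by
  have : ∀ (m : ℕ) (x : P), (qAut N α h ^ m) (QuotientGroup.mk' N x) = QuotientGroup.mk' N ((α ^ m) x) := by
    intro m
    induction m with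
    | zero => exact fun x => rfl
    | succ m ih => intro x; rw [pow_succ', MulAut.mul_apply, ih, qAut_mk, pow_succ', MulAut.mul_apply]
  refine MulEquiv.ext fun y => ?_
  obtain ⟨x, rfl⟩ := QuotientGroup.mk'_surjective N y
  rw [this, hm]
  rfl

omit [Finite P] in
theorem agemo_top_map (α : MulAut P) : (agemo p (⊤ : Subgroup P)).map α.toMonoidHom = agemo p ⊤ := by
  rw [← agemo_map, map_top_of_surjective α.toMonoidHom α.surjective]

omit hp [Finite P] in
theorem lcs_top_map (α : MulAut P) (n : ℕ) :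
    ((⊤ : Subgroup P).lowerCentralSeries n).map α.toMonoidHom = (⊤ : Subgroup P).lowerCentralSeries n := by
  rw [Subgroup.map_lowerCentralSeries, map_top_of_surjective α.toMonoidHom α.surjective]

/-- Congruence modulo the Frattini subgroup. -/
def Cg (a b : P) : Prop := a⁻¹ * b ∈ frattini P

theorem index_le_of_two (hP : IsPGroup p P) {a b : P}
    (h : closure ({a, b} : Set P) ⊔ frattini P = ⊤) : (frattini P).index ≤ p ^ 2 := by
  obtain ⟨n, hn⟩ := IsPGroup.iff_card.1 hP
  obtain ⟨hc, he⟩ := FGS.frattini_quotient_props hn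
  have h1 := FGS.card_closure_le hc he 2 ![(a : P ⧸ frattini P), (b : P ⧸ frattini P)]
  rw [Matrix.range_cons, Matrix.range_cons, Matrix.range_empty, Set.union_empty,
    Set.singleton_union] at h1
  have h2 : closure ({(a : P ⧸ frattini P), (b : P ⧸ frattini P)} : Set _) = ⊤ := by
    have e := congrArg (Subgroup.map (QuotientGroup.mk' (frattini P))) h
    rwa [Subgroup.map_sup, MonoidHom.map_closure, QuotientGroup.map_mk'_self, sup_bot_eq,
      map_top_of_surjective _ (QuotientGroup.mk'_surjective _), Set.image_pair] at e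
  rwa [h2, card_top, ← index_eq_card] at h1

/-- The hypotheses on a three-generator group with a rank bound. -/
structure EHyp (p : ℕ) (b1 b2 b3 : P) : Prop where
  pgroup : IsPGroup p P
  rank : ∀ (N : Subgroup P) [N.Normal], PRankLE p 3 (P ⧸ N)
  index : (frattini P).index = p ^ 3
  gen : closure ({b1, b2, b3} : Set P) ⊔ frattini P = ⊤

variable {b1 b2 b3 : P}

theorem EHyp.closure_eq (h : EHyp p b1 b2 b3) : closure ({b1, b2, b3} : Set P) = ⊤ :=
  Core.eq_top_of_sup_frattini le_rfl h.gen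

theorem EHyp.not_two (h : EHyp p b1 b2 b3) (a b : P) :
    closure ({a, b} : Set P) ⊔ frattini P ≠ ⊤ := fun e => by
  have := index_le_of_two h.pgroup e
  rw [h.index, Nat.pow_le_pow_iff_right hp.out.one_lt] at this
  omega

/-- The first quotient: exponent `p` and class two. -/
theorem EHyp.phase_one (h : EHyp p b1 b2 b3) :
    ∃ (N : Subgroup P) (_ : N.Normal), N = agemo p ⊤ ⊔ (⊤ : Subgroup P).lowerCentralSeries 2 ∧
      N ≤ frattini P ∧ (∀ x : P ⧸ N, x ^ p = 1) ∧ CommCentral (P ⧸ N) ∧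
      (∀ c ∈ frattini P, QuotientGroup.mk' N c ∈ commutator (P ⧸ N)) ∧
      Nat.card (commutator (P ⧸ N)) ≤ p ∧
      ∀ α : MulAut P, N.map α.toMonoidHom = N := by
  have hP := h.pgroup
  haveI := hP.isNilpotent
  haveI hU := agemo_normal (p := p) (⊤ : Subgroup P)
  set N := agemo p ⊤ ⊔ (⊤ : Subgroup P).lowerCentralSeries 2 with hN
  have hL : (⊤ : Subgroup P).lowerCentralSeries 2 ≤ commutator P := by
    rw [← Subgroup.top_lowerCentralSeries_one]
    exact Subgroup.lowerCentralSeries_antitone _ (by norm_num)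
  haveI : ((⊤ : Subgroup P).lowerCentralSeries 2).Normal := inferInstance
  haveI : N.Normal := sup_normal _ _
  have hNΦ : N ≤ frattini P := by
    rw [frattini_eq_sup hP, sup_comm (commutator P)]; exact sup_le_sup_left hL _
  set π := QuotientGroup.mk' N with hπd
  have hπ : Function.Surjective π := QuotientGroup.mk'_surjective N
  have hexp : ∀ x : P ⧸ N, x ^ p = 1 := fun x => by
    obtain ⟨x, rfl⟩ := hπ x
    rw [← map_pow, hπd, QuotientGroup.mk'_apply, QuotientGroup.eq_one_iff]
    exact mem_sup_left (pow_mem_agemo (mem_top x))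
  have hcc : CommCentral (P ⧸ N) := fun a b g => by
    obtain ⟨a, rfl⟩ := hπ a
    obtain ⟨b, rfl⟩ := hπ b
    obtain ⟨g, rfl⟩ := hπ g
    rw [← commutatorElement_eq_one_iff_mul_comm, ← map_commutatorElement, ← map_commutatorElement,
      hπd, QuotientGroup.mk'_apply, QuotientGroup.eq_one_iff]
    refine mem_sup_right ?_
    rw [Subgroup.lowerCentralSeries_succ, Subgroup.top_lowerCentralSeries_one]
    exact commutator_mem_commutator (commutator_mem_commutator (mem_top a) (mem_top b)) (mem_top g)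
  have hΦW : ∀ c ∈ frattini P, π c ∈ commutator (P ⧸ N) := fun c hc => by
    rw [frattini_eq_sup hP] at hc
    refine (sup_le ?_ ?_ : commutator P ⊔ agemo p ⊤ ≤ (commutator (P ⧸ N)).comap π) hc
    · exact map_le_iff_le_comap.1 (by rw [commutator_def, map_commutator]; exact commutator_mono le_top le_top)
    · exact agemo_le_iff.2 fun x _ => by rw [mem_comap, map_pow, hexp]; exact one_mem _
  refine ⟨N, inferInstance, hN, hNΦ, hexp, hcc, hΦW, ?_, fun α => ?_⟩
  · refine small_derived hexp hcc (h.rank N) (closure_triple_map π hπ h.closure_eq) fun a b e => ?_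
    obtain ⟨a, rfl⟩ := hπ a
    obtain ⟨b, rfl⟩ := hπ b
    refine h.not_two a b ?_
    have e2 := congrArg (Subgroup.comap π) e
    rw [comap_top, ← Set.image_pair, ← MonoidHom.map_closure,
      commutator_def, ← map_top_of_surjective π hπ, ← map_commutator, ← Subgroup.map_sup,
      comap_map_eq, hπd, QuotientGroup.ker_mk', ← commutator_def] at e2
    refine top_le_iff.1 (e2 ▸ sup_le (sup_le le_sup_left ?_) (hNΦ.trans le_sup_right))
    exact le_sup_of_le_right Core.commutator_le_frattini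
  · rw [hN, Subgroup.map_sup, agemo_top_map, lcs_top_map]

theorem mk_cg {N : Subgroup P} [N.Normal]
    (hΦ : ∀ c ∈ frattini P, QuotientGroup.mk' N c ∈ commutator (P ⧸ N)) {a b : P} (h : Cg a b) :
    ∃ c ∈ commutator (P ⧸ N), QuotientGroup.mk' N b = QuotientGroup.mk' N a * c :=
  ⟨_, hΦ _ h, by rw [← map_mul, mul_inv_cancel_left]⟩

omit hp [Finite P] in
theorem central_of_commCentral {Q : Type*} [Group Q] (hc : CommCentral Q) :
    ∀ w ∈ commutator Q, ∀ g, w * g = g * w := fun w hw g => by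
  rw [commutator_eq_closure] at hw
  induction hw using Subgroup.closure_induction with
  | mem x hx => obtain ⟨a, b, rfl⟩ := hx; exact hc a b g
  | one => simp
  | mul x y _ _ ihx ihy => rw [mul_assoc, ihy, ← mul_assoc, ihx, mul_assoc]
  | inv x _ ih => exact (show Commute x g from ih).inv_left.eq

omit hp [Finite P] in
theorem fix_commutator {Q : Type*} [Group Q] [Finite Q] [Fact p.Prime] (hexp : ∀ x : Q, x ^ p = 1)
    (hcard : Nat.card (commutator Q) ≤ p) {α : MulAut Q} {k : ℕ} (hα : α ^ p ^ k = 1) {w : Q}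
    (hw : w ∈ commutator Q) : α w = w := by
  by_cases hw1 : w = 1
  · rw [hw1, map_one]
  refine fix_of_zpowers hα (hexp w) ?_
  have hle : zpowers w ≤ commutator Q := zpowers_le.2 hw
  rw [eq_of_le_of_card_ge hle (by rw [Nat.card_zpowers, orderOf_eq_prime (hexp w) hw1]; exact hcard)]
  have := mem_map_of_mem α.toMonoidHom hw
  rwa [commutator_def, map_commutator, map_top_of_surjective α.toMonoidHom α.surjective] at this

/-- Irreducible shape: the derived subgroup lies in the agemo. -/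
theorem EHyp.reg {e t z : P} (h : EHyp p e t z) (A : Set (MulAut P)) {τ : MulAut P} {k : ℕ}
    (hτk : τ ^ p ^ k = 1) (τe : Cg (τ e) (e * t)) (τt : Cg (τ t) (t * z)) (τz : Cg (τ z) z)
    (irr : ∀ W : Subgroup P, frattini P ≤ W → (∀ α ∈ A, ∀ w ∈ W, α w ∈ W) →
      W = frattini P ∨ W = ⊤) :
    commutator P ≤ agemo p ⊤ := by
  obtain ⟨N, _, hN, hNΦ, hexp, hcc, hΦW, hcard, hchar⟩ := h.phase_one
  haveI := h.pgroup.isNilpotent
  haveI hU := agemo_normal (p := p) (⊤ : Subgroup P)
  set π := QuotientGroup.mk' N with hπd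
  have hπ : Function.Surjective π := QuotientGroup.mk'_surjective N
  have hW := central_of_commCentral hcc
  set τQ := qAut N τ (hchar τ)
  obtain ⟨c1, hc1, e1⟩ := mk_cg hΦW τe
  obtain ⟨c2, hc2, e2⟩ := mk_cg hΦW τt
  obtain ⟨c3, hc3, e3⟩ := mk_cg hΦW τz
  have key : ∀ (x y : P) (x' y' : P ⧸ N) (a b : P ⧸ N), a ∈ commutator (P ⧸ N) →
      b ∈ commutator (P ⧸ N) → x' = π (τ x) * a → y' = π (τ y) * b → ⁅x', y'⁆ = ⁅π x, π y⁆ := by
    intro x y x' y' a b ha hb hx hy
    rw [hx, hy, comm_mul_central_left _ _ (hW a ha), comm_mul_central_right _ _ (hW b hb),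
      ← map_commutatorElement π (τ x), ← map_commutatorElement τ, ← qAut_mk N τ (hchar τ),
      map_commutatorElement π]
    exact fix_commutator hexp hcard (qAut_pow_eq_one N τ (hchar τ) hτk)
      (commutator_mem_commutator (mem_top _) (mem_top _))
  have htz : ⁅π t, π z⁆ = 1 := by
    have e4 := key e z (π (e * t)) (π z) c1 c3 hc1 hc3 e1 e3
    rwa [map_mul, hcc.mul_left, mul_eq_left] at e4
  have hez : ⁅π e, π z⁆ = 1 := by
    have e4 := key e t (π (e * t)) (π (t * z)) c1 c2 hc1 hc2 e1 e2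
    rwa [map_mul, map_mul, hcc.mul_left, hcc.mul_right, hcc.mul_right, commutatorElement_self,
      htz, one_mul, mul_one, mul_eq_left] at e4
  -- the radical
  set W := (center (P ⧸ N)).comap π with hWd
  have hΦWc : frattini P ≤ W := fun c hc => mem_center_iff.2 fun g => (hW _ (hΦW c hc) g).symm
  have hzW : z ∈ W := by
    have hgen := closure_triple_map π hπ h.closure_eq
    refine mem_center_iff.2 fun g => ?_
    have hg : g ∈ closure ({π e, π t, π z} : Set (P ⧸ N)) := hgen ▸ mem_top g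
    refine ((closure_le (centralizer ({π z} : Set (P ⧸ N)))).2 ?_ hg) (π z) rfl |>.symm
    rintro x (rfl | rfl | rfl) <;> rw [SetLike.mem_coe, mem_centralizer_singleton_iff]
    · exact commutatorElement_eq_one_iff_mul_comm.1 hez
    · exact commutatorElement_eq_one_iff_mul_comm.1 htz
  rcases irr W hΦWc (fun α _ w hw => by
    refine mem_center_iff.2 fun g => ?_
    obtain ⟨g, rfl⟩ := (qAut N α (hchar α)).surjective g
    rw [← qAut_mk N α (hchar α), ← map_mul, ← map_mul, mem_center_iff.1 hw g]) with hW1 | hW1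
  · refine absurd (hW1 ▸ hzW) fun hz => h.not_two e t (top_le_iff.1 (h.gen ▸ sup_le ?_ le_sup_right))
    rw [closure_le]
    rintro x (rfl | rfl | rfl)
    exacts [mem_sup_left (subset_closure (by simp)), mem_sup_left (subset_closure (by simp)),
      mem_sup_right hz]
  · refine le_of_le_sup_commutator ?_
    rw [commutator_def, commutator_le]
    intro a _ b _
    have hmem : ⁅a, b⁆ ∈ N := by
      rw [← QuotientGroup.eq_one_iff, ← QuotientGroup.mk'_apply, map_commutatorElement,
        commutatorElement_eq_one_iff_mul_comm]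
      exact (mem_center_iff.1 (show π a ∈ center (P ⧸ N) from (hW1 ▸ mem_top a : a ∈ W)) (π b)).symm
    rw [hN, Subgroup.lowerCentralSeries_succ, Subgroup.top_lowerCentralSeries_one, commutator_def] at hmem
    exact hmem

/-- Transvection shape. -/
theorem EHyp.pair {e z u : P} (h : EHyp p e z u) {τ τ' : MulAut P} {k k' : ℕ}
    (hτk : τ ^ p ^ k = 1) (hτk' : τ' ^ p ^ k' = 1) (τe : Cg (τ e) (e * z)) (τz : Cg (τ z) z)
    (τu : Cg (τ u) u) (τ'e : Cg (τ' e) e) (τ'z : Cg (τ' z) (z * e)) (τ'u : Cg (τ' u) u) :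
    (⊤ : Subgroup P).lowerCentralSeries 2 ≤ agemo p ⊤ ∧ ∀ g : P, ⁅u, g⁆ ∈ agemo p ⊤ := by
  obtain ⟨N, _, hN, hNΦ, hexp, hcc, hΦW, hcard, hchar⟩ := h.phase_one
  haveI := h.pgroup.isNilpotent
  haveI hU := agemo_normal (p := p) (⊤ : Subgroup P)
  set π := QuotientGroup.mk' N with hπd
  have hπ : Function.Surjective π := QuotientGroup.mk'_surjective N
  have hW := central_of_commCentral hcc
  have key : ∀ (σ : MulAut P) (m : ℕ), σ ^ p ^ m = 1 → ∀ (x y : P) (x' y' : P ⧸ N)
      (a b : P ⧸ N), a ∈ commutator (P ⧸ N) → b ∈ commutator (P ⧸ N) → x' = π (σ x) * a →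
      y' = π (σ y) * b → ⁅x', y'⁆ = ⁅π x, π y⁆ ∧ π ⁅σ x, σ y⁆ = π ⁅x, y⁆ := by
    intro σ m hσ x y x' y' a b ha hb hx hy
    have e0 : π ⁅σ x, σ y⁆ = π ⁅x, y⁆ := by
      rw [← map_commutatorElement σ, ← qAut_mk N σ (hchar σ), map_commutatorElement π]
      exact fix_commutator hexp hcard (qAut_pow_eq_one N σ (hchar σ) hσ)
        (commutator_mem_commutator (mem_top _) (mem_top _))
    refine ⟨?_, e0⟩
    rw [hx, hy, comm_mul_central_left _ _ (hW a ha), comm_mul_central_right _ _ (hW b hb),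
      ← map_commutatorElement π (σ x), e0, map_commutatorElement]
  obtain ⟨c1, hc1, e1⟩ := mk_cg hΦW τe
  obtain ⟨c2, hc2, e2⟩ := mk_cg hΦW τz
  obtain ⟨c3, hc3, e3⟩ := mk_cg hΦW τu
  obtain ⟨d1, hd1, g1⟩ := mk_cg hΦW τ'e
  obtain ⟨d2, hd2, g2⟩ := mk_cg hΦW τ'z
  obtain ⟨d3, hd3, g3⟩ := mk_cg hΦW τ'u
  have hzu : ⁅π z, π u⁆ = 1 := by
    have e4 := (key τ k hτk e u (π (e * z)) (π u) c1 c3 hc1 hc3 e1 e3).1
    rwa [map_mul, hcc.mul_left, mul_eq_left] at e4
  have heu : ⁅π e, π u⁆ = 1 := by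
    have e4 := (key τ' k' hτk' z u (π (z * e)) (π u) d2 d3 hd2 hd3 g2 g3).1
    rwa [map_mul, hcc.mul_left, mul_eq_left] at e4
  have hfN : π ⁅τ e, τ z⁆ = π ⁅e, z⁆ := (key τ k hτk e z _ _ c1 c2 hc1 hc2 e1 e2).2
  have hfN' : π ⁅τ' e, τ' z⁆ = π ⁅e, z⁆ := (key τ' k' hτk' e z _ _ d1 d2 hd1 hd2 g1 g2).2
  -- the second quotient
  haveI : ((⊤ : Subgroup P).lowerCentralSeries 3).Normal := inferInstance
  set M := agemo p ⊤ ⊔ (⊤ : Subgroup P).lowerCentralSeries 3 with hM
  haveI : M.Normal := sup_normal _ _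
  have hMN : M ≤ N := hN ▸ sup_le_sup_left (Subgroup.lowerCentralSeries_antitone _ (by norm_num)) _
  set φ := QuotientGroup.mk' M with hφd
  have hφ : Function.Surjective φ := QuotientGroup.mk'_surjective M
  have hexp2 : ∀ x : P ⧸ M, x ^ p = 1 := fun x => by
    obtain ⟨x, rfl⟩ := hφ x
    rw [← map_pow, hφd, QuotientGroup.mk'_apply, QuotientGroup.eq_one_iff]
    exact mem_sup_left (pow_mem_agemo (mem_top x))
  set W3 := ((⊤ : Subgroup P).lowerCentralSeries 2).map φ with hW3
  have hW3c : ∀ w ∈ W3, ∀ g, w * g = g * w := by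
    rintro _ ⟨w, hw, rfl⟩ g
    obtain ⟨g, rfl⟩ := hφ g
    rw [← commutatorElement_eq_one_iff_mul_comm, ← map_commutatorElement, hφd,
      QuotientGroup.mk'_apply, QuotientGroup.eq_one_iff]
    refine mem_sup_right ?_
    rw [Subgroup.lowerCentralSeries_succ]
    exact commutator_mem_commutator hw (mem_top g)
  have hNW3 : ∀ n ∈ N, φ n ∈ W3 := fun n hn => by
    rw [hN] at hn
    refine (sup_le ?_ (fun y hy => mem_map_of_mem φ hy) :
      agemo p ⊤ ⊔ (⊤ : Subgroup P).lowerCentralSeries 2 ≤ W3.comap φ) hn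
    exact agemo_le_iff.2 fun x _ => by rw [mem_comap, map_pow, hexp2]; exact one_mem _
  obtain ⟨f, hf⟩ : ∃ f, f = φ ⁅e, z⁆ := ⟨_, rfl⟩
  have toW3 : ∀ a b : P, π a = π b → ∃ w ∈ W3, φ a = φ b * w := fun a b hab => by
    refine ⟨φ (b⁻¹ * a), hNW3 _ (QuotientGroup.eq.1 hab.symm), ?_⟩
    rw [← map_mul, mul_inv_cancel_left]
  have hcomm3 : ∀ a b : P, ⁅π a, π b⁆ = 1 → ⁅φ a, φ b⁆ ∈ W3 := fun a b hab => by
    rw [← map_commutatorElement] at hab ⊢
    exact hNW3 _ ((QuotientGroup.eq_one_iff _).1 hab)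
  have hfW : ∀ g : P ⧸ M, ⁅f, g⁆ ∈ W3 := fun g => by
    obtain ⟨g, rfl⟩ := hφ g
    rw [hf, ← map_commutatorElement]
    refine mem_map_of_mem φ ?_
    rw [Subgroup.lowerCentralSeries_succ, Subgroup.top_lowerCentralSeries_one]
    exact commutator_mem_commutator (commutator_mem_commutator (mem_top e) (mem_top z)) (mem_top g)
  have hfu : ⁅φ u, f⁆ = 1 := by
    rw [commutatorElement_eq_one_iff_mul_comm, ← mul_inv_eq_iff_eq_mul, hf, map_commutatorElement]
    rw [← MulAut.conj_apply, map_commutatorElement (MulAut.conj (φ u))]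
    have hue : MulAut.conj (φ u) (φ e) = φ e * ⁅φ u, φ e⁆ := by
      rw [← hW3c _ (hcomm3 u e (by rw [← commutatorElement_inv, heu, inv_one])) (φ e),
        MulAut.conj_apply, commutatorElement_def, inv_mul_cancel_right]
    have huz : MulAut.conj (φ u) (φ z) = φ z * ⁅φ u, φ z⁆ := by
      rw [← hW3c _ (hcomm3 u z (by rw [← commutatorElement_inv, hzu, inv_one])) (φ z),
        MulAut.conj_apply, commutatorElement_def, inv_mul_cancel_right]
    rw [hue, huz, comm_mul_central_left _ _ (hW3c _ (hcomm3 u e (by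
      rw [← commutatorElement_inv, heu, inv_one]))), comm_mul_central_right _ _ (hW3c _ (hcomm3 u z (by
      rw [← commutatorElement_inv, hzu, inv_one])))]
  have gens2 := closure_triple_map φ hφ h.closure_eq
  have finish : ⁅f, φ e⁆ = 1 → ⁅f, φ z⁆ = 1 →
      (⊤ : Subgroup P).lowerCentralSeries 2 ≤ M := by
    intro h1 h2
    have hfc : ∀ g, f * g = g * f := by
      intro g
      have hg : g ∈ closure ({φ e, φ z, φ u} : Set (P ⧸ M)) := gens2 ▸ mem_top g
      refine ((closure_le (centralizer ({f} : Set (P ⧸ M)))).2 ?_ hg) f rfl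
      rintro x (rfl | rfl | rfl) <;> rw [SetLike.mem_coe, mem_centralizer_singleton_iff]
      · exact (commutatorElement_eq_one_iff_mul_comm.1 h1).symm
      · exact (commutatorElement_eq_one_iff_mul_comm.1 h2).symm
      · exact commutatorElement_eq_one_iff_mul_comm.1 hfu
    have c2 : CommCentral (P ⧸ M) := by
      refine commCentral_of_gens gens2 ?_
      have hez : ∀ g, ⁅φ e, φ z⁆ * g = g * ⁅φ e, φ z⁆ := fun g => by
        rw [← map_commutatorElement, ← hf]; exact hfc g
      have inv_c : ∀ a b : P ⧸ M, (∀ g, ⁅a, b⁆ * g = g * ⁅a, b⁆) →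
          ∀ g, ⁅b, a⁆ * g = g * ⁅b, a⁆ := fun a b hab g => by
        rw [← commutatorElement_inv]; exact (show Commute ⁅a, b⁆ g from hab g).inv_left.eq
      have heu' := hW3c _ (hcomm3 e u heu)
      have hzu' := hW3c _ (hcomm3 z u hzu)
      rintro a (rfl | rfl | rfl) b (rfl | rfl | rfl) g
      all_goals first
        | exact hez g
        | exact heu' g
        | exact hzu' g
        | exact inv_c _ _ hez g
        | exact inv_c _ _ heu' g
        | exact inv_c _ _ hzu' g
        | rw [commutatorElement_self, one_mul, mul_one]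
    rw [Subgroup.lowerCentralSeries_succ, Subgroup.top_lowerCentralSeries_one, commutator_le]
    intro a ha b _
    rw [← QuotientGroup.eq_one_iff, ← QuotientGroup.mk'_apply, map_commutatorElement,
      commutatorElement_eq_one_iff_mul_comm]
    refine central_of_commCentral c2 _ ?_ _
    have := mem_map_of_mem φ ha
    rwa [commutator_def, map_commutator, map_top_of_surjective φ hφ] at this
  have main : (⊤ : Subgroup P).lowerCentralSeries 2 ≤ M := by
    by_cases hf3 : f ∈ W3
    · refine finish ?_ ?_ <;> rw [commutatorElement_eq_one_iff_mul_comm] <;> exact hW3c f hf3 _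
    have hW3e : Elem p W3 := ⟨fun a ha b _ => hW3c a ha b, fun a _ => hexp2 a⟩
    obtain ⟨a1, k1⟩ := hW3e.extend (hexp2 f) (fun w hw => (hW3c w hw f).symm) hf3
    have hu' : φ u ∉ W3 ⊔ zpowers f := fun hmem => by
      have hle : W3 ⊔ zpowers f ≤ (frattini P).map φ := sup_le
        (map_mono ((Subgroup.lowerCentralSeries_antitone _ (by norm_num : 1 ≤ 2)).trans
          (by rw [Subgroup.top_lowerCentralSeries_one]; exact Core.commutator_le_frattini)))
        (zpowers_le.2 (hf ▸ mem_map_of_mem φ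
          (Core.commutator_le_frattini (commutator_mem_commutator (mem_top e) (mem_top z)))))
      have huΦ : u ∈ frattini P := by
        have h1 : u ∈ ((frattini P).map φ).comap φ := hle hmem
        rw [comap_map_eq, hφd, QuotientGroup.ker_mk', sup_eq_left.2 (hMN.trans hNΦ)] at h1
        exact h1
      refine h.not_two e z (top_le_iff.1 (h.gen ▸ sup_le ?_ le_sup_right))
      rw [closure_le]
      rintro x (rfl | rfl | rfl)
      exacts [mem_sup_left (subset_closure (by simp)), mem_sup_left (subset_closure (by simp)),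
        mem_sup_right huΦ]
    have hcu : ∀ a ∈ W3 ⊔ zpowers f, φ u * a = a * φ u := by
      intro a ha
      have hc : W3 ⊔ zpowers f ≤ centralizer ({φ u} : Set (P ⧸ M)) := sup_le
        (fun w hw => mem_centralizer_singleton_iff.2 (hW3c w hw _))
        (zpowers_le.2 (mem_centralizer_singleton_iff.2 (commutatorElement_eq_one_iff_mul_comm.1 hfu).symm))
      exact (mem_centralizer_singleton_iff.1 (hc ha)).symm
    obtain ⟨a2, k2⟩ := a1.extend (hexp2 (φ u)) hcu hu'
    have hW3card : Nat.card W3 ≤ p := by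
      have : Nat.card W3 * p * p ≤ p * (p * p) := by
        calc _ ≤ _ := Nat.mul_le_mul_right p k1
          _ ≤ _ := k2
          _ ≤ _ := (a2.card_le (h.rank M)).trans (le_of_eq (by ring))
      rw [mul_assoc] at this
      exact Nat.le_of_mul_le_mul_right this (Nat.mul_pos hp.out.pos hp.out.pos)
    -- `f` commutes with the derived subgroup
    have hfd : ∀ c ∈ commutator (P ⧸ M), ⁅f, c⁆ = 1 := by
      intro c hc
      rw [commutator_eq_closure] at hc
      have mulr : ∀ a b : P ⧸ M, ⁅f, a * b⁆ = ⁅f, a⁆ * ⁅f, b⁆ := fun a b =>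
        comm_mul_right_of f a b (hW3c _ (hfW b))
      induction hc using Subgroup.closure_induction with
      | mem x hx =>
        obtain ⟨a, b, rfl⟩ := hx
        have hinv : ∀ a : P ⧸ M, ⁅f, a⁻¹⁆ = ⁅f, a⁆⁻¹ := fun a => by
          refine eq_inv_of_mul_eq_one_left ?_
          rw [← mulr, inv_mul_cancel, commutatorElement_one_right]
        rw [commutatorElement_def a b, mulr, mulr, mulr, hinv, hinv,
          hW3c _ (hfW a) ⁅f, b⁆, mul_inv_cancel_right, mul_inv_cancel]
      | one => exact commutatorElement_one_right f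
      | mul x y _ _ ihx ihy => rw [mulr, ihx, ihy, one_mul]
      | inv x _ ih =>
        have := mulr x⁻¹ x
        rw [inv_mul_cancel, commutatorElement_one_right, ih, mul_one] at this
        exact this.symm
    have hΦ2 : ∀ c ∈ frattini P, φ c ∈ commutator (P ⧸ M) := fun c hc => by
      rw [frattini_eq_sup h.pgroup] at hc
      refine (sup_le ?_ ?_ : commutator P ⊔ agemo p ⊤ ≤ (commutator (P ⧸ M)).comap φ) hc
      · exact map_le_iff_le_comap.1 (by rw [commutator_def, map_commutator]; exact commutator_mono le_top le_top)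
      · exact agemo_le_iff.2 fun x _ => by rw [mem_comap, map_pow, hexp2]; exact one_mem _
    have hchar2 : ∀ α : MulAut P, M.map α.toMonoidHom = M := fun α => by
      rw [hM, Subgroup.map_sup, agemo_top_map, lcs_top_map]
    have step : ∀ (σ : MulAut P) (m : ℕ), σ ^ p ^ m = 1 → π ⁅σ e, σ z⁆ = π ⁅e, z⁆ →
        ∀ x x' : P, Cg (σ x) x' → ⁅f, φ x'⁆ = ⁅f, φ x⁆ := by
      intro σ m hσ hπσ x x' hx
      obtain ⟨c, hc, hcx⟩ := mk_cg hΦ2 hx
      obtain ⟨w, hw, hw'⟩ := toW3 _ _ hπσ
      rw [hcx, comm_mul_right_of f _ c (hW3c _ (hfW c)), hfd c hc, mul_one]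
      have e5 : qAut M σ (hchar2 σ) ⁅f, φ x⁆ = ⁅f, φ x⁆ := by
        by_cases hw1 : ⁅f, φ x⁆ = 1
        · rw [hw1, map_one]
        refine fix_of_zpowers (qAut_pow_eq_one M σ (hchar2 σ) hσ) (hexp2 _) ?_
        rw [eq_of_le_of_card_ge (zpowers_le.2 (hfW (φ x)))
          (by rw [Nat.card_zpowers, orderOf_eq_prime (hexp2 _) hw1]; exact hW3card)]
        have := mem_map_of_mem (qAut M σ (hchar2 σ)).toMonoidHom (hfW (φ x))
        rw [hW3, map_map] at this
        obtain ⟨y, hy, hyy⟩ := this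
        refine ⟨σ y, ?_, hyy⟩
        rw [← lcs_top_map σ 2]; exact mem_map_of_mem _ hy
      rw [map_commutatorElement, hf, qAut_mk, qAut_mk, map_commutatorElement σ, hw', ← hf,
        comm_mul_central_left _ _ (hW3c w hw)] at e5
      exact e5
    have h1 : ⁅f, φ z⁆ = 1 := by
      have := step τ k hτk hfN e (e * z) τe
      rwa [map_mul, comm_mul_right_of f _ _ (hW3c _ (hfW _)), mul_eq_left] at this
    have h2 : ⁅f, φ e⁆ = 1 := by
      have := step τ' k' hτk' hfN' z (z * e) τ'z
      rwa [map_mul, comm_mul_right_of f _ _ (hW3c _ (hfW _)), mul_eq_left] at this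
    exact finish h2 h1
  have hle : (⊤ : Subgroup P).lowerCentralSeries 2 ≤ agemo p ⊤ := le_of_le_sup_commutator (by
    refine main.trans (le_of_eq ?_)
    rw [hM, Subgroup.lowerCentralSeries_succ])
  refine ⟨hle, fun g => ?_⟩
  have hgen := closure_triple_map π hπ h.closure_eq
  have hmem : ⁅u, g⁆ ∈ N := by
    rw [← QuotientGroup.eq_one_iff, ← QuotientGroup.mk'_apply, map_commutatorElement,
      commutatorElement_eq_one_iff_mul_comm]
    have hg : π g ∈ closure ({π e, π z, π u} : Set (P ⧸ N)) := hgen ▸ mem_top _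
    refine ((closure_le (centralizer ({π u} : Set (P ⧸ N)))).2 ?_ hg) (π u) rfl
    rintro x (rfl | rfl | rfl) <;> rw [SetLike.mem_coe, mem_centralizer_singleton_iff]
    · exact commutatorElement_eq_one_iff_mul_comm.1 heu
    · exact commutatorElement_eq_one_iff_mul_comm.1 hzu
  rw [hN, sup_eq_left.2 hle] at hmem
  exact hmem

end Cfsg.Agent.RankThreeEss
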