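import Cfsg.Agent.FusSys.Embedded
import Mathlib.LinearAlgebra.FiniteDimensional.Lemmas
import Mathlib.Algebra.Module.ZMod
import Mathlib.Algebra.CharP.Lemmas
import Mathlib.GroupTheory.PGroup

/-!
Faithful actions on a three-dimensional space over `ZMod p` of groups with a strongly `p`-embedded
subgroup: the Sylow subgroups have order `p`.
-/

set_option autoImplicit false

namespace Cfsg.Agent.RankThreeEss

open Cfsg Cfsg.Agent.FusSys

universe u

variable {p : ℕ} [hp : Fact p.Prime] {V : Type u} [AddCommGroup V] [Module (ZMod p) V]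

local notation "End'" => Module.End (ZMod p) V

theorem eigen_eq_one {c : ZMod p} {k : ℕ} (h : c ^ p ^ k = 1) : c = 1 := by
  rwa [ZMod.pow_card_pow] at h

/-- A transvection with centre `a`. -/
structure IsTv (A : End') (a : V) (f : V →ₗ[ZMod p] ZMod p) : Prop where
  apply : ∀ v, A v = v + f v • a
  self : f a = 0
  ne : a ≠ 0
  nz : f ≠ 0

theorem IsTv.pow_apply {A : End'} {a : V} {f : V →ₗ[ZMod p] ZMod p} (h : IsTv A a f) (n : ℕ) (v : V) :
    (A ^ n) v = v + ((n : ZMod p) * f v) • a := by
  induction n with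
  | zero => simp
  | succ n ih =>
    rw [pow_succ', Module.End.mul_apply, ih, h.apply, map_add, map_smul, h.self, smul_zero, add_zero,
      Nat.cast_succ, add_mul, one_mul, add_smul]
    abel

theorem IsTv.exists_one {A : End'} {a : V} {f : V →ₗ[ZMod p] ZMod p} (h : IsTv A a f) :
    ∃ v, f v = 1 := by
  obtain ⟨v, hv⟩ : ∃ v, f v ≠ 0 := by
    by_contra! hc
    exact h.nz (LinearMap.ext hc)
  exact ⟨(f v)⁻¹ • v, by rw [map_smul, smul_eq_mul, inv_mul_cancel₀ hv]⟩

theorem nilp_cube [FiniteDimensional (ZMod p) V] (hV : Module.finrank (ZMod p) V = 3) {N : End'}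
    (hN : ∃ m, N ^ m = 0) : N ^ 3 = 0 := by
  obtain ⟨m, hm⟩ := hN
  refine LinearMap.ext fun v => ?_
  have h := Module.End.ker_pow_le_ker_pow_finrank N m
  rw [hV] at h
  exact LinearMap.mem_ker.1 (h (by rw [hm]; simp))

/-- A nonzero endomorphism of square zero of a three-dimensional space gives a transvection. -/
theorem isTv_of_sq [FiniteDimensional (ZMod p) V] (hV : Module.finrank (ZMod p) V = 3) {A : End'}
    (h2 : (A - 1) ^ 2 = 0) (h1 : A - 1 ≠ 0) : ∃ a f, IsTv A a f := by
  have hrk : LinearMap.range (A - 1) ≤ LinearMap.ker (A - 1) := by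
    rintro _ ⟨v, rfl⟩
    rw [LinearMap.mem_ker, ← Module.End.mul_apply, ← pow_two, h2, LinearMap.zero_apply]
  obtain ⟨v0, hv0⟩ : ∃ v, (A - 1) v ≠ 0 := by
    by_contra! hc
    exact h1 (LinearMap.ext hc)
  have ha : (A - 1) v0 ∈ LinearMap.range (A - 1) := ⟨v0, rfl⟩
  have hr1 : Module.finrank (ZMod p) (LinearMap.range (A - 1)) = 1 := by
    have e := LinearMap.finrank_range_add_finrank_ker (A - 1)
    have l := Submodule.finrank_mono hrk
    have pos : 0 < Module.finrank (ZMod p) (LinearMap.range (A - 1)) := by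
      rw [Nat.pos_iff_ne_zero, Ne, Submodule.finrank_eq_zero]
      exact fun hb => hv0 ((Submodule.mem_bot (ZMod p)).1 (hb ▸ ha))
    omega
  have hspan := (Submodule.eq_of_le_of_finrank_le (S₁ := (ZMod p) ∙ (A - 1) v0)
    ((Submodule.span_singleton_le_iff_mem _ _).2 ha)
    (by rw [hr1, finrank_span_singleton hv0])).symm
  obtain ⟨ψ, hψ⟩ := Module.Projective.exists_dual_ne_zero (ZMod p) hv0
  refine ⟨(A - 1) v0, ((ψ ((A - 1) v0))⁻¹ • ψ).comp (A - 1), fun v => ?_, ?_, hv0, fun h => ?_⟩
  · have hm : (A - 1) v ∈ (ZMod p) ∙ (A - 1) v0 := hspan ▸ ⟨v, rfl⟩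
    obtain ⟨c, hc⟩ := Submodule.mem_span_singleton.1 hm
    rw [LinearMap.comp_apply, LinearMap.smul_apply, ← hc, map_smul, smul_eq_mul, smul_eq_mul,
      mul_comm c, ← mul_assoc, inv_mul_cancel₀ hψ, one_mul, hc]
    simp
  · rw [LinearMap.comp_apply, LinearMap.mem_ker.1 (hrk ha), map_zero]
  · have := LinearMap.congr_fun h v0
    rw [LinearMap.comp_apply, LinearMap.smul_apply, smul_eq_mul, inv_mul_cancel₀ hψ] at this
    exact one_ne_zero this

theorem li_nilp {N : End'} (hN3 : N ^ 3 = 0) {v : V} (hv : (N ^ 2) v ≠ 0) :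
    LinearIndependent (ZMod p) ![v, N v, (N ^ 2) v] := by
  rw [Fintype.linearIndependent_iff]
  intro g hg
  rw [Fin.sum_univ_three] at hg
  simp only [Matrix.cons_val_zero, Matrix.cons_val_one, Matrix.cons_val] at hg
  have e3 : N ((N ^ 2) v) = 0 := by rw [← Module.End.mul_apply, ← pow_succ', hN3]; rfl
  have e2 : N (N v) = (N ^ 2) v := by rw [pow_two]; rfl
  have g1 := congrArg N hg
  simp only [map_add, map_smul, map_zero, e3, e2, smul_zero, add_zero] at g1
  have g2 := congrArg N g1
  simp only [map_add, map_smul, map_zero, e3, e2, smul_zero, add_zero] at g2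
  have h0 := (smul_eq_zero.1 g2).resolve_right hv
  rw [h0, zero_smul, zero_add] at g1
  have h1 := (smul_eq_zero.1 g1).resolve_right hv
  rw [h0, h1, zero_smul, zero_smul, zero_add, zero_add] at hg
  have h2 := (smul_eq_zero.1 hg).resolve_right hv
  intro i
  fin_cases i
  exacts [h0, h1, h2]

/-- The torus element from two opposite transvections, modulo an invariant subspace. -/
theorem torus_mod (L : Submodule (ZMod p) V) {A B : End'} (hA : ∀ v ∈ L, A v ∈ L)
    (hB : ∀ v ∈ L, B v ∈ L) {e w : V} (hAe : A e - (e + w) ∈ L) (hAw : A w - w ∈ L)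
    (hBw : B w - (w + e) ∈ L) (hBe : B e - e ∈ L) (i j l : ℕ) :
    (B ^ i * A * B ^ j * A ^ l) e -
        (((1 + (l : ZMod p) * j) + ((i : ZMod p) * (1 + (l : ZMod p) * j + l))) • e +
          (1 + (l : ZMod p) * j + l) • w) ∈ L ∧
      (B ^ i * A * B ^ j * A ^ l) w -
        ((((j : ZMod p) + 1) * i + j) • e + ((j : ZMod p) + 1) • w) ∈ L := by
  have key : ∀ (C : End'), (∀ v ∈ L, C v ∈ L) → ∀ x y : V, C x - (x + y) ∈ L → C y - y ∈ L →
      ∀ (n : ℕ) (a b : ZMod p),
        (C ^ n) (a • x + b • y) - (a • x + (b + n * a) • y) ∈ L := by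
    intro C hC x y hx hy n
    induction n with
    | zero => intro a b; simp
    | succ n ih =>
      intro a b
      rw [pow_succ', Module.End.mul_apply]
      set d := (C ^ n) (a • x + b • y) - (a • x + (b + n * a) • y) with hd
      have e1 : C ((C ^ n) (a • x + b • y)) - (a • x + (b + (n + 1 : ℕ) * a) • y) =
          C d + (a • (C x - (x + y)) + (b + n * a) • (C y - y)) := by
        have : (C ^ n) (a • x + b • y) = d + (a • x + (b + n * a) • y) := by rw [hd]; abel
        rw [this, map_add, map_add, map_smul, map_smul, smul_sub, smul_sub, Nat.cast_succ]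
        module
      rw [e1]
      exact L.add_mem (hC _ (ih a b)) (L.add_mem (L.smul_mem _ hx) (L.smul_mem _ hy))
  have hBp : ∀ (n : ℕ), ∀ v ∈ L, (B ^ n) v ∈ L := fun n => by
    induction n with
    | zero => exact fun v hv => by simpa using hv
    | succ n ih => exact fun v hv => by rw [pow_succ', Module.End.mul_apply]; exact hB _ (ih v hv)
  have hAp : ∀ (n : ℕ), ∀ v ∈ L, (A ^ n) v ∈ L := fun n => by
    induction n with
    | zero => exact fun v hv => by simpa using hv
    | succ n ih => exact fun v hv => by rw [pow_succ', Module.End.mul_apply]; exact hA _ (ih v hv)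
  have step : ∀ a b : ZMod p,
      (B ^ i * A * B ^ j * A ^ l) (a • e + b • w) -
        (((a + (j : ZMod p) * (b + l * a)) + i * (b + l * a + (a + j * (b + l * a)))) • e +
          (b + l * a + (a + (j : ZMod p) * (b + l * a))) • w) ∈ L := by
    intro a b
    simp only [Module.End.mul_apply]
    set b1 := b + (l : ZMod p) * a with hb1
    set a1 := a + (j : ZMod p) * b1 with ha1
    set b2 := b1 + a1 with hb2
    have s1 := key A hA e w hAe hAw l a b
    have s2 := key B hB w e hBw hBe j b1 a
    have s3 := key A hA e w hAe hAw 1 a1 b1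
    have s4 := key B hB w e hBw hBe i b2 a1
    rw [← hb1] at s1
    rw [pow_one, Nat.cast_one, one_mul, ← hb2] at s3
    rw [← ha1, add_comm (b1 • w), add_comm (b1 • w)] at s2
    rw [add_comm (b2 • w), add_comm (b2 • w)] at s4
    set v1 := (A ^ l) (a • e + b • w)
    set v2 := (B ^ j) v1 with hv2
    set v3 := A v2 with hv3
    have t2 : v2 - (a1 • e + b1 • w) ∈ L := by
      have := L.add_mem (hBp j _ s1) s2
      rwa [map_sub, sub_add_sub_cancel] at this
    have t3 : v3 - (a1 • e + b2 • w) ∈ L := by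
      have := L.add_mem (hA _ t2) s3
      rwa [map_sub, sub_add_sub_cancel] at this
    have := L.add_mem (hBp i _ t3) s4
    rwa [map_sub, sub_add_sub_cancel] at this
  refine ⟨?_, ?_⟩
  · have := step 1 0
    rw [one_smul, zero_smul, add_zero] at this
    convert this using 3 <;> · congr 1; ring
  · have := step 0 1
    rw [zero_smul, one_smul, zero_add] at this
    convert this using 3 <;> · congr 1; ring

/-- The torus element acting as `k'`, `k`. -/
theorem torus_mod' (L : Submodule (ZMod p) V) {A B : End'} (hA : ∀ v ∈ L, A v ∈ L)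
    (hB : ∀ v ∈ L, B v ∈ L) {e w : V} (hAe : A e - (e + w) ∈ L) (hAw : A w - w ∈ L)
    (hBw : B w - (w + e) ∈ L) (hBe : B e - e ∈ L) {k k' : ZMod p} (hk : k * k' = 1) :
    (B ^ (k' - 1).val * A * B ^ (k - 1).val * A ^ (-k').val) e - k' • e ∈ L ∧
      (B ^ (k' - 1).val * A * B ^ (k - 1).val * A ^ (-k').val) w - k • w ∈ L := by
  haveI : NeZero p := ⟨hp.out.ne_zero⟩
  obtain ⟨h1, h2⟩ := torus_mod L hA hB hAe hAw hBw hBe (k' - 1).val (k - 1).val (-k').val
  simp only [ZMod.natCast_val, ZMod.cast_id', id_eq] at h1 h2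
  constructor
  · convert h1 using 2
    rw [show 1 + -k' * (k - 1) + -k' = 0 by linear_combination (-1 : ZMod p) * hk,
      show 1 + -k' * (k - 1) = k' by linear_combination (-1 : ZMod p) * hk]
    simp
  · convert h2 using 2
    rw [show (k - 1 + 1) * (k' - 1) + (k - 1) = 0 by linear_combination hk,
      show k - 1 + 1 = k by ring]
    simp

end Cfsg.Agent.RankThreeEss
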