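import Cfsg.Agent.RankThreeEss.PairB2

/-!
The transvection case is impossible when `M` is not the whole group.
-/

set_option autoImplicit false

namespace Cfsg.Agent.RankThreeEss

open Subgroup
open scoped commutatorElement

variable {p : ℕ} [hp : Fact p.Prime] {K : Type*} [Group K] [Finite K] {M : Subgroup K} [hMn : M.Normal]

/-- The transvection case is impossible when `M` is not the whole group. -/
theorem pair_false {Γ : Subgroup (MulAut M)} (s : AutSetting p M Γ) {E Φ : Subgroup M} {h : MulAut M}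
    {k : ZMod p} {x e z u : M} (d : PairBase p E Φ h k x e z u) (hhΓ : h ∈ Γ)
    (hkerE : ∀ g : K, (∀ m ∈ E, MulAut.conjNormal g m ∈ E) → g ∈ M) : False := by
  haveI := d.normal
  haveI := d.cm_normal
  haveI : NeZero p := ⟨hp.out.ne_zero⟩
  set q := QuotientGroup.mk' (CM Φ z u) with hqd
  have hqs : Function.Surjective q := QuotientGroup.mk'_surjective _
  obtain ⟨vcomm, vexp, vco, vind⟩ := d.v_facts q hqs (QuotientGroup.ker_mk' _)
  set bv := fun α : MulAut M => qAut (CM Φ z u) α (d.cm_map α) with hbv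
  have bvq : ∀ (α : MulAut M) (m : M), bv α (q m) = q (α m) := fun α m => qAut_mk _ _ _ m
  have cmiff : ∀ a b : M, Cn (CM Φ z u) a b ↔ q a = q b := fun a b => QuotientGroup.eq.symm
  have hCE : CM Φ z u ≤ E := by
    rw [d.hE]
    exact sup_le_sup_right (Subgroup.closure_mono (Set.subset_insert _ _)) Φ
  have hkerE' : ∀ g : K, q (MulAut.conjNormal g e) = q e → g ∈ M := by
    intro g hg
    refine hkerE g fun m hm => ?_
    have hle : E ≤ E.comap (MulAut.conjNormal g : MulAut M).toMonoidHom := by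
      conv_lhs => rw [d.hE]
      refine sup_le ((closure_le _).2 ?_) fun w hw => d.hE ▸ mem_sup_right (d.char _ w hw)
      rintro w (rfl | rfl | rfl)
      · show MulAut.conjNormal g w ∈ E
        have h1 : (MulAut.conjNormal g w)⁻¹ * w ∈ CM Φ z u := (cmiff _ _).2 hg
        have h2 : w ∈ E := by rw [d.hE]; exact mem_sup_left (subset_closure (by simp))
        have := mul_mem h2 (inv_mem (hCE h1))
        rwa [mul_inv_rev, inv_inv, mul_inv_cancel_left] at this
      · exact hCE (d.cen_invariant _ (mem_sup_left (subset_closure (by simp))))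
      · exact hCE (d.cen_invariant _ (mem_sup_left (subset_closure (by simp))))
    exact hle hm
  have hker : ∀ g : K, (∀ m : M, Cn (CM Φ z u) (MulAut.conjNormal g m) m) → g ∈ M := fun g hg =>
    hkerE' g ((cmiff _ _).1 (hg e))
  -- a line fixed by everything
  set CK := (CM Φ z u).map M.subtype with hCK
  haveI : CK.Normal := by
    refine ⟨fun n hn g => ?_⟩
    obtain ⟨m, hm, rfl⟩ := hn
    exact ⟨MulAut.conjNormal g m, d.cen_invariant _ hm, MulAut.conjNormal_apply g m⟩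
  set r := QuotientGroup.mk' CK with hrd
  haveI := (s.pgroup.to_quotient CK).isNilpotent
  haveI : (M.map r).Normal := hMn.map r (QuotientGroup.mk'_surjective CK)
  have hqr : ∀ a b : M, r (a : K) = r (b : K) → q a = q b := fun a b hab => by
    rw [hrd, QuotientGroup.mk'_apply, QuotientGroup.mk'_apply, QuotientGroup.eq] at hab
    refine QuotientGroup.eq.2 ?_
    exact (mem_map_iff_mem M.subtype_injective).1 hab
  have hne : M.map r ≠ ⊥ := fun e0 => by
    have h1 : r (x : K) = r ((1 : M) : K) := by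
      rw [OneMemClass.coe_one, map_one, ← mem_bot, ← e0]
      exact mem_map_of_mem r x.2
    refine one_ne_zero (vind (1 : ZMod p) 0 ?_).1
    rw [zp_one, zp_zero, mul_one, hqr _ _ h1, map_one]
  obtain ⟨wr, hwr, hwr1⟩ := (bot_or_exists_ne_one _).resolve_left (Cfsg.Agent.Core.inf_center_ne_bot hne)
  obtain ⟨wk, hwk, rfl⟩ := hwr.1
  obtain ⟨wm, hwm⟩ : ∃ wm : M, wm = ⟨wk, hwk⟩ := ⟨_, rfl⟩
  have hfix : ∀ g : K, q (MulAut.conjNormal g wm) = q wm := fun g => hqr _ _ (by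
    rw [MulAut.conjNormal_apply, hwm, map_mul, map_mul, map_inv]
    show r g * r wk * (r g)⁻¹ = r wk
    rw [mem_center_iff.1 hwr.2 (r g), mul_inv_cancel_right])
  obtain ⟨a, b, hab⟩ := vco (q wm)
  obtain ⟨g0, hg0, -⟩ := exists_outside s
  have ha : a ≠ 0 := fun e0 => by
    rw [e0, zp_zero, one_mul] at hab
    have hb : b ≠ 0 := fun e1 => hwr1 (by
      rw [e1, zp_zero] at hab
      rw [← map_one r, hrd, QuotientGroup.mk'_apply, QuotientGroup.mk'_apply, QuotientGroup.eq, mul_one]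
      refine inv_mem ⟨wm, (QuotientGroup.eq_one_iff _).1 hab, ?_⟩
      rw [hwm]; rfl)
    refine hg0 (hkerE' g0 ?_)
    have h1 := hfix g0
    rw [← bvq, hab, map_zp, bvq] at h1
    have h2 := congrArg (fun v => zp v b⁻¹) h1
    simp only [← zp_mul (vexp _), mul_inv_cancel₀ hb, zp_one] at h2
    exact h2
  obtain ⟨w0, hw0⟩ : ∃ w0, w0 = q x * zp (q e) (b * a⁻¹) := ⟨_, rfl⟩
  have hzpm : ∀ (v w : M ⧸ CM Φ z u) (c : ZMod p), zp (v * w) c = zp v c * zp w c := fun v w c =>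
    (show Commute v w from vcomm v w).mul_pow _
  have hw0fix : ∀ g : K, bv (MulAut.conjNormal g) w0 = w0 := fun g => by
    have h1 : w0 = zp (q wm) a⁻¹ := by
      rw [hw0, hab, hzpm, ← zp_mul (vexp _), ← zp_mul (vexp _), mul_inv_cancel₀ ha, zp_one]
    rw [h1, map_zp, bvq, hfix]
  obtain ⟨β, hβ⟩ : ∃ β, β = b * a⁻¹ := ⟨_, rfl⟩
  rw [← hβ] at hw0
  by_cases hβ0 : β = 0
  · refine pair_aligned s d hhΓ hker fun g => ?_
    have := hw0fix g
    rw [hw0, hβ0, zp_zero, mul_one, bvq] at this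
    exact (cmiff _ _).2 this
  -- the motion of `e`
  have hμ : k ^ 2 ≠ 0 := pow_ne_zero 2 d.k0
  have hhx : q (h x) = zp (q x) (k ^ 2) := by
    have := (cmiff _ _).1 d.hx
    rw [map_pow] at this
    exact this
  have hhe : q (h e) = zp (q e) k⁻¹ := by
    have := (cmiff _ _).1 d.he
    rw [map_pow] at this
    exact this
  obtain ⟨c1, c2, hc12⟩ := vco (q (MulAut.conjNormal g0 e))
  have hT0 : bv (MulAut.conjNormal g0) (q e) = zp w0 c1 * zp (q e) (c2 - β * c1) := by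
    rw [bvq, hc12, hw0, hzpm, ← zp_mul (vexp _), mul_assoc, ← zp_add (vexp _),
      show β * c1 + (c2 - β * c1) = c2 by ring]
  obtain ⟨n, hn⟩ : ∃ n, n = c1 := ⟨_, rfl⟩
  obtain ⟨δ, hδ⟩ : ∃ δ, δ = c2 - β * c1 := ⟨_, rfl⟩
  rw [← hδ, ← hn] at hT0
  have w0exp : w0 ^ p = 1 := vexp _
  have hδ1 : δ = 1 := by
    obtain ⟨N, hN⟩ := conj_pow_eq_one (M := M) s.pgroup g0
    have hit : ∀ i : ℕ, ∃ n' : ZMod p,
        (bv (MulAut.conjNormal g0) ^ i) (q e) = zp w0 n' * zp (q e) (δ ^ i) := by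
      intro i
      induction i with
      | zero => exact ⟨0, by rw [pow_zero, MulAut.one_apply, pow_zero, zp_zero, zp_one, one_mul]⟩
      | succ i ih =>
        obtain ⟨n', hn'⟩ := ih
        refine ⟨n' + n * δ ^ i, ?_⟩
        rw [pow_succ', MulAut.mul_apply, hn', map_mul, map_zp, map_zp, hw0fix, hT0, hzpm,
          ← zp_mul w0exp, ← zp_mul (vexp _), ← pow_succ', zp_add w0exp, mul_assoc]
    obtain ⟨n', hn'⟩ := hit (p ^ N)
    rw [qAut_pow_eq_one _ _ _ hN, MulAut.one_apply, hw0, hzpm, ← zp_mul (vexp _), mul_assoc,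
      ← zp_add (vexp _), ZMod.pow_card_pow] at hn'
    have h1 : zp (q x) n' * zp (q e) (β * n' + δ + -1) = 1 := by
      rw [zp_add (vexp _) _ (-1 : ZMod p), zp_neg (vexp _), zp_one, ← mul_assoc, ← hn', mul_inv_cancel]
    obtain ⟨r1, r2⟩ := vind _ _ h1
    rw [r1, mul_zero, zero_add, ← sub_eq_add_neg, sub_eq_zero] at r2
    exact r2
  rw [hδ1, zp_one] at hT0
  have hn0 : n ≠ 0 := fun e0 => hg0 (hkerE' g0 (by
    rw [← bvq, hT0, e0, zp_zero, one_mul]))
  have hμk : k ^ 2 - k⁻¹ ≠ 0 := by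
    rw [sub_ne_zero]
    intro e0
    exact d.k3 (by rw [pow_succ, e0, inv_mul_cancel₀ d.k0])
  obtain ⟨i, hi⟩ : ∃ i : ℕ, (i : ZMod p) = k ^ 2 / (n * β * (k ^ 2 - k⁻¹)) :=
    ⟨_, ZMod.natCast_zmod_val _⟩
  obtain ⟨ψ, hψ⟩ : ∃ ψ, ψ = h * MulAut.conjNormal g0 ^ i * h⁻¹ := ⟨_, rfl⟩
  have hψΓ : ψ ∈ Γ := hψ ▸ mul_mem (mul_mem hhΓ (pow_mem (s.conj g0) i)) (inv_mem hhΓ)
  have hTi : bv (MulAut.conjNormal g0) w0 = w0 := hw0fix g0
  have hTie : (bv (MulAut.conjNormal g0) ^ i) (q e) = q e * zp w0 n ^ i :=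
    iterate_fixed (by rw [hT0, vcomm]) (by rw [map_zp, hTi]) i
  have hbvpow : ∀ (α : MulAut M) (m : ℕ) (a : M), (bv α ^ m) (q a) = q ((α ^ m) a) :=
    fun α m a => qAut_pow_apply _ _ _ m a
  have hTix : q ((MulAut.conjNormal g0 ^ i) x) = zp (q x) (1 - β * ((i : ZMod p) * n)) * zp (q e) (-(β * β * ((i : ZMod p) * n))) := by
    have h1 : q x = w0 * zp (q e) (-β) := by
      rw [hw0, mul_assoc, ← zp_add (vexp _), add_neg_cancel, zp_zero, mul_one]
    have h2 : ∀ m : ℕ, (bv (MulAut.conjNormal g0) ^ m) w0 = w0 := fun m => by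
      induction m with
      | zero => rfl
      | succ m ih => rw [pow_succ', MulAut.mul_apply, ih, hTi]
    have h3 : (bv (MulAut.conjNormal g0) ^ i) (q x) =
        zp w0 (1 + (i : ZMod p) * n * -β) * zp (q e) (-β) := by
      rw [h1, map_mul, h2, map_zp, hTie, hzpm, ← zp_natCast (vexp _) i, ← zp_mul w0exp, ← zp_mul w0exp,
        zp_add w0exp, zp_one, mul_assoc, ← mul_assoc n, mul_comm n (i : ZMod p), vcomm (zp (q e) (-β)), ← mul_assoc]
    rw [← hbvpow, h3, hw0, hzpm, mul_assoc, ← zp_mul (vexp _), ← zp_add (vexp _)]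
    congr 2 <;> ring
  have hψx : q (ψ x) = zp w0 (1 - β * ((i : ZMod p) * n)) := by
    have hhix : q (h⁻¹ x) = zp (q x) (k ^ 2)⁻¹ := by
      have h1 : bv h (zp (q x) (k ^ 2)⁻¹) = q x := by
        rw [map_zp, bvq, hhx, ← zp_mul (vexp _), mul_inv_cancel₀ hμ, zp_one]
      have h2 : bv h (q (h⁻¹ x)) = q x := by rw [bvq, MulAut.apply_inv_self]
      exact (bv h).injective (h2.trans h1.symm)
    rw [hψ, MulAut.mul_apply, MulAut.mul_apply, ← bvq, ← bvq, hhix, map_zp, bvq, hTix, map_zp, map_mul,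
      map_zp, map_zp, bvq, bvq, hhx, hhe, hw0, hzpm, hzpm, ← zp_mul (vexp _), ← zp_mul (vexp _),
      ← zp_mul (vexp _), ← zp_mul (vexp _), ← zp_mul (vexp _)]
    congr 1
    · congr 1
      linear_combination (1 - β * ((i : ZMod p) * n)) * (mul_inv_cancel₀ hμ)
    · congr 1
      have hA : (i : ZMod p) * (n * β * (k ^ 2 - k⁻¹)) = k ^ 2 := by
        rw [hi, div_mul_cancel₀ _ (mul_ne_zero (mul_ne_zero hn0 hβ0) hμk)]
      have hkc : k ^ 2 * k⁻¹ ^ 2 = 1 := by rw [← mul_pow, mul_inv_cancel₀ d.k0, one_pow]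
      linear_combination β * k⁻¹ ^ 2 * hA + (β - β ^ 2 * ((i : ZMod p) * n)) * hkc
  have hcm : (CM Φ z u).map ψ.toMonoidHom = CM Φ z u := d.cm_map ψ
  have hcm' : CM (Φ.map ψ.toMonoidHom) (ψ z) (ψ u) = CM Φ z u := by
    conv_rhs => rw [← hcm]
    rw [CM, CM, Subgroup.map_sup, MonoidHom.map_closure, Set.image_pair]
    rfl
  have hh' : (ψ.symm.trans h).trans ψ ∈ Γ := by
    have e1 : ((ψ.symm.trans h).trans ψ : MulAut M) = ψ * h * ψ⁻¹ := MulEquiv.ext fun m => rfl
    rw [e1]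
    exact mul_mem (mul_mem hψΓ hhΓ) (inv_mem hψΓ)
  refine pair_aligned s (d.map ψ) hh' (hcm'.symm ▸ hker) fun g => ?_
  rw [hcm', cmiff, ← bvq, hψx, map_zp, hw0fix]

end Cfsg.Agent.RankThreeEss
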