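import Cfsg.Agent.RankThreeEss.Lift
import Cfsg.Agent.RankThreeEss.PairB

/-!
An essential subgroup needing three generators is normal when the sectional rank is three.
-/

set_option autoImplicit false

namespace Cfsg.Agent.RankThreeEss

open Cfsg Cfsg.FusionSystem Cfsg.Agent.FusSys Subgroup

universe u

variable {p : ℕ} [hp : Fact p.Prime]
variable {Ω : Type u} [Group Ω] {S : Subgroup Ω} {F : FusionSystem S} {E : Subgroup Ω}

omit hp in
theorem sectional_of_injective {K Q : Type*} [Group K] [Group Q] (h : SectionalPRankLE p 3 Q)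
    (ι : K →* Q) (hι : Function.Injective ι) : SectionalPRankLE p 3 K :=
  fun H N _ => rank_of_injective h (ι.comp H.subtype) (hι.comp H.subtype_injective) N

/-- What the transvection case yields inside `M = N_S(E)`. -/
theorem pair_base [Finite S] (hp5 : 5 ≤ p) (hS : IsPGroup p S) (hF : F.IsSaturated p)
    (hfn : F.IsFullyNormalized E) (hES : E ≤ S) {x : normalizerIn S E}
    (hx : x ∉ E.subgroupOf (normalizerIn S E))
    (hidx : (E.subgroupOf (normalizerIn S E)).index = p)
    {e z u : ↥(E.subgroupOf (normalizerIn S E))} {τ' : MulAut ↥(E.subgroupOf (normalizerIn S E))}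
    {k' : ℕ} (hyp : EHyp p e z u) (hτ' : τ' ^ p ^ k' = 1)
    (xe : Cg (MulAut.conjNormal x e) (e * z)) (xz : Cg (MulAut.conjNormal x z) z)
    (xu : Cg (MulAut.conjNormal x u) u) (τe : Cg (τ' e) e) (τz : Cg (τ' z) (z * e))
    (τu : Cg (τ' u) u)
    (torus : ∀ k : ZMod p, k ≠ 0 → ∃ h ∈ F.autGroup E,
      (∀ γ ∈ autInducedBy S E, h * γ * h⁻¹ ∈ autInducedBy S E) ∧
      Cg (toN hES h e) (e ^ k⁻¹.val) ∧ Cg (toN hES h z) (z ^ k.val) ∧ Cg (toN hES h u) u) :
    ∃ (Φ : Subgroup ↥(normalizerIn S E)) (h : MulAut ↥(normalizerIn S E)) (k : ZMod p)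
      (x1 e1 z1 u1 : ↥(normalizerIn S E)),
      h ∈ F.autGroup (normalizerIn S E) ∧
      PairBase p (E.subgroupOf (normalizerIn S E)) Φ h k x1 e1 z1 u1 := by
  have hMS : normalizerIn S E ≤ S := inf_le_left
  haveI : Finite (normalizerIn S E) := finite_of_le hMS
  have hMp : IsPGroup p (normalizerIn S E) := hS.to_le hMS
  obtain ⟨n, hn⟩ := hMp x
  obtain ⟨lcs, ucent⟩ := hyp.pair (τ := MulAut.conjNormal x) (k := n)
    (by rw [← map_pow, hn, map_one]) hτ' xe xz xu τe τz τu
  obtain ⟨k, k0, k2, k3, k5⟩ := exists_scalar (p := p) hp5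
  obtain ⟨h0, hh0, hn0, he, hz, hu⟩ := torus k k0
  obtain ⟨h, hh, hhx⟩ := exists_extension hS hF hfn hh0 hn0
  have hcoe : ∀ a : ↥(E.subgroupOf (normalizerIn S E)),
      h (a : normalizerIn S E) = (toN hES h0 a : normalizerIn S E) := fun a =>
    Subtype.ext ((toN_coe hES h0 a).trans ((hhx _ a.2).symm.trans (apl_coe h _))).symm
  have cn : ∀ a b : ↥(E.subgroupOf (normalizerIn S E)), Cg a b →
      Cn ((frattini ↥(E.subgroupOf (normalizerIn S E))).map
        (E.subgroupOf (normalizerIn S E)).subtype) (a : normalizerIn S E) b :=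
    fun a b hab => ⟨a⁻¹ * b, hab, rfl⟩
  have d : PairData p (E.subgroupOf (normalizerIn S E)) h k x e z u :=
    { pgroup := hMp, five := hp5, index := hidx, not_mem := hx, hyp := hyp, xe := xe, xz := xz
      xu := xu, lcs := lcs, ucent := ucent, k0 := k0, k2 := k2, k3 := k3, k5 := k5
      hE := fun a ha => by rw [hcoe ⟨a, ha⟩]; exact SetLike.coe_mem _
      he := by rw [hcoe, ← SubmonoidClass.coe_pow]; exact cn _ _ he
      hz := by rw [hcoe, ← SubmonoidClass.coe_pow]; exact cn _ _ hz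
      hu := by rw [hcoe]; exact cn _ _ hu }
  obtain ⟨x1, j, d1, hj, hx1⟩ := d.normalise
  exact ⟨_, h, k, x1, e, z, u, hh, (d1.base hj hx1).1⟩

/-- Moving `M` to a fully normalized conjugate gives a contradiction unless `M = S`. -/
theorem pair_case [Finite S] (hp5 : 5 ≤ p) (hS : IsPGroup p S) (hF : F.IsSaturated p)
    (hsr : SectionalPRankLE p 3 S) (hfn : F.IsFullyNormalized E) (hES : E ≤ S)
    {Φ : Subgroup ↥(normalizerIn S E)} {h : MulAut ↥(normalizerIn S E)} {k : ZMod p}
    {x e z u : ↥(normalizerIn S E)} (hh : h ∈ F.autGroup (normalizerIn S E))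
    (d : PairBase p (E.subgroupOf (normalizerIn S E)) Φ h k x e z u) :
    normalizerIn S E = S := by
  have hMS : normalizerIn S E ≤ S := inf_le_left
  haveI : Finite (normalizerIn S E) := finite_of_le hMS
  obtain ⟨Q, φ, hQn, hφ, hφi, hφN⟩ := exists_fullyNormalized_mor hS hF hMS
  have hQS := hQn.1
  haveI := finite_of_le hQS
  have hNM : normalizerIn S (normalizerIn S E) ≤ S := inf_le_left
  by_cases htop : normalizerIn S Q = Q
  · refine eq_of_normalizerIn_eq hS hMS (eq_of_le_of_card hNM (le_normalizerIn hMS) ?_).symm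
    calc Nat.card ↥(normalizerIn S (normalizerIn S E)) ≤ Nat.card ↥(normalizerIn S Q) :=
          hQn.2 _ (isConj_symm hφi.isConj)
      _ = Nat.card Q := by rw [htop]
      _ = _ := hφi.card_eq.symm
  exfalso
  have hKS : normalizerIn S Q ≤ S := inf_le_left
  haveI : Finite (normalizerIn S Q) := finite_of_le hKS
  set K := normalizerIn S Q with hK
  set M := Q.subgroupOf K with hM
  set ψ : ↥(normalizerIn S E) ≃* M :=
    hφi.toEquiv.trans (subgroupOfEquivOfLe (le_normalizerIn hQS)).symm with hψ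
  have ψcoe : ∀ a : normalizerIn S E, ((ψ a : K) : Ω) = φ a := fun a => rfl
  set t := toN (S := S) (E := Q) hQS with ht
  have tinj : Function.Injective t :=
    (MulAut.congr (subgroupOfEquivOfLe (le_normalizerIn hQS)).symm).injective
  set Γ := (F.autGroup Q).map t with hΓ
  have hconj : ∀ g : K, MulAut.conjNormal g = t (Q.normalizerMonoidHom ⟨g, g.2.2⟩) :=
    conjNormal_eq_toN hQS
  have hind : ∀ g : K, Q.normalizerMonoidHom ⟨g, g.2.2⟩ ∈ autInducedBy S Q := fun g =>
    mem_autInducedBy_iff.2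
      ⟨g, g.2.1, g.2.2, fun a ha => apl_normalizerMonoidHom ⟨(g : Ω), g.2.2⟩ ha⟩
  have hof : ∀ γ ∈ autInducedBy S Q, ∃ g : K, MulAut.conjNormal g = t γ := fun γ hγ => by
    obtain ⟨g, hg, hgn, hgx⟩ := mem_autInducedBy_iff.1 hγ
    refine ⟨⟨g, hg, hgn⟩, ?_⟩
    rw [hconj]
    exact congrArg t (apl_ext fun a ha => by
      rw [hgx a ha]; exact apl_normalizerMonoidHom ⟨g, hgn⟩ ha)
  obtain ⟨-, R, hR⟩ := fullyAutomized_of_fullyNormalized hS hF hQn
  have s : AutSetting p M Γ :=
    { pgroup := hS.to_le hKS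
      five := hp5
      rank := sectional_of_injective hsr (Subgroup.inclusion hKS) (Subgroup.inclusion_injective hKS)
      ne_top := fun e0 => htop (le_antisymm (subgroupOf_eq_top.1 e0) (le_normalizerIn hQS))
      conj := fun g => ⟨_, autInducedBy_le_autGroup hQS (hind g), (hconj g).symm⟩
      sylow := fun W hW hWp hWc w hw => by
        obtain ⟨α, hα, rfl⟩ := hW hw
        have h1 : IsPGroup p ↥((W.comap t).subgroupOf (F.autGroup Q)) :=
          hWp.of_injective
            ({ toFun := fun a => ⟨t a.1.1, a.2⟩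
               map_one' := Subtype.ext (map_one t)
               map_mul' := fun a b => Subtype.ext (map_mul t a.1.1 b.1.1) } :
              ↥((W.comap t).subgroupOf (F.autGroup Q)) →* W)
            (fun a b hab => Subtype.ext (Subtype.ext (tinj (congrArg Subtype.val hab))))
        have h2 := R.is_maximal' h1 (fun γ hγ => by
          rw [hR, mem_subgroupOf] at hγ
          obtain ⟨g, hg⟩ := hof _ hγ
          rw [mem_subgroupOf, mem_comap, ← hg]
          exact hWc g)
        have h3 : (⟨α, hα⟩ : F.autGroup Q) ∈ (R : Subgroup (F.autGroup Q)) :=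
          h2 ▸ mem_subgroupOf.2 (mem_comap.2 hw)
        rw [hR, mem_subgroupOf] at h3
        exact hof α h3
      ext := fun a ha hnorm => by
        obtain ⟨α, hα, rfl⟩ := ha
        obtain ⟨f, hf, hfx⟩ := exists_extension hS hF hQn hα fun γ hγ => by
          obtain ⟨g, hg⟩ := hof γ hγ
          obtain ⟨g', hg'⟩ := hnorm g
          rw [hg, hconj g', ← map_mul, ← map_inv, ← map_mul] at hg'
          rw [tinj hg']
          exact hind g'
        refine ⟨f, fun m => Subtype.ext ?_⟩
        exact ((apl_coe f m).symm.trans (hfx _ m.2)).trans (toN_coe hQS α m).symm }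
  -- the image of `E`
  obtain ⟨R', hR'i, hR'Q⟩ := hφi.restrict (le_normalizerIn hES : E ≤ normalizerIn S E)
  have hQR : Q = normalizerIn S R' := by
    refine eq_of_le_of_card (inf_le_left) (fun y hy => ?_) ?_
    · obtain ⟨b, hb, rfl⟩ := hφi.exists_eq hy
      exact (hφi.1.mem_normalizerIn (le_normalizerIn hES) hR'i hb hb.2)
    · rw [← hφi.card_eq]
      exact hfn.2 _ hR'i.isConj
  have hh' : ((ψ.symm.trans h).trans ψ : MulAut M) ∈ Γ := by
    refine ⟨hφi.conjAut h, hφi.conjAut_mem hh, MulEquiv.ext fun m => ?_⟩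
    rfl
  refine pair_false s (d.map ψ) hh' fun g hg => ?_
  have hgN : (g : Ω) ∈ normalizerIn S R' := by
    haveI := finite_of_le hR'i.right_le
    refine ⟨g.2.1, mem_normalizer_fintype (S := (R' : Set Ω)) fun y hy => ?_⟩
    obtain ⟨a, ha, rfl⟩ := hR'i.exists_eq hy
    have h1 : (⟨a, le_normalizerIn hES ha⟩ : normalizerIn S E) ∈ E.subgroupOf (normalizerIn S E) :=
      mem_subgroupOf.2 ha
    obtain ⟨b, hb, hb'⟩ := hg _ (mem_map_of_mem ψ.toMonoidHom h1)
    have h2 := congrArg (fun m : M => ((m : K) : Ω)) hb'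
    simp only [MulEquiv.coe_toMonoidHom, ψcoe, MulAut.conjNormal_apply, Subgroup.coe_mul,
      Subgroup.coe_inv] at h2
    rw [← h2]
    exact hR'i.mem (mem_subgroupOf.1 hb)
  exact mem_subgroupOf.2 (hQR.symm ▸ hgN)

theorem normal_of_rank_three [Finite S] (hp5 : 5 ≤ p) (hS : IsPGroup p S) (hF : F.IsSaturated p)
    (hsr : SectionalPRankLE p 3 S) (hE : F.IsEssential p E)
    (hrk : (frattini E).index = p ^ 3) : S ≤ Subgroup.normalizer (E : Set Ω) := by
  have hES : E ≤ S := hE.1.1
  obtain ⟨x, hx, hidx, hsh⟩ := essential_shape hp5 hS hF hsr hE hrk hES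
  have key : normalizerIn S E = S := by
    rcases hsh with ⟨e, t, z, hyp, xe, xt, xz, irr⟩ |
      ⟨e, z, u, τ', k', hyp, hτ', -, xe, xz, xu, τe, τz, τu, torus⟩
    · exact reg_case hp5 hS hES hx hidx hyp xe xt xz irr
    · obtain ⟨Φ, h, k, x1, e1, z1, u1, hh, d⟩ :=
        pair_base hp5 hS hF hE.2.1 hES hx hidx hyp hτ' xe xz xu τe τz τu torus
      exact pair_case hp5 hS hF hsr hE.2.1 hES hh d
  exact key.ge.trans inf_le_right

end Cfsg.Agent.RankThreeEss
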