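import Cfsg.Agent.RankThreeEss.PairV

/-!
The transvection case: the action of the normalizer of `M` in the aligned case.
-/

set_option autoImplicit false

namespace Cfsg.Agent.RankThreeEss

open Subgroup
open scoped commutatorElement

variable {p : ℕ} [hp : Fact p.Prime] {K : Type*} [Group K] [Finite K] {M : Subgroup K}

/-- What is used about the group of automorphisms of `M`. -/
structure AutSetting (p : ℕ) (M : Subgroup K) [M.Normal] (Γ : Subgroup (MulAut M)) : Prop where
  pgroup : IsPGroup p K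
  five : 5 ≤ p
  rank : SectionalPRankLE p 3 K
  ne_top : M ≠ ⊤
  conj : ∀ g : K, MulAut.conjNormal g ∈ Γ
  sylow : ∀ W : Subgroup (MulAut M), W ≤ Γ → IsPGroup p W → (∀ g : K, MulAut.conjNormal g ∈ W) →
    ∀ w ∈ W, ∃ g : K, MulAut.conjNormal g = w
  ext : ∀ a ∈ Γ, (∀ g : K, ∃ g' : K, a * MulAut.conjNormal g * a⁻¹ = MulAut.conjNormal g') →
    ∃ f : MulAut K, ∀ m : M, f m = a m

omit hp in
theorem iterate_fixed {V : Type*} [Group V] {α : MulAut V} {a w : V} (ha : α a = a * w) (hw : α w = w)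
    (n : ℕ) : (α ^ n) a = a * w ^ n := by
  induction n with
  | zero => simp
  | succ n ih => rw [pow_succ', MulAut.mul_apply, ih, map_mul, map_pow, ha, hw, mul_assoc, ← pow_succ']

omit [Finite K] in
theorem qAut_pow_apply {X : Type*} [Group X] [Finite X] (N : Subgroup X) [N.Normal] (α : MulAut X)
    (hN : N.map α.toMonoidHom = N) (n : ℕ) (g : X) :
    (qAut N α hN ^ n) (QuotientGroup.mk' N g) = QuotientGroup.mk' N ((α ^ n) g) := by
  induction n with
  | zero => rfl
  | succ n ih => rw [pow_succ', MulAut.mul_apply, ih, qAut_mk, pow_succ', MulAut.mul_apply]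

variable [hMn : M.Normal]

theorem conj_pow_eq_one (hK : IsPGroup p K) (g : K) :
    ∃ n : ℕ, (MulAut.conjNormal g : MulAut M) ^ p ^ n = 1 := by
  obtain ⟨n, hn⟩ := hK g
  exact ⟨n, by rw [← map_pow, hn, map_one]⟩

theorem exists_outside {Γ : Subgroup (MulAut M)} (s : AutSetting p M Γ) :
    ∃ g : K, g ∉ M ∧ g ^ p ∈ M := by
  haveI : Nontrivial (K ⧸ M) := QuotientGroup.nontrivial_iff.2 s.ne_top
  obtain ⟨n, hn⟩ := IsPGroup.iff_card.1 (s.pgroup.to_quotient M)
  have hd : p ∣ Nat.card (K ⧸ M) := by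
    rw [hn]
    refine dvd_pow_self p ?_
    rintro rfl
    have h1 := Finite.one_lt_card (α := K ⧸ M)
    rw [hn, pow_zero] at h1
    exact lt_irrefl _ h1
  obtain ⟨y, hy⟩ := exists_prime_orderOf_dvd_card' p hd
  obtain ⟨g, rfl⟩ := QuotientGroup.mk_surjective y
  refine ⟨g, fun hg => ?_, (QuotientGroup.eq_one_iff _).1 ?_⟩
  · rw [(QuotientGroup.eq_one_iff g).2 hg, orderOf_one] at hy
    exact hp.out.one_lt.ne hy
  · rw [QuotientGroup.mk_pow, ← hy, pow_orderOf_eq_one]

variable {Γ : Subgroup (MulAut M)} {E Φ : Subgroup M} {h : MulAut M} {k : ZMod p} {x e z u : M}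

/-- The action of `K` in the aligned case. -/
theorem aligned_facts (s : AutSetting p M Γ) (d : PairBase p E Φ h k x e z u) [Φ.Normal]
    [(CM Φ z u).Normal] (al : ∀ g : K, Cn (CM Φ z u) (MulAut.conjNormal g x) x) :
    (∀ g : K, QuotientGroup.mk' (CM Φ z u) (MulAut.conjNormal g x) = QuotientGroup.mk' (CM Φ z u) x) ∧
    (∀ g : K, ∃ sg : ZMod p, QuotientGroup.mk' (CM Φ z u) (MulAut.conjNormal g e) =
      QuotientGroup.mk' (CM Φ z u) e * zp (QuotientGroup.mk' (CM Φ z u) x) sg) ∧
    (∀ g : K, QuotientGroup.mk' Φ (MulAut.conjNormal g z) = QuotientGroup.mk' Φ z) ∧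
    ∀ g : K, ∃ w ∈ zpowers (QuotientGroup.mk' Φ z),
      QuotientGroup.mk' Φ (MulAut.conjNormal g u) = QuotientGroup.mk' Φ u * w := by
  haveI : NeZero p := ⟨hp.out.ne_zero⟩
  have hMp : IsPGroup p M := s.pgroup.to_subgroup M
  set π := QuotientGroup.mk' Φ with hπd
  have hπ : Function.Surjective π := QuotientGroup.mk'_surjective Φ
  have hΦm : ∀ α : MulAut M, Φ.map α.toMonoidHom = Φ := fun α => by
    refine eq_of_le_of_card_ge ?_ ?_
    · rintro _ ⟨m, hm, rfl⟩; exact d.char α m hm
    · rw [card_map_of_injective (f := α.toMonoidHom) α.injective]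
  set q := QuotientGroup.mk' (CM Φ z u) with hqd
  have hqs : Function.Surjective q := QuotientGroup.mk'_surjective _
  obtain ⟨vcomm, vexp, vco, vind⟩ := d.v_facts q hqs (QuotientGroup.ker_mk' _)
  have hcc := d.class_two
  obtain ⟨zc, uc⟩ := d.central_q
  have yexp := d.exp_q
  set bv := fun α : MulAut M => qAut (CM Φ z u) α (d.cm_map α) with hbv
  set by_ := fun α : MulAut M => qAut Φ α (hΦm α) with hby
  have bvq : ∀ (α : MulAut M) (m : M), bv α (q m) = q (α m) := fun α m => qAut_mk _ _ _ m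
  have byq : ∀ (α : MulAut M) (m : M), by_ α (π m) = π (α m) := fun α m => qAut_mk _ _ _ m
  -- the subgroup `⟨z⟩ Φ`
  set Z0 := closure ({z} : Set M) ⊔ Φ with hZ0
  have hZcomap : Z0 = (zpowers (π z)).comap π := by
    rw [zpowers_eq_closure, ← Set.image_singleton, ← MonoidHom.map_closure, comap_map_eq, hπd,
      QuotientGroup.ker_mk']
  have z0iff : ∀ a b : M, Cn Z0 a b ↔ ∃ w ∈ zpowers (π z), π b = π a * w := fun a b => by
    rw [Cn, hZcomap, mem_comap, map_mul, map_inv]
    exact ⟨fun hh => ⟨_, hh, (mul_inv_cancel_left _ _).symm⟩,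
      fun ⟨w, hw, e1⟩ => by rw [e1, inv_mul_cancel_left]; exact hw⟩
  have cmiff : ∀ a b : M, Cn (CM Φ z u) a b ↔ q a = q b := fun a b => QuotientGroup.eq.symm
  have pord : ∀ g : K, ∃ n : ℕ, (MulAut.conjNormal g : MulAut M) ^ p ^ n = 1 :=
    conj_pow_eq_one s.pgroup
  have alq : ∀ g : K, q (MulAut.conjNormal g x) = q x := fun g => (cmiff _ _).1 (al g)
  have conjV : ∀ g : K, ∃ sg : ZMod p, q (MulAut.conjNormal g e) = q e * zp (q x) sg := by
    intro g
    obtain ⟨a, b, hab⟩ := vco (q (MulAut.conjNormal g e))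
    obtain ⟨n, hn⟩ := pord g
    refine ⟨a, ?_⟩
    have hfix : ∀ c : ZMod p, bv (MulAut.conjNormal g) (zp (q x) c) = zp (q x) c := fun c => by
      rw [map_zp, bvq, alq]
    have hit : ∀ i : ℕ, ∃ a' : ZMod p,
        (bv (MulAut.conjNormal g) ^ i) (q e) = zp (q x) a' * zp (q e) (b ^ i) := by
      intro i
      induction i with
      | zero => exact ⟨0, by rw [pow_zero, MulAut.one_apply, pow_zero, zp_zero, zp_one, one_mul]⟩
      | succ i ih =>
        obtain ⟨a', ha'⟩ := ih
        refine ⟨a' + a * b ^ i, ?_⟩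
        rw [pow_succ', MulAut.mul_apply, ha', map_mul, hfix, map_zp, bvq, hab,
          show zp (zp (q x) a * zp (q e) b) (b ^ i) = zp (q x) (a * b ^ i) * zp (q e) (b ^ (i + 1)) by
            rw [zp, (show Commute (zp (q x) a) (zp (q e) b) from vcomm _ _).mul_pow, ← zp, ← zp,
              ← zp_mul (vexp _), ← zp_mul (vexp _), ← pow_succ'],
          zp_add (vexp _), mul_assoc]
    obtain ⟨a', ha'⟩ := hit (p ^ n)
    rw [qAut_pow_eq_one _ _ _ hn, MulAut.one_apply] at ha'
    have hb : b = 1 := by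
      have h1 : zp (q x) a' * zp (q e) (b ^ p ^ n + -1) = 1 := by
        rw [zp_add (vexp _), zp_neg (vexp _), zp_one, ← mul_assoc, ← ha', mul_inv_cancel]
      have := (vind _ _ h1).2
      rw [ZMod.pow_card_pow, ← sub_eq_add_neg, sub_eq_zero] at this
      exact this
    rw [hab, hb, zp_one, vcomm]
  have conjZ : ∀ g : K, π (MulAut.conjNormal g z) = π z := by
    intro g
    obtain ⟨sg, hsg⟩ := conjV g
    have c1 : ∃ c ∈ cen Φ z u, π (MulAut.conjNormal g x) = π x * c := by
      refine ⟨_, ?_, (mul_inv_cancel_left _ _).symm⟩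
      rw [← map_inv, ← map_mul, ← d.mem_cm_iff]
      exact QuotientGroup.eq.1 (alq g).symm
    have c2 : ∃ c ∈ cen Φ z u, π (MulAut.conjNormal g e) = π e * zp (π x) sg * c := by
      refine ⟨_, ?_, (mul_inv_cancel_left _ _).symm⟩
      rw [← map_zp, ← map_mul, ← map_inv, ← map_mul, ← d.mem_cm_iff]
      refine QuotientGroup.eq.1 ?_
      show q (e * zp x sg) = q _
      rw [map_mul, map_zp, hsg]
    obtain ⟨cx, hcx, ex⟩ := c1
    obtain ⟨ce, hce, ee⟩ := c2
    have hz' : π z = π ⁅x, e⁆ := by rw [map_commutatorElement]; exact d.xe_q.symm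
    rw [← byq, hz', byq, map_commutatorElement, map_commutatorElement, ex, ee,
      comm_mul_central_left _ _ (fun g => (mem_center_iff.1 (d.cen_le_center hcx) g).symm),
      comm_mul_central_right _ _ (fun g => (mem_center_iff.1 (d.cen_le_center hce) g).symm),
      hcc.mul_right, zp, hcc.pow_right, commutatorElement_self, one_pow, mul_one,
      ← map_commutatorElement]
  have conjU : ∀ g : K, ∃ w ∈ zpowers (π z), π (MulAut.conjNormal g u) = π u * w := by
    intro g
    haveI hZn : Z0.Normal := by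
      haveI : (zpowers (π z)).Normal := ⟨fun n hn g => by
        obtain ⟨i, rfl⟩ := mem_zpowers_iff.1 hn
        rw [← ((show Commute (π z) g from zc g).zpow_left i).eq, mul_inv_cancel_right]
        exact zpow_mem (mem_zpowers _) i⟩
      rw [hZcomap]; infer_instance
    have hZm : Z0.map (MulAut.conjNormal g : MulAut M).toMonoidHom = Z0 := by
      refine eq_of_le_of_card_ge ?_ ?_
      · rintro _ ⟨m, hm, rfl⟩; exact d.z0_invariant _ hm
      · rw [card_map_of_injective (f := (MulAut.conjNormal g : MulAut M).toMonoidHom)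
          (MulEquiv.injective _)]
    obtain ⟨n, hn⟩ := pord g
    have hu : (QuotientGroup.mk' Z0 u) ^ p = 1 := by
      rw [← map_pow, QuotientGroup.mk'_apply, QuotientGroup.eq_one_iff]
      exact mem_sup_right (d.powers u)
    have key := fix_of_zpowers (qAut_pow_eq_one Z0 _ hZm hn) hu (by
      rw [qAut_mk]
      have hm : MulAut.conjNormal g u ∈ CM Φ z u :=
        d.cen_invariant _ (mem_sup_left (subset_closure (by simp)))
      rw [d.mem_cm_iff] at hm
      obtain ⟨c, w, hcw⟩ := d.cen_coord hm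
      have e1 : QuotientGroup.mk' Z0 (MulAut.conjNormal g u) = QuotientGroup.mk' Z0 u ^ w.val := by
        rw [← map_pow, QuotientGroup.mk'_apply, QuotientGroup.mk'_apply, QuotientGroup.eq, hZcomap,
          mem_comap, map_mul, map_inv, map_pow, hcw, mul_inv_rev, mul_assoc]
        rw [show (zp (π u) w)⁻¹ * ((zp (π z) c)⁻¹ * π u ^ w.val) = (zp (π z) c)⁻¹ by
          rw [(show Commute (zp (π z) c) (π u ^ w.val) from
              (show Commute (π z) (π u ^ w.val) from zc _).pow_left _).inv_left.eq,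
            show zp (π u) w = π u ^ w.val from rfl, inv_mul_cancel_left]]
        exact inv_mem (pow_mem (mem_zpowers _) _)
      rw [e1]
      exact pow_mem (mem_zpowers _) _)
    rw [qAut_mk] at key
    exact (z0iff _ _).1 (QuotientGroup.eq.1 key.symm)
  exact ⟨alq, conjV, conjZ, conjU⟩

/-- The aligned case: `h` extends to `K`. -/
theorem aligned_ext (s : AutSetting p M Γ) (d : PairBase p E Φ h k x e z u) [Φ.Normal]
    [(CM Φ z u).Normal] (hhΓ : h ∈ Γ) (al : ∀ g : K, Cn (CM Φ z u) (MulAut.conjNormal g x) x) :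
    ∃ f : MulAut K, ∀ m : M, f m = h m := by
  haveI : NeZero p := ⟨hp.out.ne_zero⟩
  have hMp : IsPGroup p M := s.pgroup.to_subgroup M
  set π := QuotientGroup.mk' Φ with hπd
  have hπ : Function.Surjective π := QuotientGroup.mk'_surjective Φ
  have hΦm : ∀ α : MulAut M, Φ.map α.toMonoidHom = Φ := fun α => by
    refine eq_of_le_of_card_ge ?_ ?_
    · rintro _ ⟨m, hm, rfl⟩; exact d.char α m hm
    · rw [card_map_of_injective (f := α.toMonoidHom) α.injective]
  set q := QuotientGroup.mk' (CM Φ z u) with hqd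
  have hqs : Function.Surjective q := QuotientGroup.mk'_surjective _
  obtain ⟨vcomm, vexp, vco, vind⟩ := d.v_facts q hqs (QuotientGroup.ker_mk' _)
  have hcc := d.class_two
  obtain ⟨zc, uc⟩ := d.central_q
  have yexp := d.exp_q
  set bv := fun α : MulAut M => qAut (CM Φ z u) α (d.cm_map α) with hbv
  set by_ := fun α : MulAut M => qAut Φ α (hΦm α) with hby
  have bvq : ∀ (α : MulAut M) (m : M), bv α (q m) = q (α m) := fun α m => qAut_mk _ _ _ m
  have byq : ∀ (α : MulAut M) (m : M), by_ α (π m) = π (α m) := fun α m => qAut_mk _ _ _ m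
  -- the subgroup `⟨z⟩ Φ`
  set Z0 := closure ({z} : Set M) ⊔ Φ with hZ0
  have hZcomap : Z0 = (zpowers (π z)).comap π := by
    rw [zpowers_eq_closure, ← Set.image_singleton, ← MonoidHom.map_closure, comap_map_eq, hπd,
      QuotientGroup.ker_mk']
  have z0iff : ∀ a b : M, Cn Z0 a b ↔ ∃ w ∈ zpowers (π z), π b = π a * w := fun a b => by
    rw [Cn, hZcomap, mem_comap, map_mul, map_inv]
    exact ⟨fun hh => ⟨_, hh, (mul_inv_cancel_left _ _).symm⟩,
      fun ⟨w, hw, e1⟩ => by rw [e1, inv_mul_cancel_left]; exact hw⟩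
  have cmiff : ∀ a b : M, Cn (CM Φ z u) a b ↔ q a = q b := fun a b => QuotientGroup.eq.symm
  -- the subgroup `X1`
  set Xv := zpowers (q x) with hXv
  set W : Subgroup (MulAut M) :=
    { carrier := {α | α ∈ Γ ∧ q (α x) = q x ∧ (∀ v : M ⧸ CM Φ z u, v⁻¹ * bv α v ∈ Xv) ∧
        ∃ w ∈ zpowers (π z), π (α u) = π u * w}
      one_mem' := ⟨one_mem _, rfl, fun v => by
        obtain ⟨v, rfl⟩ := hqs v
        rw [bvq, MulAut.one_apply, inv_mul_cancel]; exact one_mem _, 1, one_mem _, by simp⟩
      mul_mem' := by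
        rintro α β ⟨a1, a2, a3, wa, hwa, a4⟩ ⟨b1, b2, b3, wb, hwb, b4⟩
        refine ⟨mul_mem a1 b1, ?_, fun v => ?_, ?_⟩
        · rw [MulAut.mul_apply, ← bvq, b2, bvq, a2]
        · have e1 : bv (α * β) v = bv α (bv β v) := by
            obtain ⟨v, rfl⟩ := hqs v
            rw [bvq, bvq, bvq, MulAut.mul_apply]
          have e2 : v⁻¹ * bv (α * β) v = v⁻¹ * bv β v * ((bv β v)⁻¹ * bv α (bv β v)) := by
            rw [e1]; group
          rw [e2]; exact mul_mem (b3 v) (a3 _)
        · refine ⟨wa * by_ α wb, mul_mem hwa ?_, ?_⟩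
          · obtain ⟨n, rfl⟩ := mem_zpowers_iff.1 hwb
            rw [map_zpow, byq]
            refine zpow_mem ?_ n
            have h1 : α z ∈ Z0 := d.z0_invariant α (mem_sup_left (subset_closure rfl))
            rwa [hZcomap] at h1
          · rw [MulAut.mul_apply, ← byq, b4, map_mul, byq, a4, mul_assoc]
      inv_mem' := by
        rintro α ⟨a1, a2, a3, wa, hwa, a4⟩
        refine ⟨inv_mem a1, ?_, fun v => ?_, ?_⟩
        · have := congrArg (bv α⁻¹) a2
          rw [bvq, bvq, MulAut.inv_apply_self] at this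
          exact this.symm
        · obtain ⟨v, rfl⟩ := hqs v
          have := inv_mem (a3 (q (α⁻¹ v)))
          rw [bvq, MulAut.apply_inv_self, mul_inv_rev, inv_inv] at this
          rwa [bvq]
        · refine ⟨by_ α⁻¹ wa⁻¹, ?_, ?_⟩
          · obtain ⟨n, hn⟩ := mem_zpowers_iff.1 (inv_mem hwa)
            rw [← hn, map_zpow, byq]
            refine zpow_mem ?_ n
            have h1 : α⁻¹ z ∈ Z0 := d.z0_invariant α⁻¹ (mem_sup_left (subset_closure rfl))
            rwa [hZcomap] at h1
          · have := congrArg (by_ α⁻¹) a4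
            rw [byq, MulAut.inv_apply_self, map_mul, byq] at this
            rw [map_inv, eq_mul_inv_iff_mul_eq, ← this] } with hW
  have hWp : IsPGroup p W := by
    have trivial_of : ∀ δ ∈ W, (orderOf δ).Coprime p → δ = 1 := by
      rintro δ ⟨-, d2, d3, wu, hwu, d4⟩ hco
      have hm0 : (orderOf δ : ZMod p) ≠ 0 := fun e0 => hp.out.ne_one (Nat.eq_one_of_dvd_coprimes hco
        ((ZMod.natCast_eq_zero_iff _ p).1 e0) dvd_rfl)
      have itv : ∀ v w, bv δ v = v * w → bv δ w = w → w = 1 := fun v w h1 h2 => by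
        have h3 := iterate_fixed h1 h2 (orderOf δ)
        have h4 : bv δ ^ orderOf δ = 1 := qAut_pow_eq_one _ _ _ (pow_orderOf_eq_one δ)
        rw [h4, MulAut.one_apply, left_eq_mul] at h3
        exact eq_one_of_pow_eq (vexp w) (h3.trans (pow_zero w).symm) (by rwa [Nat.cast_zero])
      have dve : q (δ e) = q e := by
        have h1 := d3 (q e)
        rw [bvq] at h1
        obtain ⟨n, hn⟩ := mem_zpowers_iff.1 h1
        have h2 : (q e)⁻¹ * q (δ e) = 1 := by
          refine itv (q e) _ ?_ ?_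
          · rw [bvq, mul_inv_cancel_left]
          · rw [← hn, map_zpow, bvq, d2]
        exact (inv_mul_eq_one.1 h2).symm
      have ity : ∀ v w, by_ δ v = v * w → by_ δ w = w → w = 1 := fun v w h1 h2 => by
        have h3 := iterate_fixed h1 h2 (orderOf δ)
        have h4 : by_ δ ^ orderOf δ = 1 := qAut_pow_eq_one _ _ _ (pow_orderOf_eq_one δ)
        rw [h4, MulAut.one_apply, left_eq_mul] at h3
        exact eq_one_of_pow_eq (yexp w) (h3.trans (pow_zero w).symm) (by rwa [Nat.cast_zero])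
      have cenOf : ∀ a : M, q (δ a) = q a → ∃ c ∈ cen Φ z u, by_ δ (π a) = π a * c := fun a ha => by
        refine ⟨(π a)⁻¹ * π (δ a), ?_, by rw [byq, mul_inv_cancel_left]⟩
        rw [← map_inv, ← map_mul, ← d.mem_cm_iff]
        exact QuotientGroup.eq.1 ha.symm
      obtain ⟨cx, hcx, ex⟩ := cenOf x d2
      obtain ⟨ce, hce, ee⟩ := cenOf e dve
      have ez : by_ δ (π z) = π z := by
        rw [← d.xe_q, map_commutatorElement, ex, ee,
          comm_mul_central_left _ _ (fun g => (mem_center_iff.1 (d.cen_le_center hcx) g).symm),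
          comm_mul_central_right _ _ (fun g => (mem_center_iff.1 (d.cen_le_center hce) g).symm)]
      have eu : by_ δ (π u) = π u := by
        rw [byq, d4]
        have : wu = 1 := ity (π u) wu (by rw [byq, d4]) (by
          obtain ⟨n, rfl⟩ := mem_zpowers_iff.1 hwu
          rw [map_zpow, ez])
        rw [this, mul_one]
      have fixc : ∀ c ∈ cen Φ z u, by_ δ c = c := fun c hc => by
        obtain ⟨a, b, rfl⟩ := d.cen_coord hc
        rw [map_mul, map_zp, map_zp, ez, eu]
      rw [ity _ _ ex (fixc cx hcx), mul_one] at ex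
      rw [ity _ _ ee (fixc ce hce), mul_one] at ee
      have trivΦ : ∀ m : M, by_ δ (π m) = π m := by
        intro m
        obtain ⟨⟨a, b, c, w⟩, hm⟩ := d.surj (π m)
        rw [← hm]
        simp only [coordEl, map_mul, map_zp]
        rw [← hπd, ex, ee, ez, eu]
      obtain ⟨n, hn⟩ := IsPGroup.iff_card.1 hMp
      obtain ⟨r, -, hr⟩ := (Nat.dvd_prime_pow hp.out).1 (hn ▸ (frattini M).index_dvd_card)
      have hdvd := FGS.card_dvd_of_trivial_on_frattini_quotient hn hr (zpowers δ) (fun α hα m => by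
        have h1 : ∀ m : M, π (δ m) = π m := fun m => by rw [← byq]; exact trivΦ m
        obtain ⟨i, rfl⟩ := (isOfFinOrder_of_finite δ).mem_powers_iff_mem_zpowers.2 hα
        have h2 : π ((δ ^ i) m) = π m := by
          clear hα
          induction i with
          | zero => rfl
          | succ i ih => rw [pow_succ', MulAut.mul_apply, h1, ih]
        refine d.le_frattini ?_
        rw [← QuotientGroup.eq_one_iff, ← QuotientGroup.mk'_apply, map_mul, map_inv, ← hπd, h2,
          mul_inv_cancel])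
      rw [Nat.card_zpowers] at hdvd
      exact orderOf_eq_one_iff.1 (Nat.eq_one_of_dvd_coprimes (Nat.Coprime.pow_right _ hco) dvd_rfl hdvd)
    haveI : Finite (MulAut M) := Finite.of_injective _ MulEquiv.toEquiv_injective
    rintro ⟨δ, hδ⟩
    obtain ⟨i, m, hm, hn⟩ := Nat.exists_eq_pow_mul_and_not_dvd (orderOf_pos δ).ne' p hp.out.ne_one
    refine ⟨i, Subtype.ext ?_⟩
    show δ ^ p ^ i = 1
    refine trivial_of _ (pow_mem hδ _) (Nat.Coprime.coprime_dvd_left
      (orderOf_dvd_of_pow_eq_one (x := δ ^ p ^ i) ?_) ((Nat.Prime.coprime_iff_not_dvd hp.out).2 hm).symm)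
    rw [← pow_mul, ← hn, pow_orderOf_eq_one]
  obtain ⟨alq, conjV, conjZ, conjU⟩ := aligned_facts s d al
  rw [← hπd] at conjZ conjU
  rw [← hqd] at alq conjV
  have conjW : ∀ g : K, MulAut.conjNormal g ∈ W := fun g => by
    refine ⟨s.conj g, alq g, fun v => ?_, conjU g⟩
    obtain ⟨a, b, rfl⟩ := vco v
    obtain ⟨sg, hsg⟩ := conjV g
    rw [map_mul, map_zp, map_zp, bvq, bvq, alq, hsg,
      show zp (q e * zp (q x) sg) b = zp (q e) b * zp (zp (q x) sg) b from
        (show Commute (q e) (zp (q x) sg) from vcomm _ _).mul_pow _,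
      ← mul_assoc (zp (q x) a), inv_mul_cancel_left]
    exact pow_mem (pow_mem (mem_zpowers _) _) _
  -- the values of `h`
  have hhx : q (h x) = zp (q x) (k ^ 2) := by
    have := (cmiff _ _).1 d.hx
    rw [map_pow] at this
    exact this
  have hhe : q (h e) = zp (q e) k⁻¹ := by
    have := (cmiff _ _).1 d.he
    rw [map_pow] at this
    exact this
  have hμ : k ^ 2 ≠ 0 := pow_ne_zero 2 d.k0
  have hhix : q (h⁻¹ x) = zp (q x) (k ^ 2)⁻¹ := by
    have h1 : bv h (zp (q x) (k ^ 2)⁻¹) = q x := by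
      rw [map_zp, bvq, hhx, ← zp_mul (vexp _), mul_inv_cancel₀ hμ, zp_one]
    have h2 : bv h (q (h⁻¹ x)) = q x := by rw [bvq, MulAut.apply_inv_self]
    exact (bv h).injective (h2.trans h1.symm)
  have hnormW : ∀ α ∈ W, h * α * h⁻¹ ∈ W := by
    rintro α ⟨a1, a2, a3, w, hw, a4⟩
    refine ⟨mul_mem (mul_mem hhΓ a1) (inv_mem hhΓ), ?_, fun v => ?_, ?_⟩
    · rw [MulAut.mul_apply, MulAut.mul_apply, ← bvq, ← bvq, hhix, map_zp, bvq, a2, map_zp, bvq, hhx,
        ← zp_mul (vexp _), mul_inv_cancel₀ hμ, zp_one]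
    · obtain ⟨v, rfl⟩ := hqs v
      rw [bvq, MulAut.mul_apply, MulAut.mul_apply]
      have h1 := a3 (q (h⁻¹ v))
      rw [bvq] at h1
      obtain ⟨n, hn⟩ := mem_zpowers_iff.1 h1
      have e1 : (q v)⁻¹ * q (h (α (h⁻¹ v))) = bv h ((q x) ^ n) := by
        rw [hn, map_mul, map_inv, bvq, bvq, MulAut.apply_inv_self]
      rw [e1, map_zpow, bvq, hhx]
      exact zpow_mem (pow_mem (mem_zpowers _) _) n
    · have hu' : ∀ β : MulAut M, (∃ w ∈ zpowers (π z), π (β u) = π u * w) ↔ Cn Z0 u (β u) :=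
        fun β => (z0iff _ _).symm
      rw [hu']
      have s1 : Cn Z0 u (h⁻¹ u) := by
        have h1 := inv_mem (d.z0_invariant h⁻¹ d.hu)
        rw [map_mul, map_inv, MulAut.inv_apply_self, mul_inv_rev, inv_inv] at h1
        have h2 := inv_mem h1
        rwa [mul_inv_rev, inv_inv] at h2
      have inv : ∀ (β : MulAut M) (a b : M), Cn Z0 a b → Cn Z0 (β a) (β b) := fun β a b hab => by
        rw [Cn, ← map_inv, ← map_mul]; exact d.z0_invariant β hab
      have trans : ∀ a b c : M, Cn Z0 a b → Cn Z0 b c → Cn Z0 a c := fun a b c h1 h2 => by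
        have := mul_mem h1 h2
        rwa [mul_assoc, mul_inv_cancel_left] at this
      have symm : ∀ a b : M, Cn Z0 a b → Cn Z0 b a := fun a b h1 => by
        have := inv_mem h1
        rwa [mul_inv_rev, inv_inv] at this
      rw [MulAut.mul_apply, MulAut.mul_apply]
      exact trans _ _ _ (symm _ _ d.hu) (inv h _ _
        (trans _ _ _ ((z0iff u (α u)).2 ⟨w, hw, a4⟩) (inv α _ _ s1)))
  exact s.ext h hhΓ fun g => by
    obtain ⟨g', hg'⟩ := s.sylow W (fun α hα => hα.1) hWp conjW _ (hnormW _ (conjW g))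
    exact ⟨g', hg'.symm⟩

end Cfsg.Agent.RankThreeEss
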