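import Cfsg.Agent.RankThreeEss.PairB1

/-!
The transvection case, aligned: an elementary abelian section of order `p ^ 4`.
-/

set_option autoImplicit false

namespace Cfsg.Agent.RankThreeEss

open Subgroup
open scoped commutatorElement

variable {p : ℕ} [hp : Fact p.Prime] {K : Type*} [Group K] [Finite K] {M : Subgroup K} [hMn : M.Normal]

set_option maxHeartbeats 800000 in
/-- The aligned case: every element fixes `x` modulo `⟨z, u⟩ Φ`. -/
theorem pair_aligned {Γ : Subgroup (MulAut M)} (s : AutSetting p M Γ) {E Φ : Subgroup M} {h : MulAut M}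
    {k : ZMod p} {x e z u : M} (d : PairBase p E Φ h k x e z u) (hhΓ : h ∈ Γ)
    (hker : ∀ g : K, (∀ m : M, Cn (CM Φ z u) (MulAut.conjNormal g m) m) → g ∈ M)
    (al : ∀ g : K, Cn (CM Φ z u) (MulAut.conjNormal g x) x) : False := by
  haveI := d.normal
  haveI := d.cm_normal
  haveI : NeZero p := ⟨hp.out.ne_zero⟩
  have hMp : IsPGroup p M := s.pgroup.to_subgroup M
  set π := QuotientGroup.mk' Φ with hπd
  have hπ : Function.Surjective π := QuotientGroup.mk'_surjective Φ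
  have hΦm : ∀ α : MulAut M, Φ.map α.toMonoidHom = Φ := fun α => by
    refine eq_of_le_of_card_ge ?_ ?_
    · rintro _ ⟨m, hm, rfl⟩; exact d.char α m hm
    · rw [card_map_of_injective (f := α.toMonoidHom) α.injective]
  set q := QuotientGroup.mk' (CM Φ z u) with hqd
  have hqs : Function.Surjective q := QuotientGroup.mk'_surjective _
  obtain ⟨vcomm, vexp, vco, vind⟩ := d.v_facts q hqs (QuotientGroup.ker_mk' _)
  have hcc := d.class_two
  obtain ⟨zc, uc⟩ := d.central_q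
  have yexp := d.exp_q
  set bv := fun α : MulAut M => qAut (CM Φ z u) α (d.cm_map α) with hbv
  set by_ := fun α : MulAut M => qAut Φ α (hΦm α) with hby
  have bvq : ∀ (α : MulAut M) (m : M), bv α (q m) = q (α m) := fun α m => qAut_mk _ _ _ m
  have byq : ∀ (α : MulAut M) (m : M), by_ α (π m) = π (α m) := fun α m => qAut_mk _ _ _ m
  -- the subgroup `⟨z⟩ Φ`
  set Z0 := closure ({z} : Set M) ⊔ Φ with hZ0
  have hZcomap : Z0 = (zpowers (π z)).comap π := by
    rw [zpowers_eq_closure, ← Set.image_singleton, ← MonoidHom.map_closure, comap_map_eq, hπd,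
      QuotientGroup.ker_mk']
  have z0iff : ∀ a b : M, Cn Z0 a b ↔ ∃ w ∈ zpowers (π z), π b = π a * w := fun a b => by
    rw [Cn, hZcomap, mem_comap, map_mul, map_inv]
    exact ⟨fun hh => ⟨_, hh, (mul_inv_cancel_left _ _).symm⟩,
      fun ⟨w, hw, e1⟩ => by rw [e1, inv_mul_cancel_left]; exact hw⟩
  have cmiff : ∀ a b : M, Cn (CM Φ z u) a b ↔ q a = q b := fun a b => QuotientGroup.eq.symm
  obtain ⟨alq, conjV, conjZ, conjU⟩ := aligned_facts s d al
  rw [← hπd] at conjZ conjU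
  rw [← hqd] at alq conjV
  -- the values of `h`
  have hhx : q (h x) = zp (q x) (k ^ 2) := by
    have := (cmiff _ _).1 d.hx
    rw [map_pow] at this
    exact this
  have hhe : q (h e) = zp (q e) k⁻¹ := by
    have := (cmiff _ _).1 d.he
    rw [map_pow] at this
    exact this
  have hμ : k ^ 2 ≠ 0 := pow_ne_zero 2 d.k0
  have hhix : q (h⁻¹ x) = zp (q x) (k ^ 2)⁻¹ := by
    have h1 : bv h (zp (q x) (k ^ 2)⁻¹) = q x := by
      rw [map_zp, bvq, hhx, ← zp_mul (vexp _), mul_inv_cancel₀ hμ, zp_one]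
    have h2 : bv h (q (h⁻¹ x)) = q x := by rw [bvq, MulAut.apply_inv_self]
    exact (bv h).injective (h2.trans h1.symm)
  obtain ⟨f, hf⟩ := aligned_ext s d hhΓ al
  -- the element outside `M`
  obtain ⟨g, hgM, hgp⟩ := exists_outside s
  obtain ⟨sg, hsg⟩ := conjV g
  have hsg0 : sg ≠ 0 := fun e0 => hgM (hker g fun m => by
    rw [cmiff, ← bvq]
    obtain ⟨a, b, hab⟩ := vco (q m)
    rw [hab, map_mul, map_zp, map_zp, bvq, bvq, alq, hsg, e0, zp_zero, mul_one])
  obtain ⟨j, hj⟩ : ∃ j : ℕ, (j : ZMod p) = k ^ 3 := ⟨_, ZMod.natCast_zmod_val _⟩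
  have hfM : ∀ m : M, f (m : K) ∈ M := fun m => by rw [hf]; exact SetLike.coe_mem _
  have hfg : f g * (g ^ j)⁻¹ ∈ M := by
    refine hker _ fun m => ?_
    have hc : (MulAut.conjNormal (f g) : MulAut M) = h * MulAut.conjNormal g * h⁻¹ := by
      refine MulEquiv.ext fun m => Subtype.ext ?_
      rw [MulAut.conjNormal_apply, MulAut.mul_apply, MulAut.mul_apply, ← hf, MulAut.conjNormal_apply,
        map_mul, map_mul, map_inv, hf, MulAut.apply_inv_self]
    have hgx : ∀ i : ℕ, q ((MulAut.conjNormal g ^ i) x) = q x ∧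
        q ((MulAut.conjNormal g ^ i) e) = q e * zp (q x) ((i : ZMod p) * sg) := fun i => by
      induction i with
      | zero => exact ⟨rfl, by rw [pow_zero, MulAut.one_apply, Nat.cast_zero, zero_mul, zp_zero, mul_one]⟩
      | succ i ih =>
        refine ⟨by rw [pow_succ', MulAut.mul_apply, ← bvq, ih.1, bvq, alq], ?_⟩
        rw [pow_succ', MulAut.mul_apply, ← bvq, ih.2, map_mul, map_zp, bvq, bvq, alq, hsg, mul_assoc,
          ← zp_add (vexp _), Nat.cast_succ, add_mul, one_mul, add_comm]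
    have key : ∀ a : M, q ((h * (MulAut.conjNormal g : MulAut M) * h⁻¹) a) = q ((MulAut.conjNormal g ^ j) a) := by
      have hhie : q (h⁻¹ e) = zp (q e) k := by
        have h1 : bv h (zp (q e) k) = q e := by
          rw [map_zp, bvq, hhe, ← zp_mul (vexp _), inv_mul_cancel₀ d.k0, zp_one]
        have h2 : bv h (q (h⁻¹ e)) = q e := by rw [bvq, MulAut.apply_inv_self]
        exact (bv h).injective (h2.trans h1.symm)
      intro a
      obtain ⟨a1, a2, ha⟩ := vco (q a)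
      rw [← bvq, ← bvq (MulAut.conjNormal g ^ j), ha, map_mul, map_mul, map_zp, map_zp, map_zp, map_zp,
        bvq, bvq, bvq, bvq, (hgx j).1, (hgx j).2, MulAut.mul_apply, MulAut.mul_apply, MulAut.mul_apply,
        MulAut.mul_apply]
      congr 1
      · congr 1
        rw [← bvq, ← bvq, hhix, map_zp, bvq, alq, map_zp, bvq, hhx, ← zp_mul (vexp _),
          mul_inv_cancel₀ hμ, zp_one]
      · congr 1
        rw [← bvq, ← bvq, hhie, map_zp, bvq, hsg, map_zp, map_mul, bvq, map_zp, bvq, hhe, hhx,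
          ← zp_mul (vexp _), zp, (show Commute (zp (q e) k⁻¹) (zp (q x) (k ^ 2 * sg)) from vcomm _ _).mul_pow,
          ← zp, ← zp, ← zp_mul (vexp _), ← zp_mul (vexp _), inv_mul_cancel₀ d.k0, zp_one, hj]
        congr 2
        ring
    rw [cmiff, map_mul MulAut.conjNormal, map_inv, map_pow, hc, MulAut.mul_apply, key,
      MulAut.apply_inv_self]
  obtain ⟨m0, hm0⟩ : ∃ m0 : M, f g = (m0 : K) * g ^ j :=
    ⟨⟨_, hfg⟩, (inv_mul_cancel_right _ _).symm⟩
  -- in `K / Φ`
  set ΦK := Φ.map M.subtype with hΦK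
  haveI : ΦK.Normal := by
    refine ⟨fun n hn g => ?_⟩
    obtain ⟨m, hm, rfl⟩ := hn
    exact ⟨MulAut.conjNormal g m, d.char _ m hm, MulAut.conjNormal_apply g m⟩
  set r := QuotientGroup.mk' ΦK with hrd
  set η : M ⧸ Φ →* K ⧸ ΦK := QuotientGroup.map Φ ΦK M.subtype
    (fun m hm => mem_map_of_mem _ hm) with hη
  have ηπ : ∀ m : M, η (π m) = r (m : K) := fun m => rfl
  have ηinj : Function.Injective η := by
    rw [← MonoidHom.ker_eq_bot_iff, eq_bot_iff]
    intro y hy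
    obtain ⟨m, rfl⟩ := hπ y
    rw [MonoidHom.mem_ker, ηπ, hrd, QuotientGroup.mk'_apply, QuotientGroup.eq_one_iff] at hy
    rw [mem_bot, hπd, QuotientGroup.mk'_apply, QuotientGroup.eq_one_iff]
    exact (mem_map_iff_mem M.subtype_injective).1 hy
  have hfΦ : ΦK.map f.toMonoidHom = ΦK := by
    refine eq_of_le_of_card_ge ?_ ?_
    · rintro _ ⟨_, ⟨m, hm, rfl⟩, rfl⟩
      exact ⟨h m, d.char h m hm, (hf m).symm⟩
    · rw [card_map_of_injective (f := f.toMonoidHom) f.injective]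
  set F := qAut ΦK f hfΦ with hF
  have Fr : ∀ a : K, F (r a) = r (f a) := fun a => qAut_mk _ _ _ a
  have Fη : ∀ y : M ⧸ Φ, F (η y) = η (by_ h y) := fun y => by
    obtain ⟨m, rfl⟩ := hπ y
    rw [ηπ, Fr, hf, byq, ηπ]
  obtain ⟨G, hG⟩ : ∃ y, y = r g := ⟨_, rfl⟩
  have conjη : ∀ (a : K) (y : M ⧸ Φ),
      r a * η y * (r a)⁻¹ = η (by_ (MulAut.conjNormal a) y) := fun a y => by
    obtain ⟨m, rfl⟩ := hπ y
    rw [byq, ηπ, ηπ, MulAut.conjNormal_apply, map_mul, map_mul, map_inv]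
  obtain ⟨Xq, hXq⟩ : ∃ y, y = η (π x) := ⟨_, rfl⟩
  obtain ⟨Eq', hEq⟩ : ∃ y, y = η (π e) := ⟨_, rfl⟩
  obtain ⟨Zq, hZq⟩ : ∃ y, y = η (π z) := ⟨_, rfl⟩
  obtain ⟨Uq, hUq⟩ : ∃ y, y = η (π u) := ⟨_, rfl⟩
  have ηexp : ∀ y, η y ^ p = 1 := fun y => by rw [← map_pow, d.exp_q, map_one]
  have Zc : ∀ w : K ⧸ ΦK, Zq * w = w * Zq := fun w => by
    obtain ⟨a, rfl⟩ := QuotientGroup.mk'_surjective ΦK w
    have := conjη a (π z)
    rw [byq, conjZ, ← hZq] at this
    exact (mul_inv_eq_iff_eq_mul.1 this).symm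
  have Zmem : ∀ w ∈ zpowers (π z), η w ∈ zpowers Zq ∧ ∀ v : K ⧸ ΦK, η w * v = v * η w := fun w hw => by
    obtain ⟨n, rfl⟩ := mem_zpowers_iff.1 hw
    rw [map_zpow, ← hZq]
    exact ⟨zpow_mem (mem_zpowers _) n, fun v => ((show Commute Zq v from Zc v).zpow_left n).eq⟩
  have Uη : ∀ y : M ⧸ Φ, Commute Uq (η y) := fun y => by
    rw [hUq, commute_iff_eq, ← map_mul, ← map_mul, uc]
  haveI hZn : (zpowers Zq).Normal := ⟨fun n hn w => by
    obtain ⟨i, rfl⟩ := mem_zpowers_iff.1 hn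
    rw [← ((show Commute Zq w from Zc w).zpow_left i).eq, mul_inv_cancel_right]
    exact zpow_mem (mem_zpowers _) i⟩
  have FG : F G = η (π m0) * G ^ j := by rw [hG, Fr, hm0, map_mul, map_pow, ← ηπ]
  have hjk : ∀ {y : K ⧸ ΦK} {c : ZMod p}, y ^ p = 1 → k ^ 3 ≠ c → y ^ j = zp y c → y = 1 :=
    fun {y c} hy hne e1 => eq_one_of_pow_eq hy e1 (by rwa [hj, ZMod.natCast_zmod_val])
  have FZ : F Zq = zp Zq k := by
    have hh : by_ h (π z) = zp (π z) k := by
      obtain ⟨c1, hc1, e1⟩ : ∃ c ∈ cen Φ z u, by_ h (π x) = zp (π x) (k ^ 2) * c := by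
        refine ⟨_, ?_, (mul_inv_cancel_left _ _).symm⟩
        rw [byq, ← map_zp, ← map_inv, ← map_mul, ← d.mem_cm_iff]
        have := inv_mem d.hx
        rwa [mul_inv_rev, inv_inv] at this
      obtain ⟨c2, hc2, e2⟩ : ∃ c ∈ cen Φ z u, by_ h (π e) = zp (π e) k⁻¹ * c := by
        refine ⟨_, ?_, (mul_inv_cancel_left _ _).symm⟩
        rw [byq, ← map_zp, ← map_inv, ← map_mul, ← d.mem_cm_iff]
        have := inv_mem d.he
        rwa [mul_inv_rev, inv_inv] at this
      have hxe' : ⁅π x, π e⁆ = π z := d.xe_q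
      rw [← hxe', map_commutatorElement, e1, e2,
        comm_mul_central_left _ _ (fun g => (mem_center_iff.1 (d.cen_le_center hc1) g).symm),
        comm_mul_central_right _ _ (fun g => (mem_center_iff.1 (d.cen_le_center hc2) g).symm),
        zp, zp, hcc.pow_left, hcc.pow_right, hxe', ← zp, ← zp, ← zp_mul (yexp _)]
      congr 1
      rw [pow_two, ← mul_assoc, inv_mul_cancel₀ d.k0, one_mul]
    rw [hZq, Fη, hh, map_zp]
  -- `g` centralises `u`
  have hGU : Commute G Uq := by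
    obtain ⟨w, hw, e1⟩ := conjU g
    have hy : G * Uq * G⁻¹ = Uq * η w := by
      rw [hG, hUq, conjη, byq, e1, map_mul]
    obtain ⟨hw1, hw2⟩ := Zmem w hw
    have hyF : F (η w) = zp (η w) k := by
      obtain ⟨n, hn⟩ := mem_zpowers_iff.1 hw1
      rw [← hn, map_zpow, FZ]
      rw [zp, zp, ← zpow_natCast, ← zpow_natCast, ← zpow_mul, ← zpow_mul, mul_comm]
    obtain ⟨wh, hwh, hu'⟩ : ∃ wh ∈ zpowers (π z), by_ h (π u) = π u * wh := by
      obtain ⟨wh, hwh, e2⟩ := (z0iff _ _).1 d.hu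
      refine ⟨wh⁻¹, inv_mem hwh, ?_⟩
      rw [byq, e2, mul_inv_cancel_right]
    obtain ⟨hwh1, hwh2⟩ := Zmem wh hwh
    have hyj : ∀ i : ℕ, G ^ i * Uq * (G ^ i)⁻¹ = Uq * η w ^ i := fun i => by
      induction i with
      | zero => simp
      | succ i ih =>
        calc G ^ (i + 1) * Uq * (G ^ (i + 1))⁻¹ = G * (G ^ i * Uq * (G ^ i)⁻¹) * G⁻¹ := by
              rw [pow_succ']; group
          _ = G * Uq * G⁻¹ * (G * η w ^ i * G⁻¹) := by rw [ih]; group
          _ = _ := by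
            rw [hy, ← ((show Commute (η w) G from hw2 G).pow_left i).eq, mul_inv_cancel_right,
              mul_assoc, ← pow_succ']
    have e3 := congrArg F hy
    rw [map_mul, map_mul, map_mul, map_inv, FG, hyF, hUq, Fη, hu', map_mul, ← hUq] at e3
    have e4 : η (π m0) * G ^ j * (Uq * η wh) * (η (π m0) * G ^ j)⁻¹ = Uq * η wh * η w ^ j := by
      calc η (π m0) * G ^ j * (Uq * η wh) * (η (π m0) * G ^ j)⁻¹
          = η (π m0) * ((G ^ j * Uq * (G ^ j)⁻¹) * (G ^ j * η wh * (G ^ j)⁻¹)) * (η (π m0))⁻¹ := by group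
        _ = η (π m0) * (Uq * η w ^ j * η wh) * (η (π m0))⁻¹ := by
          rw [hyj, ← hwh2 (G ^ j), mul_inv_cancel_right]
        _ = Uq * η w ^ j * η wh := by
          rw [(((Uη (π m0)).mul_left ((show Commute (η w) _ from hw2 _).pow_left j)).mul_left
            (show Commute (η wh) _ from hwh2 _)).eq.symm, mul_inv_cancel_right]
        _ = _ := by rw [mul_assoc, mul_assoc, (hwh2 _).symm]
    rw [e4] at e3
    have hw0 : η w = 1 := hjk (ηexp w) (fun e0 => d.k2 (mul_left_cancel₀ d.k0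
      (show k * k ^ 2 = k * 1 by rw [mul_one]; linear_combination e0))) (mul_left_cancel e3)
    rw [hw0, mul_one, mul_inv_eq_iff_eq_mul] at hy
    exact hy
  -- `g` moves `x` inside `⟨z⟩`
  obtain ⟨ηv, hηv, hGX⟩ : ∃ c : M ⧸ Φ, c ∈ zpowers (π z) ∧ G * Xq * G⁻¹ = Xq * η c := by
    obtain ⟨c, hc, e1⟩ : ∃ c ∈ cen Φ z u, π (MulAut.conjNormal g x) = π x * c := by
      refine ⟨_, ?_, (mul_inv_cancel_left _ _).symm⟩
      rw [← map_inv, ← map_mul, ← d.mem_cm_iff]
      exact QuotientGroup.eq.1 (alq g).symm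
    refine ⟨c, ?_, by rw [hG, hXq, conjη, byq, e1, map_mul]⟩
    obtain ⟨cz, cu, rfl⟩ := d.cen_coord hc
    set ρ := QuotientGroup.mk' (zpowers Zq) with hρ
    have ρz : ρ Zq = 1 := (QuotientGroup.eq_one_iff _).2 (mem_zpowers _)
    have ρη : ∀ a ∈ zpowers (π z), ρ (η a) = 1 := fun a ha => (QuotientGroup.eq_one_iff _).2 (Zmem a ha).1
    have hy : ρ G * ρ Xq * (ρ G)⁻¹ = ρ Xq * zp (ρ Uq) cu := by
      rw [← map_mul, ← map_inv, ← map_mul, hG, hXq, conjη, byq, e1, map_mul, map_mul, map_mul, map_mul,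
        map_zp, map_zp, map_zp, map_zp, ← hZq, ρz, ← hUq, ← hXq]
      simp [zp]
    have ρU : ∀ i : ℕ, Commute (ρ G ^ i) (ρ Uq) := fun i => (hGU.map ρ).pow_left i
    have hUexp : ρ Uq ^ p = 1 := by rw [← map_pow, hUq, ηexp, map_one]
    have hyj : ∀ i : ℕ, ρ G ^ i * ρ Xq * (ρ G ^ i)⁻¹ = ρ Xq * zp (ρ Uq) ((i : ZMod p) * cu) := fun i => by
      induction i with
      | zero => simp [zp_zero]
      | succ i ih =>
        calc ρ G ^ (i + 1) * ρ Xq * (ρ G ^ (i + 1))⁻¹
            = ρ G * (ρ G ^ i * ρ Xq * (ρ G ^ i)⁻¹) * (ρ G)⁻¹ := by rw [pow_succ']; group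
          _ = ρ G * ρ Xq * (ρ G)⁻¹ * (ρ G * zp (ρ Uq) ((i : ZMod p) * cu) * (ρ G)⁻¹) := by rw [ih]; group
          _ = _ := by
            rw [hy, (show Commute (ρ G) (zp (ρ Uq) ((i : ZMod p) * cu)) from
              (pow_one (ρ G) ▸ ρU 1 : Commute (ρ G) (ρ Uq)).pow_right _).eq, mul_inv_cancel_right,
              mul_assoc, ← zp_add hUexp, Nat.cast_succ, add_mul, one_mul, add_comm]
    -- apply `f`
    obtain ⟨c1, hc1, e2⟩ : ∃ c ∈ cen Φ z u, by_ h (π x) = zp (π x) (k ^ 2) * c := by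
      refine ⟨_, ?_, (mul_inv_cancel_left _ _).symm⟩
      rw [byq, ← map_zp, ← map_inv, ← map_mul, ← d.mem_cm_iff]
      have := inv_mem d.hx
      rwa [mul_inv_rev, inv_inv] at this
    obtain ⟨wh, hwh, hu'⟩ : ∃ wh ∈ zpowers (π z), by_ h (π u) = π u * wh := by
      obtain ⟨wh, hwh, e3⟩ := (z0iff _ _).1 d.hu
      refine ⟨wh⁻¹, inv_mem hwh, ?_⟩
      rw [byq, e3, mul_inv_cancel_right]
    have hFz : ρ (F Zq) = 1 := by rw [FZ, map_zp, ρz, zp, one_pow]
    have e3 : ρ (F G) * ρ (F Xq) * (ρ (F G))⁻¹ = ρ (F Xq) * zp (ρ Uq) cu := by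
      have h0 : G * Xq * G⁻¹ = Xq * (zp Zq cz * zp Uq cu) := by
        rw [hG, hXq, conjη, byq, e1, map_mul, map_mul, map_zp, map_zp, ← hZq, ← hUq]
      have h1 := congrArg (fun a => ρ (F a)) h0
      simp only [map_mul, map_inv, map_zp] at h1
      rw [hFz, show ρ (F Uq) = ρ Uq by
        rw [hUq, Fη, hu', map_mul, map_mul, ρη wh hwh, mul_one]] at h1
      simpa [zp] using h1
    rw [FG, map_mul, map_pow, hXq, Fη, e2, map_mul, map_mul, map_zp, map_zp] at e3
    rw [← hXq] at e3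
    set m' := ρ (η (π m0)) with hm'
    obtain ⟨C, hC⟩ : ∃ C, C = ρ (η c1) := ⟨_, rfl⟩
    rw [← hC] at e3
    have hcom : ∀ y : M ⧸ Φ, Commute m' (ρ (η y)) := fun y => by
      rw [hm', ← commutatorElement_eq_one_iff_commute, ← map_commutatorElement,
        ← map_commutatorElement η]
      refine ρη _ ?_
      refine commutator_le_of_gens hcc d.gen_q ?_ _ _
      rintro a (rfl | rfl | rfl | rfl) b (rfl | rfl | rfl | rfl)
      all_goals first
        | (rw [d.xe_q]; exact mem_zpowers _)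
        | (rw [← commutatorElement_inv, d.xe_q]; exact inv_mem (mem_zpowers _))
        | (rw [commutatorElement_eq_one_iff_mul_comm.2 (zc _)]; exact one_mem _)
        | (rw [commutatorElement_eq_one_iff_mul_comm.2 (uc _)]; exact one_mem _)
        | (rw [commutatorElement_eq_one_iff_mul_comm.2 (zc _).symm]; exact one_mem _)
        | (rw [commutatorElement_eq_one_iff_mul_comm.2 (uc _).symm]; exact one_mem _)
        | (rw [commutatorElement_self]; exact one_mem _)
    have hGc : Commute (ρ G ^ j) C := by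
      obtain ⟨a, b, rfl⟩ := d.cen_coord hc1
      rw [hC, map_mul, map_mul, map_zp, map_zp, map_zp, map_zp, ← hZq, ρz, ← hUq]
      refine Commute.mul_right ?_ ((ρU j).pow_right _)
      simp [zp]
    have hUX : Commute (zp (ρ Uq) ((j : ZMod p) * cu)) (ρ Xq) := by
      have := ((Uη (π x)).pow_left ((j : ZMod p) * cu).val).map ρ
      rw [← hXq, map_pow] at this
      exact this
    have e4 : m' * ρ G ^ j * (zp (ρ Xq) (k ^ 2) * C) * (m' * ρ G ^ j)⁻¹ =
        zp (ρ Xq) (k ^ 2) * C * zp (ρ Uq) ((j : ZMod p) * cu * k ^ 2) := by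
      have h1 : ρ G ^ j * zp (ρ Xq) (k ^ 2) * (ρ G ^ j)⁻¹ =
          zp (ρ Xq) (k ^ 2) * zp (ρ Uq) ((j : ZMod p) * cu * k ^ 2) := by
        rw [zp, ← conj_pow, hyj, hUX.symm.mul_pow, zp_mul hUexp ((j : ZMod p) * cu) (k ^ 2)]
        rfl
      have h2 : C * zp (ρ Uq) ((j : ZMod p) * cu * k ^ 2) = zp (ρ Uq) ((j : ZMod p) * cu * k ^ 2) * C := by
        have h3 : Commute (ρ (η c1)) (ρ Uq) := (Uη c1).symm.map ρ
        rw [← hC] at h3
        exact (h3.pow_right _).eq
      calc m' * ρ G ^ j * (zp (ρ Xq) (k ^ 2) * C) * (m' * ρ G ^ j)⁻¹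
          = m' * (ρ G ^ j * zp (ρ Xq) (k ^ 2) * (ρ G ^ j)⁻¹ * (ρ G ^ j * C * (ρ G ^ j)⁻¹)) * m'⁻¹ := by group
        _ = m' * (zp (ρ Xq) (k ^ 2) * zp (ρ Uq) ((j : ZMod p) * cu * k ^ 2) * C) * m'⁻¹ := by
          rw [h1, hGc.eq, mul_inv_cancel_right]
        _ = _ := by
          rw [mul_assoc (zp _ _) (zp _ _) C, ← h2, ← mul_assoc (zp _ _) C]
          have c1' : Commute m' (zp (ρ Xq) (k ^ 2)) := by rw [hXq]; exact (hcom (π x)).pow_right _
          have c2' : Commute m' C := hC ▸ hcom c1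
          have c3' : Commute m' (zp (ρ Uq) ((j : ZMod p) * cu * k ^ 2)) := by
            rw [hUq]; exact (hcom (π u)).pow_right _
          rw [((c1'.mul_right c2').mul_right c3').eq, mul_inv_cancel_right]
    rw [e4] at e3
    have e5 := mul_left_cancel e3
    have hcu : cu = 0 := by
      by_contra hne
      have hU1 : ρ Uq = 1 := by
        refine zp_eq_one hUexp (a := (j : ZMod p) * cu * k ^ 2 - cu) ?_ ?_
        · rw [hj, show k ^ 3 * cu * k ^ 2 - cu = cu * (k ^ 5 - 1) by ring]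
          exact mul_ne_zero hne (sub_ne_zero.2 d.k5)
        · rw [sub_eq_add_neg, zp_add hUexp, zp_neg hUexp, e5, mul_inv_cancel]
      obtain ⟨n, hn⟩ := mem_zpowers_iff.1 ((QuotientGroup.eq_one_iff _).1 hU1)
      rw [hZq, ← map_zpow, hUq] at hn
      obtain ⟨n', hn'⟩ := (isOfFinOrder_of_finite (π z)).mem_powers_iff_mem_zpowers.2
        (mem_zpowers_iff.2 ⟨n, ηinj hn⟩)
      change π z ^ n' = π u at hn'
      have h5 := (d.indep_zu (c := (n' : ZMod p)) (w := -1) (by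
        rw [← hπd, zp_natCast (yexp _), zp_neg (yexp _), zp_one, hn', mul_inv_cancel])).2
      exact neg_ne_zero.2 one_ne_zero h5
    rw [hcu, zp_zero, mul_one]
    exact pow_mem (mem_zpowers _) _
  -- the corrected element
  obtain ⟨nv, hnv⟩ := (isOfFinOrder_of_finite (π z)).mem_powers_iff_mem_zpowers.2 hηv
  change π z ^ nv = ηv at hnv
  rw [← hnv, map_pow, ← hZq] at hGX
  obtain ⟨G', hG'⟩ : ∃ y, y = G * Eq' ^ nv := ⟨_, rfl⟩
  have kxe : ⁅Xq, Eq'⁆ = Zq := by rw [hXq, hEq, ← map_commutatorElement, d.xe_q, hZq]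
  have hG'X : Commute G' Xq := by
    have h1 : ∀ n : ℕ, Eq' ^ n * Xq * (Eq' ^ n)⁻¹ = Xq * (Zq ^ n)⁻¹ := fun n => by
      induction n with
      | zero => simp
      | succ n ih =>
        calc Eq' ^ (n + 1) * Xq * (Eq' ^ (n + 1))⁻¹ = Eq' * (Eq' ^ n * Xq * (Eq' ^ n)⁻¹) * Eq'⁻¹ := by
              rw [pow_succ']; group
          _ = Eq' * Xq * Eq'⁻¹ * (Eq' * (Zq ^ n)⁻¹ * Eq'⁻¹) := by rw [ih]; group
          _ = _ := by
            have e1 : Eq' * Xq * Eq'⁻¹ = Zq⁻¹ * Xq := by rw [← kxe, commutatorElement_def]; group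
            rw [e1, ← ((show Commute Zq Eq' from Zc _).pow_left n).inv_left.eq, mul_inv_cancel_right,
              (show Commute Zq Xq from Zc _).inv_left.eq, mul_assoc, ← mul_inv_rev, ← pow_succ]
    have h2 : G' * Xq * G'⁻¹ = Xq := by
      calc G' * Xq * G'⁻¹ = G * (Eq' ^ nv * Xq * (Eq' ^ nv)⁻¹) * G⁻¹ := by rw [hG']; group
        _ = G * Xq * G⁻¹ * (G * (Zq ^ nv)⁻¹ * G⁻¹) := by rw [h1]; group
        _ = _ := by
          rw [hGX, ← ((show Commute Zq G from Zc _).pow_left nv).inv_left.eq, mul_inv_cancel_right,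
            mul_inv_cancel_right]
    exact mul_inv_eq_iff_eq_mul.1 h2
  have hG'U : Commute G' Uq := by
    rw [hG']
    exact hGU.mul_left (by rw [hEq]; exact ((Uη (π e)).symm.pow_left nv))
  set MK := M.map r with hMK
  haveI : MK.Normal := hMn.map r (QuotientGroup.mk'_surjective ΦK)
  have ηMK : ∀ y, η y ∈ MK := fun y => by
    obtain ⟨m, rfl⟩ := hπ y
    exact mem_map_of_mem r m.2
  have MKη : ∀ w ∈ MK, ∃ y, η y = w := by
    rintro _ ⟨m, hm, rfl⟩
    exact ⟨π ⟨m, hm⟩, rfl⟩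
  set P4 := QuotientGroup.mk' MK with hP4
  have P4η : ∀ y, P4 (η y) = 1 := fun y => (QuotientGroup.eq_one_iff _).2 (ηMK y)
  have hP4G' : P4 G' = P4 G := by rw [hG', map_mul, map_pow, hEq, P4η, one_pow, mul_one]
  have hG'out : G' ∉ MK := fun hmem => by
    refine hgM ?_
    have h1 : G ∈ MK := by
      rw [← QuotientGroup.eq_one_iff, ← QuotientGroup.mk'_apply, ← hP4, ← hP4G', hP4,
        QuotientGroup.mk'_apply, QuotientGroup.eq_one_iff]
      exact hmem
    rw [hG] at h1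
    have h2 : g ∈ (M.map r).comap r := h1
    rwa [comap_map_eq, hrd, QuotientGroup.ker_mk', sup_eq_left.2 (map_subtype_le _)] at h2
  -- the group generated by `G'` and `M`
  set S1 := MK ⊔ zpowers G' with hS1
  set A0 := closure ({Xq, Zq, Uq} : Set (K ⧸ ΦK)) with hA0
  have hgenMK : MK ≤ closure ({Xq, Eq', Zq, Uq} : Set (K ⧸ ΦK)) := fun w hw => by
    obtain ⟨y, rfl⟩ := MKη w hw
    have h1 : y ∈ closure ({π x, π e, π z, π u} : Set (M ⧸ Φ)) := d.gen_q.symm ▸ mem_top y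
    have h2 := mem_map_of_mem η h1
    rw [MonoidHom.map_closure] at h2
    simpa [Set.image_insert_eq, hXq, hEq, hZq, hUq] using h2
  have hgenS1 : S1 ≤ closure ({G', Xq, Eq', Zq, Uq} : Set (K ⧸ ΦK)) :=
    sup_le (hgenMK.trans (Subgroup.closure_mono (Set.subset_insert _ _)))
      (zpowers_le.2 (subset_closure (Set.mem_insert _ _)))
  have hA0M : A0 ≤ MK := (closure_le _).2 (by
    rintro w (rfl | rfl | rfl)
    exacts [hXq ▸ ηMK _, hZq ▸ ηMK _, hUq ▸ ηMK _])
  have hS1c : ∀ w ∈ S1, Commute Uq w := by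
    have : S1 ≤ centralizer ({Uq} : Set (K ⧸ ΦK)) := sup_le (fun w hw => by
        obtain ⟨y, rfl⟩ := MKη w hw
        exact mem_centralizer_singleton_iff.2 (Uη y).eq.symm)
      (zpowers_le.2 (mem_centralizer_singleton_iff.2 hG'U.eq))
    exact fun w hw => (mem_centralizer_singleton_iff.1 (this hw)).symm
  have hAB0 : ∀ a ∈ A0, ∀ w ∈ S1, ⁅a, w⁆ ∈ zpowers Zq := by
    intro a ha w hw
    set ρ := QuotientGroup.mk' (zpowers Zq)
    rw [← QuotientGroup.eq_one_iff, ← QuotientGroup.mk'_apply, map_commutatorElement,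
      commutatorElement_eq_one_iff_mul_comm]
    have ρz : ρ Zq = 1 := (QuotientGroup.eq_one_iff _).2 (mem_zpowers _)
    have hX : ∀ w ∈ ({G', Xq, Eq', Zq, Uq} : Set (K ⧸ ΦK)), Commute (ρ Xq) (ρ w) := by
      rintro w (rfl | rfl | rfl | rfl | rfl)
      · exact hG'X.symm.map ρ
      · exact Commute.refl _
      · rw [← commutatorElement_eq_one_iff_commute, ← map_commutatorElement, kxe, ρz]
      · exact (show Commute Xq w from (Zc _).symm).map ρ
      · exact (hXq ▸ (Uη (π x)).symm : Commute Xq w).map ρ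
    have hle : S1 ≤ (centralizer ({ρ Xq} : Set _)).comap ρ := hgenS1.trans ((closure_le _).2
      fun w hw => mem_comap.2 (mem_centralizer_singleton_iff.2 (hX w hw).eq.symm))
    have hle2 : A0 ≤ (centralizer ({ρ w} : Set _)).comap ρ := by
      rw [hA0, closure_le]
      rintro b (rfl | rfl | rfl)
      · exact mem_centralizer_singleton_iff.2 (mem_centralizer_singleton_iff.1 (hle hw)).symm
      · exact mem_centralizer_singleton_iff.2 ((show Commute b w from Zc w).map ρ).eq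
      · exact mem_centralizer_singleton_iff.2 ((hS1c w hw).map ρ).eq
    exact mem_centralizer_singleton_iff.1 (hle2 ha)
  have hA0n : ∀ a ∈ A0, ∀ w ∈ S1, w * a * w⁻¹ ∈ A0 := fun a ha w hw => by
    rw [show w * a * w⁻¹ = ⁅a, w⁆⁻¹ * a by simp only [commutatorElement_def]; group]
    exact mul_mem (inv_mem ((zpowers_le.2 (subset_closure (by simp)) : zpowers Zq ≤ A0) (hAB0 a ha w hw))) ha
  have hGE : ⁅G', Eq'⁆ ∈ A0 := by
    have h1 : ⁅G', Eq'⁆ = ⁅G, Eq'⁆ := by
      rw [hG']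
      have c : Commute (Eq' ^ nv) Eq' := Commute.pow_self _ _
      simp only [commutatorElement_def, mul_inv_rev, mul_assoc]
      rw [c.left_comm, mul_inv_cancel_left]
    rw [h1, commutatorElement_def, hG, hEq, conjη, ← map_inv, ← map_mul]
    obtain ⟨c, hc, e1⟩ : ∃ c ∈ cen Φ z u, π (MulAut.conjNormal g e) = zp (π x) sg * π e * c := by
      refine ⟨_, ?_, (mul_inv_cancel_left _ _).symm⟩
      rw [← map_zp, ← map_mul, ← map_inv, ← map_mul, ← d.mem_cm_iff]
      refine QuotientGroup.eq.1 ?_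
      show q (zp x sg * e) = q _
      rw [map_mul, map_zp, vcomm, hsg]
    rw [byq, e1]
    have hc' : π e * c * (π e)⁻¹ = c := by
      rw [mem_center_iff.1 (d.cen_le_center hc) (π e), mul_inv_cancel_right]
    rw [mul_assoc (zp (π x) sg), mul_assoc (zp (π x) sg), hc', map_mul, map_zp, ← hXq]
    refine mul_mem (pow_mem (subset_closure (by simp)) _) ?_
    obtain ⟨a, b, rfl⟩ := d.cen_coord hc
    rw [map_mul, map_zp, map_zp, ← hZq, ← hUq]
    exact mul_mem (pow_mem (subset_closure (by simp)) _) (pow_mem (subset_closure (by simp)) _)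
  have hcA0 : ∀ a ∈ S1, ∀ b ∈ S1, ⁅a, b⁆ ∈ A0 := by
    set A1 := A0.subgroupOf S1 with hA1
    haveI : A1.Normal := ⟨fun n hn w => hA0n n hn w w.2⟩
    set ρ := QuotientGroup.mk' A1 with hρ
    have hin : ∀ w ∈ ({G', Xq, Eq', Zq, Uq} : Set (K ⧸ ΦK)), w ∈ S1 := by
      rintro w (rfl | rfl | rfl | rfl | rfl)
      exacts [mem_sup_right (mem_zpowers _), mem_sup_left (hXq ▸ ηMK _), mem_sup_left (hEq ▸ ηMK _),
        mem_sup_left (hZq ▸ ηMK _), mem_sup_left (hUq ▸ ηMK _)]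
    have heq : S1 = closure ({G', Xq, Eq', Zq, Uq} : Set (K ⧸ ΦK)) :=
      le_antisymm hgenS1 ((closure_le _).2 hin)
    intro a ha b hb
    have key : ∀ v w : S1, (v : K ⧸ ΦK) ∈ ({G', Xq, Eq', Zq, Uq} : Set (K ⧸ ΦK)) →
        (w : K ⧸ ΦK) ∈ ({G', Xq, Eq', Zq, Uq} : Set (K ⧸ ΦK)) → Commute (ρ v) (ρ w) := by
      intro v w hv hw
      rw [← commutatorElement_eq_one_iff_commute, ← map_commutatorElement, hρ, QuotientGroup.mk'_apply,
        QuotientGroup.eq_one_iff, hA1, mem_subgroupOf]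
      show ⁅(v : K ⧸ ΦK), (w : K ⧸ ΦK)⁆ ∈ A0
      have hAle : zpowers Zq ≤ A0 := zpowers_le.2 (subset_closure (by simp))
      by_cases h1 : (v : K ⧸ ΦK) ∈ A0
      · exact hAle (hAB0 _ h1 _ w.2)
      by_cases h2 : (w : K ⧸ ΦK) ∈ A0
      · rw [← commutatorElement_inv]; exact inv_mem (hAle (hAB0 _ h2 _ v.2))
      have pick : ∀ v : K ⧸ ΦK, v ∈ ({G', Xq, Eq', Zq, Uq} : Set (K ⧸ ΦK)) → v ∉ A0 →
          v = G' ∨ v = Eq' := by
        rintro v (rfl | rfl | rfl | rfl | rfl) hv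
        exacts [Or.inl rfl, absurd (Subgroup.subset_closure (by simp)) hv, Or.inr rfl,
          absurd (Subgroup.subset_closure (by simp)) hv, absurd (Subgroup.subset_closure (by simp)) hv]
      rcases pick _ hv h1 with e1 | e1 <;> rcases pick _ hw h2 with e2 | e2 <;> rw [e1, e2]
      · rw [commutatorElement_self]; exact one_mem _
      · exact hGE
      · rw [← commutatorElement_inv]; exact inv_mem hGE
      · rw [commutatorElement_self]; exact one_mem _
    have h3 : ∀ v w : S1, Commute (ρ v) (ρ w) := by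
      have hgenS : closure ((Subtype.val : S1 → K ⧸ ΦK) ⁻¹' {G', Xq, Eq', Zq, Uq}) = ⊤ := by
        refine map_injective S1.subtype_injective ?_
        rw [MonoidHom.map_closure, ← MonoidHom.range_eq_map, range_subtype, Subgroup.coe_subtype,
          Set.image_preimage_eq_inter_range, Subtype.range_coe_subtype]
        rw [show ({G', Xq, Eq', Zq, Uq} : Set (K ⧸ ΦK)) ∩ {x | x ∈ S1} = {G', Xq, Eq', Zq, Uq} from
          Set.inter_eq_left.2 hin, ← heq]
      intro v w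
      have hv : v ∈ Subgroup.closure _ := hgenS.symm ▸ mem_top v
      induction hv using Subgroup.closure_induction with
      | mem v hv =>
        have hw : w ∈ Subgroup.closure _ := hgenS.symm ▸ mem_top w
        induction hw using Subgroup.closure_induction with
        | mem w hw => exact key v w hv hw
        | one => rw [map_one]; exact Commute.one_right _
        | mul a b _ _ ha hb => rw [map_mul]; exact ha.mul_right hb
        | inv a _ ha => rw [map_inv]; exact ha.inv_right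
      | one => rw [map_one]; exact Commute.one_left _
      | mul a b _ _ ha hb => rw [map_mul]; exact ha.mul_left hb
      | inv a _ ha => rw [map_inv]; exact ha.inv_left
    have h4 := commutatorElement_eq_one_iff_commute.2 (h3 ⟨a, ha⟩ ⟨b, hb⟩)
    rw [← map_commutatorElement, hρ, QuotientGroup.mk'_apply, QuotientGroup.eq_one_iff] at h4
    exact h4
  have hA0exp : ∀ a ∈ A0, a ^ p = 1 := fun a ha => by
    obtain ⟨y, rfl⟩ := MKη a (hA0M ha)
    exact ηexp y
  have mulS := mul_pow_p ((s.pgroup.to_quotient ΦK).to_subgroup S1) s.five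
    (A := A0.subgroupOf S1) (B := (zpowers Zq).subgroupOf S1)
    (fun a b => hcA0 a a.2 b b.2) (fun a ha b => hAB0 a ha b b.2)
    (fun a ha b => by
      refine Subtype.ext ?_
      obtain ⟨n, hn⟩ := mem_zpowers_iff.1 (show (a : K ⧸ ΦK) ∈ zpowers Zq from ha)
      show ⁅(a : K ⧸ ΦK), (b : K ⧸ ΦK)⁆ = 1
      rw [← hn, commutatorElement_eq_one_iff_mul_comm]
      exact ((show Commute Zq (b : K ⧸ ΦK) from Zc _).zpow_left n).eq)
    (fun a ha => Subtype.ext (by simpa using hA0exp a ha))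
  -- `G' ^ p = 1`
  have hGp : G' ^ p ∈ MK := by
    rw [← QuotientGroup.eq_one_iff, QuotientGroup.mk_pow, ← QuotientGroup.mk'_apply, ← hP4, hP4G',
      ← map_pow, hP4, QuotientGroup.mk'_apply, QuotientGroup.eq_one_iff, hG, ← map_pow]
    exact mem_map_of_mem r hgp
  obtain ⟨y0, hy0⟩ := MKη _ hGp
  obtain ⟨⟨a, b, c, w⟩, hy0c⟩ := d.surj y0
  simp only [coordEl] at hy0c
  rw [← hy0c, map_mul, map_mul, map_mul, map_zp, map_zp, map_zp, map_zp, ← hπd, ← hXq, ← hEq, ← hZq,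
    ← hUq] at hy0
  have Xexp : Xq ^ p = 1 := hXq ▸ ηexp _
  have Eexp : Eq' ^ p = 1 := hEq ▸ ηexp _
  have Zexp : Zq ^ p = 1 := hZq ▸ ηexp _
  have Uexp : Uq ^ p = 1 := hUq ▸ ηexp _
  have Zne : Zq ≠ 1 := fun e0 => d.z_ne (ηinj (by rw [← hπd, ← hZq, e0, map_one]))
  have hb : b = 0 := by
    by_contra hb
    have h1 : Commute Xq (zp Eq' b) := by
      have h2 : Commute Xq (G' ^ p) := hG'X.symm.pow_right p
      rw [← hy0] at h2
      have hXZU : Commute Xq (zp Zq c * zp Uq w) :=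
        ((show Commute Xq Zq from (Zc _).symm).pow_right _).mul_right
          ((hXq ▸ (Uη (π x)).symm : Commute Xq Uq).pow_right _)
      have h3 := ((Commute.refl Xq).pow_right a.val).inv_right.mul_right
        (h2.mul_right hXZU.inv_right)
      rw [mul_inv_cancel_right, ← mul_assoc, show (Xq ^ a.val)⁻¹ * zp Xq a = 1 from inv_mul_cancel _,
        one_mul] at h3
      exact h3
    have h4 : ⁅Xq, zp Eq' b⁆ = zp Zq b := by
      have : ∀ n : ℕ, ⁅Xq, Eq' ^ n⁆ = Zq ^ n := fun n => by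
        induction n with
        | zero => simp
        | succ n ih =>
          rw [pow_succ, comm_mul_right_of _ _ _ (by rw [kxe]; exact Zc), ih, kxe, pow_succ]
      exact this _
    rw [commutatorElement_eq_one_iff_mul_comm.2 h1.eq] at h4
    exact Zne (zp_eq_one Zexp hb h4.symm)
  rw [hb, zp_zero, mul_one] at hy0
  obtain ⟨M2, hM2, FG'⟩ : ∃ y, y ∈ MK ∧ F G' = y * G' ^ j := by
    refine ⟨F G' * (G' ^ j)⁻¹, ?_, (inv_mul_cancel_right _ _).symm⟩
    rw [← QuotientGroup.eq_one_iff, ← QuotientGroup.mk'_apply, ← hP4, map_mul, map_inv,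
      map_pow, hP4G', hG', map_mul, map_pow, map_mul, map_pow, FG, map_mul, map_pow, P4η, one_mul,
      hEq, Fη, P4η, one_pow, mul_one, mul_inv_cancel]
  have hFp : F (G' ^ p) = (G' ^ p) ^ j := by
    obtain ⟨y2, hy2⟩ := MKη M2 hM2
    have h1 := congrArg Subtype.val (mulS ⟨M2, mem_sup_left hM2⟩
      ⟨G' ^ j, mem_sup_right (pow_mem (mem_zpowers _) _)⟩)
    simp only [SubmonoidClass.coe_pow, Subgroup.coe_mul] at h1
    rw [map_pow, FG', h1, ← hy2, ηexp, one_mul, ← pow_mul, ← pow_mul, mul_comm]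
  obtain ⟨c1, hc1, e1⟩ : ∃ c ∈ cen Φ z u, by_ h (π x) = zp (π x) (k ^ 2) * c := by
    refine ⟨_, ?_, (mul_inv_cancel_left _ _).symm⟩
    rw [byq, ← map_zp, ← map_inv, ← map_mul, ← d.mem_cm_iff]
    have := inv_mem d.hx
    rwa [mul_inv_rev, inv_inv] at this
  obtain ⟨wh, hwh, e2⟩ : ∃ wh ∈ zpowers (π z), by_ h (π u) = π u * wh := by
    obtain ⟨wh, hwh, e3⟩ := (z0iff _ _).1 d.hu
    refine ⟨wh⁻¹, inv_mem hwh, ?_⟩
    rw [byq, e3, mul_inv_cancel_right]
  have ha : a = 0 := by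
    by_contra ha
    -- modulo the centre of `M / Φ`
    set y1 := zp (π x) a * (zp (π z) c * zp (π u) w) with hy1
    have hy1η : η y1 = G' ^ p := by rw [hy1, map_mul, map_mul, map_zp, map_zp, map_zp, ← hXq, ← hZq, ← hUq, hy0]
    have h2 : by_ h y1 = y1 ^ j := ηinj (by rw [← Fη, map_pow, hy1η, hFp])
    obtain ⟨m1, hm1⟩ := hπ y1
    have h3 : q (h m1) = q m1 ^ j := by
      rw [← map_pow]
      refine QuotientGroup.eq.2 (mem_sup_right ?_)
      rw [← QuotientGroup.eq, ← QuotientGroup.mk'_apply, ← QuotientGroup.mk'_apply, ← hπd, map_pow,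
        ← byq, hm1, h2]
    have h4 : q m1 = zp (q x) a := by
      rw [← map_zp]
      refine QuotientGroup.eq.2 ?_
      show m1⁻¹ * zp x a ∈ CM Φ z u
      rw [d.mem_cm_iff, map_mul, map_inv, map_zp, ← hπd, hm1, hy1, mul_inv_rev, mul_assoc,
        inv_mul_cancel, mul_one]
      exact inv_mem (mul_mem (pow_mem (Subgroup.subset_closure (Set.mem_insert (QuotientGroup.mk' Φ z) _)) c.val)
        (pow_mem (Subgroup.subset_closure (Set.mem_insert_of_mem _ (Set.mem_singleton (QuotientGroup.mk' Φ u)))) w.val))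
    rw [← bvq h m1, h4, map_zp, bvq, hhx, ← zp_mul (vexp _), ← zp_natCast (vexp _) j, ← zp_mul (vexp _), hj]
      at h3
    refine one_ne_zero (vind (1 : ZMod p) 0 ?_).1
    rw [zp_zero, mul_one, zp_one]
    refine zp_eq_one (vexp _) (a := k ^ 2 * a - a * k ^ 3) ?_ ?_
    · rw [show k ^ 2 * a - a * k ^ 3 = k ^ 2 * a * (1 - k) by ring]
      exact mul_ne_zero (mul_ne_zero hμ ha) (sub_ne_zero.2 fun e0 => d.k2 (by rw [← e0, one_pow]))
    · rw [sub_eq_add_neg, zp_add (vexp _), zp_neg (vexp _), h3, mul_inv_cancel]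
  rw [ha, zp_zero, one_mul] at hy0
  have hfin : zp (π z) (c * (k : ZMod p)) * zp (π u * wh) w = (zp (π z) c * zp (π u) w) ^ j := by
    refine ηinj ?_
    rw [map_pow η, map_mul η (zp (π z) c), map_zp η (π z) c, map_zp η (π u) w, ← hZq, ← hUq, hy0, ← hFp,
      ← hy0, map_mul F, map_zp F, map_zp F, FZ, hUq, Fη, e2, ← zp_mul Zexp, mul_comm k c, map_mul η,
      map_zp η, map_zp η, ← hZq]
  obtain ⟨n, rfl⟩ := (isOfFinOrder_of_finite (π z)).mem_powers_iff_mem_zpowers.2 hwh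
  have hfin' : zp (π z) (c * k + (n : ZMod p) * w) * zp (π u) w =
      zp (π z) (c * k ^ 3) * zp (π u) (w * k ^ 3) := by
    have czu : ∀ a b : ZMod p, Commute (zp (π z) a) (zp (π u) b) := fun a b =>
      (show Commute (π z) (π u) from zc _).pow_pow _ _
    rw [← hj, zp_mul (yexp _) c, zp_mul (yexp _) w, zp_natCast (by rw [zp, ← pow_mul, mul_comm,
      pow_mul, yexp, one_pow]), zp_natCast (by rw [zp, ← pow_mul, mul_comm, pow_mul, yexp, one_pow]),
      ← (czu c w).mul_pow, ← hfin, zp_add (yexp _), zp_mul (yexp _) (n : ZMod p) w, zp_natCast (yexp _),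
      mul_assoc]
    congr 1
    exact (((show Commute (π u) (π z ^ n) from uc _).mul_pow _).trans
      ((show Commute (π u ^ w.val) ((π z ^ n) ^ w.val) from
        (show Commute (π u) (π z ^ n) from uc _).pow_pow _ _).eq)).symm
  obtain ⟨r1, r2⟩ := d.indep_zu (c := c * k + (n : ZMod p) * w + -(c * k ^ 3)) (w := w + -(w * k ^ 3)) (by
    rw [← hπd, zp_add (yexp _) (c * k + (n : ZMod p) * w), zp_neg (yexp _) (c * k ^ 3),
      zp_add (yexp _) w, zp_neg (yexp _) (w * k ^ 3),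
      (show Commute (zp (π z) (c * k ^ 3))⁻¹ (zp (π u) w) from
        ((show Commute (π z) _ from zc _).pow_left _).inv_left).mul_mul_mul_comm, hfin',
      ← mul_inv_rev, (show Commute (zp (π u) (w * k ^ 3)) (zp (π z) (c * k ^ 3)) from
        ((show Commute (π u) _ from uc _).pow_left _)).eq, mul_inv_cancel])
  have hw : w = 0 := (mul_eq_zero.1 (show w * (1 - k ^ 3) = 0 by linear_combination r2)).resolve_right
    (sub_ne_zero.2 d.k3.symm)
  have hc : c = 0 := by
    rw [hw, mul_zero, add_zero] at r1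
    exact ((mul_eq_zero.1 (show c * (k * (1 - k ^ 2)) = 0 by linear_combination r1)).resolve_right
      (mul_ne_zero d.k0 (sub_ne_zero.2 d.k2.symm)))
  rw [hw, hc, zp_zero, zp_zero, one_mul] at hy0
  -- the elementary abelian group of order `p ^ 4`
  have hbot : Elem p (⊥ : Subgroup (K ⧸ ΦK)) := elem_bot
  obtain ⟨a1, k1⟩ := hbot.extend Zexp (fun v hv => by rw [mem_bot.1 hv, one_mul, mul_one])
    (fun hm => Zne (mem_bot.1 hm))
  rw [bot_sup_eq, card_bot, one_mul] at k1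
  rw [bot_sup_eq] at a1
  have hnot : Uq ∉ zpowers Zq := fun hm => by
    rw [hUq, hZq] at hm
    obtain ⟨i, hi⟩ := mem_zpowers_iff.1 hm
    rw [← map_zpow] at hi
    obtain ⟨i', hi'⟩ := (isOfFinOrder_of_finite (π z)).mem_powers_iff_mem_zpowers.2
      (mem_zpowers_iff.2 ⟨i, ηinj hi⟩)
    change π z ^ i' = π u at hi'
    have h5 := (d.indep_zu (c := (i' : ZMod p)) (w := -1) (by
      rw [← hπd, zp_natCast (yexp _), zp_neg (yexp _), zp_one, hi', mul_inv_cancel])).2
    exact neg_ne_zero.2 one_ne_zero h5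
  obtain ⟨a2, k2⟩ := a1.extend Uexp (fun v hv => by
    obtain ⟨i, rfl⟩ := mem_zpowers_iff.1 hv
    exact ((show Commute Uq Zq from (Zc _).symm).zpow_right i).eq) hnot
  have hA2le : zpowers Zq ⊔ zpowers Uq ≤ (cen Φ z u).map η := sup_le
    (zpowers_le.2 ⟨_, Subgroup.subset_closure (Set.mem_insert _ _), hZq.symm⟩)
    (zpowers_le.2 ⟨_, Subgroup.subset_closure (Set.mem_insert_of_mem _ rfl), hUq.symm⟩)
  obtain ⟨a3, k3⟩ := a2.extend Xexp (fun v hv => by
    obtain ⟨y, hy, rfl⟩ := hA2le hv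
    rw [hXq, ← map_mul, ← map_mul, mem_center_iff.1 (d.cen_le_center hy)]) (fun hm => by
    obtain ⟨y, hy, e3⟩ := hA2le hm
    rw [hXq] at e3
    exact d.x_ne (ηinj e3 ▸ hy))
  have hA3le : zpowers Zq ⊔ zpowers Uq ⊔ zpowers Xq ≤ MK :=
    sup_le (sup_le (zpowers_le.2 (hZq ▸ ηMK _)) (zpowers_le.2 (hUq ▸ ηMK _))) (zpowers_le.2 (hXq ▸ ηMK _))
  obtain ⟨a4, k4⟩ := a3.extend hy0.symm (fun v hv => by
    have : zpowers Zq ⊔ zpowers Uq ⊔ zpowers Xq ≤ centralizer ({G'} : Set (K ⧸ ΦK)) :=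
      sup_le (sup_le (zpowers_le.2 (mem_centralizer_singleton_iff.2 (Zc _)))
        (zpowers_le.2 (mem_centralizer_singleton_iff.2 hG'U.eq.symm)))
        (zpowers_le.2 (mem_centralizer_singleton_iff.2 hG'X.eq.symm))
    exact (mem_centralizer_singleton_iff.1 (this hv)).symm) (fun hm => hG'out (hA3le hm))
  have h5 := a4.card_le (rank_of_injective s.rank (MonoidHom.id K) Function.injective_id ΦK)
  have hpp := hp.out.two_le
  have h6 : p * p * p * p ≤ p ^ 3 :=
    ((Nat.mul_le_mul_right p ((Nat.mul_le_mul_right p ((Nat.mul_le_mul_right p k1).trans k2)).trans k3)).trans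
      k4).trans h5
  rw [show p * p * p * p = p ^ 4 by ring, Nat.pow_le_pow_iff_right hp.out.one_lt] at h6
  omega

end Cfsg.Agent.RankThreeEss
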