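import Cfsg.Agent.RankThreeEss.Basis

/-!
The data carried by a group of order `p ^ 4` modulo a Frattini subgroup of a maximal subgroup in the
transvection case, and its transport along isomorphisms.
-/

set_option autoImplicit false

namespace Cfsg.Agent.RankThreeEss

open Subgroup
open scoped commutatorElement

variable {p : ℕ}

/-- Congruence modulo a subgroup. -/
def Cn {X : Type*} [Group X] (N : Subgroup X) (a b : X) : Prop := a⁻¹ * b ∈ N

theorem cn_iff_mk {X : Type*} [Group X] (N : Subgroup X) [N.Normal] (a b : X) :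
    Cn N a b ↔ QuotientGroup.mk' N a = QuotientGroup.mk' N b :=
  QuotientGroup.eq.symm

/-- The data of the transvection case on the normalizer. -/
structure PairBase {X : Type*} [Group X] (p : ℕ) (E Φ : Subgroup X) (h : MulAut X) (k : ZMod p)
    (x e z u : X) : Prop where
  normal : Φ.Normal
  index : Φ.index = p ^ 4
  le_frattini : Φ ≤ frattini X
  hE : E = closure ({e, z, u} : Set X) ⊔ Φ
  gen : closure ({x, e, z, u} : Set X) ⊔ Φ = ⊤
  xe : ⁅x, e⁆⁻¹ * z ∈ Φ
  xz : ⁅x, z⁆ ∈ Φ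
  xu : ⁅x, u⁆ ∈ Φ
  ez : ⁅e, z⁆ ∈ Φ
  eu : ⁅e, u⁆ ∈ Φ
  zu : ⁅z, u⁆ ∈ Φ
  powers : ∀ g : X, g ^ p ∈ Φ
  char : ∀ α : MulAut X, ∀ w ∈ Φ, α w ∈ Φ
  k0 : k ≠ 0
  k2 : k ^ 2 ≠ 1
  k3 : k ^ 3 ≠ 1
  k5 : k ^ 5 ≠ 1
  hx : Cn (closure ({z, u} : Set X) ⊔ Φ) (h x) (x ^ (k ^ 2).val)
  he : Cn (closure ({z, u} : Set X) ⊔ Φ) (h e) (e ^ k⁻¹.val)
  hu : Cn (closure ({z} : Set X) ⊔ Φ) (h u) u

variable {X X' : Type*} [Group X] [Group X'] {E Φ : Subgroup X} {h : MulAut X} {k : ZMod p}
  {x e z u : X}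

/-- Transport along an isomorphism. -/
theorem PairBase.map (d : PairBase p E Φ h k x e z u) (ψ : X ≃* X') :
    PairBase p (E.map ψ.toMonoidHom) (Φ.map ψ.toMonoidHom) ((ψ.symm.trans h).trans ψ) k
      (ψ x) (ψ e) (ψ z) (ψ u) := by
  have hs : Function.Surjective ψ.toMonoidHom := ψ.surjective
  have hm : ∀ (N : Subgroup X) (a : X), ψ a ∈ N.map ψ.toMonoidHom ↔ a ∈ N := fun N a =>
    mem_map_iff_mem (f := ψ.toMonoidHom) ψ.injective
  have hcl : ∀ s : Set X, (closure s ⊔ Φ).map ψ.toMonoidHom = closure (ψ '' s) ⊔ Φ.map ψ.toMonoidHom :=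
    fun s => by rw [Subgroup.map_sup, MonoidHom.map_closure]; rfl
  have hcn : ∀ (s : Set X) (a b : X), Cn (closure s ⊔ Φ) a b →
      Cn (closure (ψ '' s) ⊔ Φ.map ψ.toMonoidHom) (ψ a) (ψ b) := fun s a b hab => by
    rw [Cn, ← map_inv, ← map_mul, ← hcl, hm]; exact hab
  have hc : ∀ a b : X, ⁅a, b⁆ ∈ Φ → ⁅ψ a, ψ b⁆ ∈ Φ.map ψ.toMonoidHom := fun a b hab => by
    rw [← map_commutatorElement ψ, hm]; exact hab
  have e2 : ψ '' {z, u} = {ψ z, ψ u} := Set.image_pair _ _ _
  have e1 : ψ '' {z} = {ψ z} := Set.image_singleton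
  exact
  { normal := d.normal.map _ hs
    index := (index_map_equiv Φ ψ).trans d.index
    le_frattini := (map_mono d.le_frattini).trans (Core.map_frattini_le_of_surjective hs)
    hE := by rw [d.hE, hcl]; simp [Set.image_insert_eq]
    gen := by
      have := congrArg (Subgroup.map ψ.toMonoidHom) d.gen
      rw [hcl, map_top_of_surjective _ hs] at this
      simpa [Set.image_insert_eq] using this
    xe := by rw [← map_commutatorElement ψ, ← map_inv, ← map_mul, hm]; exact d.xe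
    xz := hc _ _ d.xz
    xu := hc _ _ d.xu
    ez := hc _ _ d.ez
    eu := hc _ _ d.eu
    zu := hc _ _ d.zu
    powers := fun g => by
      obtain ⟨g, rfl⟩ := ψ.surjective g
      rw [← map_pow, hm]; exact d.powers g
    char := fun α w hw => by
      obtain ⟨w, hw, rfl⟩ := hw
      have h1 := (hm Φ _).2 (d.char ((ψ.trans α).trans ψ.symm) w hw)
      simpa using h1
    k0 := d.k0
    k2 := d.k2
    k3 := d.k3
    k5 := d.k5
    hx := by
      have := hcn _ _ _ d.hx
      rw [e2, map_pow] at this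
      simpa using this
    he := by
      have := hcn _ _ _ d.he
      rw [e2, map_pow] at this
      simpa using this
    hu := by
      have := hcn _ _ _ d.hu
      rw [e1] at this
      simpa using this }

/-- Powers with exponents in `ZMod p`. -/
def zp {Y : Type*} [Group Y] (y : Y) (a : ZMod p) : Y := y ^ a.val

variable {Y : Type*} [Group Y] [hp : Fact p.Prime]

theorem zp_add {y : Y} (hy : y ^ p = 1) (a b : ZMod p) : zp y (a + b) = zp y a * zp y b := by
  haveI : NeZero p := ⟨hp.out.ne_zero⟩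
  rw [zp, zp, zp, ← pow_add]
  exact pow_eq_pow_of_cast hy (by simp)

theorem zp_mul {y : Y} (hy : y ^ p = 1) (a b : ZMod p) : zp y (a * b) = zp (zp y a) b := by
  haveI : NeZero p := ⟨hp.out.ne_zero⟩
  rw [zp, zp, zp, ← pow_mul]
  exact pow_eq_pow_of_cast hy (by simp)

theorem zp_natCast {y : Y} (hy : y ^ p = 1) (n : ℕ) : zp y (n : ZMod p) = y ^ n := by
  haveI : NeZero p := ⟨hp.out.ne_zero⟩
  exact pow_eq_pow_of_cast hy (by simp)

theorem zp_one {y : Y} : zp y (1 : ZMod p) = y := by rw [zp, ZMod.val_one, pow_one]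

theorem zp_zero {y : Y} : zp y (0 : ZMod p) = 1 := by rw [zp, ZMod.val_zero, pow_zero]

theorem zp_neg {y : Y} (hy : y ^ p = 1) (a : ZMod p) : zp y (-a) = (zp y a)⁻¹ := by
  refine eq_inv_of_mul_eq_one_left ?_
  rw [← zp_add hy, neg_add_cancel, zp_zero]

theorem zp_eq_one {y : Y} (hy : y ^ p = 1) {a : ZMod p} (ha : a ≠ 0) (h1 : zp y a = 1) : y = 1 := by
  rw [← zp_one (p := p) (y := y), ← mul_inv_cancel₀ ha, zp_mul hy, h1, zp, one_pow]

theorem zp_fixed {y : Y} (hy : y ^ p = 1) {a : ZMod p} (ha : a ≠ 1) (h1 : zp y a = y) : y = 1 := by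
  refine zp_eq_one hy (sub_ne_zero.2 ha) ?_
  rw [sub_eq_add_neg, zp_add hy, zp_neg hy, zp_one, h1, mul_inv_cancel]

theorem map_zp {Z : Type*} [Group Z] {F : Type*} [FunLike F Y Z] [MonoidHomClass F Y Z] (f : F)
    (y : Y) (a : ZMod p) : f (zp y a) = zp (f y) a := map_pow f y _

end Cfsg.Agent.RankThreeEss
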