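import Cfsg.Agent.RankThreeEss.PairAlg
import Cfsg.Agent.Core.Solvable

/-!
The action on `X / ⟨z, u⟩ Φ`, a plane.
-/

set_option autoImplicit false

namespace Cfsg.Agent.RankThreeEss

open Subgroup
open scoped commutatorElement

variable {p : ℕ} [hp : Fact p.Prime] {X : Type*} [Group X] [Finite X] {E Φ : Subgroup X}
  {h : MulAut X} {k : ZMod p} {x e z u : X}

/-- `⟨z, u⟩ Φ`. -/
def CM (Φ : Subgroup X) (z u : X) : Subgroup X := closure ({z, u} : Set X) ⊔ Φ

omit hp in
theorem PairBase.cm_normal (d : PairBase p E Φ h k x e z u) : (CM Φ z u).Normal := by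
  haveI := d.normal
  haveI := d.cen_normal
  rw [CM, ← d.comap_cen]
  infer_instance

theorem PairBase.cm_map (d : PairBase p E Φ h k x e z u) (α : MulAut X) :
    (CM Φ z u).map α.toMonoidHom = CM Φ z u := by
  haveI := d.normal
  refine eq_of_le_of_card_ge ?_ ?_
  · rintro _ ⟨m, hm, rfl⟩; exact d.cen_invariant α hm
  · rw [card_map_of_injective (f := α.toMonoidHom) α.injective]

omit hp [Finite X] in
theorem PairBase.mem_cm_iff (d : PairBase p E Φ h k x e z u) [Φ.Normal] (m : X) :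
    m ∈ CM Φ z u ↔ QuotientGroup.mk' Φ m ∈ cen Φ z u := by
  rw [CM, ← d.comap_cen, mem_comap]

theorem PairBase.v_facts (d : PairBase p E Φ h k x e z u) {V : Type*} [Group V] (q : X →* V)
    (hq : Function.Surjective q) (hker : q.ker = CM Φ z u) :
    (∀ a b : V, a * b = b * a) ∧ (∀ a : V, a ^ p = 1) ∧
    (∀ y : V, ∃ a b : ZMod p, y = zp (q x) a * zp (q e) b) ∧
    ∀ a b : ZMod p, zp (q x) a * zp (q e) b = 1 → a = 0 ∧ b = 0 := by
  haveI := d.normal
  haveI : NeZero p := ⟨hp.out.ne_zero⟩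
  have h1 : ∀ m : X, q m = 1 ↔ QuotientGroup.mk' Φ m ∈ cen Φ z u := fun m => by
    rw [← MonoidHom.mem_ker, hker, d.mem_cm_iff]
  have hexp : ∀ a : V, a ^ p = 1 := fun a => by
    obtain ⟨a, rfl⟩ := hq a
    rw [← map_pow, ← MonoidHom.mem_ker, hker]
    exact mem_sup_right (d.powers a)
  have hco : ∀ m : X, ∃ a b : ZMod p, q m = zp (q x) a * zp (q e) b := by
    intro m
    obtain ⟨⟨a, b, c, w⟩, hm⟩ := d.surj (QuotientGroup.mk' Φ m)
    refine ⟨a, b, ?_⟩
    simp only [coordEl] at hm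
    rw [← map_zp q, ← map_zp q, ← map_mul, ← inv_mul_eq_one, ← map_inv, ← map_mul, h1, map_mul,
      map_inv, map_mul, map_zp, map_zp, ← hm]
    have hzu : zp (QuotientGroup.mk' Φ z) c * zp (QuotientGroup.mk' Φ u) w ∈ cen Φ z u :=
      mul_mem (pow_mem (subset_closure (by simp)) _) (pow_mem (subset_closure (by simp)) _)
    obtain ⟨A, hA⟩ : ∃ A, A = zp (QuotientGroup.mk' Φ x) a * zp (QuotientGroup.mk' Φ e) b := ⟨_, rfl⟩
    rw [← hA, mul_inv_rev, mul_assoc, inv_mul_cancel, mul_one]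
    exact inv_mem hzu
  have hxe : Commute (q x) (q e) := by
    rw [← commutatorElement_eq_one_iff_commute, ← map_commutatorElement, h1, map_commutatorElement,
      d.xe_q]
    exact subset_closure (by simp)
  refine ⟨fun a b => ?_, hexp, fun y => ?_, fun a b hab => d.indep_cen ?_⟩
  · obtain ⟨a, rfl⟩ := hq a
    obtain ⟨b, rfl⟩ := hq b
    obtain ⟨a1, a2, ha⟩ := hco a
    obtain ⟨b1, b2, hb⟩ := hco b
    rw [ha, hb]
    exact ((((Commute.refl (q x)).pow_pow _ _).mul_left (hxe.symm.pow_pow _ _)).mul_right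
      ((hxe.pow_pow _ _).mul_left ((Commute.refl (q e)).pow_pow _ _))).eq
  · obtain ⟨y, rfl⟩ := hq y; exact hco y
  · rw [← map_zp, ← map_zp, ← map_mul]
    exact (h1 _).1 (by rw [map_mul, map_zp, map_zp, hab])

omit hp [Finite X] in
/-- A normal subgroup of prime order in a `p`-group is central. -/
theorem central_of_card {G : Type*} [Group G] [Finite G] [Fact p.Prime] (hG : IsPGroup p G) (N : Subgroup G)
    [N.Normal] (hN : Nat.card N = p) : N ≤ center G := by
  haveI := hG.isNilpotent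
  have hne : N ≠ ⊥ := fun e => (Fact.out : p.Prime).one_lt.ne (by rw [← hN, e, card_bot])
  have hI := Cfsg.Agent.Core.inf_center_ne_bot hne
  have h2 : Nat.card (N ⊓ center G : Subgroup G) ∣ p := hN ▸ card_dvd_of_le inf_le_left
  rcases (Fact.out : p.Prime).eq_one_or_self_of_dvd _ h2 with h3 | h3
  · exact absurd (card_eq_one.1 h3) hI
  · exact (eq_of_le_of_card_ge (inf_le_left : N ⊓ center G ≤ N) (by rw [h3, hN])).ge.trans inf_le_right

end Cfsg.Agent.RankThreeEss
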