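import Cfsg.Agent.RankThreeEss.Sylow

/-!
The two shapes of a faithful group with a strongly `p`-embedded subgroup on a space of dimension
three.
-/

set_option autoImplicit false

namespace Cfsg.Agent.RankThreeEss

open Cfsg Cfsg.Agent.FusSys

universe u

variable {p : ℕ} [hp : Fact p.Prime] {V : Type u} [AddCommGroup V] [Module (ZMod p) V]
variable {G : Type*} [Group G] [Finite G]

/-- A pair of opposite transvections with a common fixed vector, and the torus they generate. -/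
structure Pair (ρ : G →* Module.End (ZMod p) V) (τ τ' : G) (e z u : V) : Prop where
  li : LinearIndependent (ZMod p) ![e, z, u]
  τe : ρ τ e = e + z
  τz : ρ τ z = z
  τu : ρ τ u = u
  τ'e : ρ τ' e = e
  τ'z : ρ τ' z = z + e
  τ'u : ρ τ' u = u
  torus : ∀ k k' : ZMod p, k * k' = 1 → ∃ g : G, ρ g e = k' • e ∧ ρ g z = k • z ∧ ρ g u = u

/-- A regular unipotent element in an irreducible group. -/
structure Reg (ρ : G →* Module.End (ZMod p) V) (τ : G) (e t z : V) : Prop where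
  li : LinearIndependent (ZMod p) ![e, t, z]
  τe : ρ τ e = e + t
  τt : ρ τ t = t + z
  τz : ρ τ z = z
  irr : ∀ W : Submodule (ZMod p) V, (∀ g : G, ∀ w ∈ W, ρ g w ∈ W) → W = ⊥ ∨ W = ⊤

/-- The stabiliser of the series `0 ≤ W1 ≤ W2 ≤ V`. -/
def flag (ρ : G →* Module.End (ZMod p) V) (W1 W2 : Submodule (ZMod p) V) (hW : W1 ≤ W2) :
    Subgroup G where
  carrier := {g | (∀ w ∈ W1, ρ g w = w) ∧ (∀ w ∈ W2, ρ g w - w ∈ W1) ∧ ∀ v, ρ g v - v ∈ W2}
  one_mem' := ⟨fun w _ => by simp, fun w _ => by simp, fun v => by simp⟩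
  mul_mem' := by
    rintro g k ⟨g1, g2, g3⟩ ⟨k1, k2, k3⟩
    refine ⟨fun w hw => ?_, fun w hw => ?_, fun v => ?_⟩
    · rw [map_mul, Module.End.mul_apply, k1 w hw, g1 w hw]
    · have e : ρ (g * k) w - w = ρ g (ρ k w - w) + (ρ g w - w) := by
        rw [map_mul, Module.End.mul_apply, map_sub]; abel
      rw [e, g1 _ (k2 w hw)]
      exact W1.add_mem (k2 w hw) (g2 w hw)
    · have e : ρ (g * k) v - v =
          (ρ g (ρ k v - v) - (ρ k v - v)) + (ρ k v - v) + (ρ g v - v) := by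
        rw [map_mul, Module.End.mul_apply, map_sub]; abel
      rw [e]
      exact W2.add_mem (W2.add_mem (hW (g2 _ (k3 v))) (k3 v)) (g3 v)
  inv_mem' := by
    rintro g ⟨g1, g2, g3⟩
    have i1 : ∀ w ∈ W1, ρ g⁻¹ w = w := fun w hw => by
      conv_lhs => rw [← g1 w hw, rho_inv_apply]
    have key : ∀ v, ρ g⁻¹ v - v = -(ρ g⁻¹ (ρ g v - v)) := fun v => by
      rw [map_sub, rho_inv_apply]; abel
    have i2 : ∀ w ∈ W2, ρ g⁻¹ w - w ∈ W1 := fun w hw => by
      rw [key, i1 _ (g2 w hw)]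
      exact W1.neg_mem (g2 w hw)
    refine ⟨i1, i2, fun v => ?_⟩
    rw [key]
    refine W2.neg_mem ?_
    have := W2.add_mem (hW (i2 _ (g3 v))) (g3 v)
    rwa [sub_add_cancel] at this

theorem mem_flag {ρ : G →* Module.End (ZMod p) V} {W1 W2 : Submodule (ZMod p) V} {hW : W1 ≤ W2}
    {g : G} : g ∈ flag ρ W1 W2 hW ↔
      (∀ w ∈ W1, ρ g w = w) ∧ (∀ w ∈ W2, ρ g w - w ∈ W1) ∧ ∀ v, ρ g v - v ∈ W2 :=
  Iff.rfl

theorem flag_normal {ρ : G →* Module.End (ZMod p) V} {W1 W2 : Submodule (ZMod p) V} (hW : W1 ≤ W2)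
    (h1 : ∀ g : G, ∀ w ∈ W1, ρ g w ∈ W1) (h2 : ∀ g : G, ∀ w ∈ W2, ρ g w ∈ W2) :
    (flag ρ W1 W2 hW).Normal where
  conj_mem := by
    intro n hn g
    obtain ⟨n1, n2, n3⟩ := mem_flag.1 hn
    have key : ∀ v, ρ (g * n * g⁻¹) v - v = ρ g (ρ n (ρ g⁻¹ v) - ρ g⁻¹ v) := fun v => by
      rw [map_mul, map_mul, Module.End.mul_apply, Module.End.mul_apply, map_sub, rho_apply_inv]
    refine ⟨fun w hw => ?_, fun w hw => ?_, fun v => ?_⟩
    · rw [← sub_eq_zero, key, n1 _ (h1 _ w hw), sub_self, map_zero]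
    · rw [key]; exact h1 _ _ (n2 _ (h2 _ w hw))
    · rw [key]; exact h2 _ _ (n3 _)

variable {ρ : G →* Module.End (ZMod p) V} {T : Sylow p G} {Y : Subgroup G}
variable (h : Setup ρ T Y)
include h

theorem Setup.pow_p_of_cube {g : G} (hg : (ρ g - 1) ^ 3 = 0) : g ^ p = 1 := by
  haveI : Nontrivial V := Module.nontrivial_of_finrank_pos (R := ZMod p) (by rw [h.dim]; norm_num)
  haveI : CharP (Module.End (ZMod p) V) p := charP_of_injective_algebraMap' (ZMod p) p
  refine h.inj ?_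
  have e := sub_pow_char_pow_of_commute p 1 (Commute.one_right (ρ g))
  rw [pow_one, pow_eq_zero_of_le h.three hg, one_pow] at e
  rw [map_pow, map_one, ← sub_eq_zero.1 e.symm]

theorem Setup.flag_pGroup (W1 W2 : Submodule (ZMod p) V) (hW : W1 ≤ W2) :
    IsPGroup p (flag ρ W1 W2 hW) := by
  rintro ⟨g, hg⟩
  obtain ⟨g1, g2, g3⟩ := mem_flag.1 hg
  refine ⟨1, Subtype.ext ?_⟩
  rw [pow_one, SubmonoidClass.coe_pow, OneMemClass.coe_one]
  refine h.pow_p_of_cube (LinearMap.ext fun v => ?_)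
  rw [pow_succ', pow_two, Module.End.mul_apply, Module.End.mul_apply, LinearMap.sub_apply,
    Module.End.one_apply, g1 _ ?_, sub_self]
  · rfl
  · exact g2 _ (g3 v)

theorem Setup.flag_eq_bot {W1 W2 : Submodule (ZMod p) V} (hW : W1 ≤ W2)
    (h1 : ∀ g : G, ∀ w ∈ W1, ρ g w ∈ W1) (h2 : ∀ g : G, ∀ w ∈ W2, ρ g w ∈ W2) :
    flag ρ W1 W2 hW = ⊥ := by
  haveI := flag_normal hW h1 h2
  by_contra hne
  refine h.top (top_le_iff.1 (le_of_eq_of_le ?_ (h.norm _
    (IsPGroup.le_sylow_of_normal (h.flag_pGroup W1 W2 hW) T) hne)))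
  exact (Subgroup.normalizer_eq_top_iff.2 inferInstance).symm

theorem Setup.flag_eq_T {W1 W2 : Submodule (ZMod p) V} (hW : W1 ≤ W2)
    (hT : (T : Subgroup G) ≤ flag ρ W1 W2 hW) : flag ρ W1 W2 hW = T :=
  T.is_maximal' (h.flag_pGroup W1 W2 hW) hT

theorem Setup.tv_pair {τ : G} (hτ : τ ∈ (T : Subgroup G)) {a : V} {f : V →ₗ[ZMod p] ZMod p}
    (hz : IsTv (ρ τ) a f) : ∃ τ' e z u, Pair ρ τ τ' e z u := by
  haveI := h.fd
  haveI : NeZero p := ⟨hp.out.ne_zero⟩
  obtain ⟨γ, hγ⟩ : ∃ γ, γ ∉ Y := by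
    by_contra! hc
    exact h.top ((Subgroup.eq_top_iff' _).2 hc)
  have h1 : f (ρ γ a) ≠ 0 := fun e => hγ (h.linked' hτ hz e)
  have h2 : f (ρ γ⁻¹ a) ≠ 0 := fun e => hγ (h.linked hτ hz e)
  obtain ⟨e, he⟩ : ∃ e, e = (f (ρ γ a))⁻¹ • ρ γ a := ⟨_, rfl⟩
  have hfe : f e = 1 := by rw [he, map_smul, smul_eq_mul, inv_mul_cancel₀ h1]
  have hge : f (ρ γ⁻¹ e) = 0 := by rw [he, map_smul, map_smul, rho_inv_apply, hz.self, smul_zero]
  obtain ⟨u, hu, hu0⟩ := (Submodule.ne_bot_iff _).1 (show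
      LinearMap.ker (f.prod (f.comp (ρ γ⁻¹))) ≠ ⊥ by
    refine LinearMap.ker_ne_bot_of_finrank_lt ?_
    rw [Module.finrank_prod, Module.finrank_self, h.dim]
    norm_num)
  rw [LinearMap.mem_ker, LinearMap.prod_apply] at hu
  have hfu : f u = 0 := congrArg Prod.fst hu
  have hgu : f (ρ γ⁻¹ u) = 0 := congrArg Prod.snd hu
  have li : LinearIndependent (ZMod p) ![e, a, u] := by
    rw [Fintype.linearIndependent_iff]
    intro g hg
    rw [Fin.sum_univ_three] at hg
    simp only [Matrix.cons_val_zero, Matrix.cons_val_one, Matrix.cons_val] at hg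
    have g0 := congrArg f hg
    simp only [map_add, map_smul, map_zero, hfe, hz.self, hfu, smul_zero, add_zero, smul_eq_mul,
      mul_one, mul_zero] at g0
    have g1 := congrArg (f.comp (ρ γ⁻¹)) hg
    simp only [LinearMap.comp_apply, map_add, map_smul, map_zero, hge, hgu, smul_eq_mul, mul_zero,
      add_zero, zero_add] at g1
    have g1' := (mul_eq_zero.1 g1).resolve_right h2
    rw [g0, g1', zero_smul, zero_smul, zero_add, zero_add] at hg
    have g2 := (smul_eq_zero.1 hg).resolve_right hu0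
    intro i
    fin_cases i
    exacts [g0, g1', g2]
  have tv : IsTv (ρ (γ * τ * γ⁻¹)) (ρ γ a) (f.comp (ρ γ⁻¹)) := by
    refine ⟨fun v => ?_, ?_, fun e0 => h1 (by rw [e0, map_zero]), fun e0 => h2 ?_⟩
    · rw [map_mul, map_mul, Module.End.mul_apply, Module.End.mul_apply, hz.apply, map_add,
        map_smul, rho_apply_inv, LinearMap.comp_apply]
    · rw [LinearMap.comp_apply, rho_inv_apply, hz.self]
    · exact LinearMap.congr_fun e0 a
  obtain ⟨n, hn⟩ : ∃ n : ℕ, (n : ZMod p) = (f (ρ γ a) * f (ρ γ⁻¹ a))⁻¹ :=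
    ⟨_, ZMod.natCast_zmod_val _⟩
  have hτ' : ∀ v, ρ ((γ * τ * γ⁻¹) ^ n) v = v + ((f (ρ γ⁻¹ a))⁻¹ * f (ρ γ⁻¹ v)) • e := fun v => by
    rw [map_pow, tv.pow_apply, LinearMap.comp_apply, he, hn, smul_smul]
    congr 2
    field_simp
  have τe : ρ τ e = e + a := by rw [hz.apply, hfe, one_smul]
  have τz : ρ τ a = a := by rw [hz.apply, hz.self, zero_smul, add_zero]
  have τu : ρ τ u = u := by rw [hz.apply, hfu, zero_smul, add_zero]
  have τ'e : ρ ((γ * τ * γ⁻¹) ^ n) e = e := by rw [hτ', hge, mul_zero, zero_smul, add_zero]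
  have τ'z : ρ ((γ * τ * γ⁻¹) ^ n) a = a + e := by rw [hτ', inv_mul_cancel₀ h2, one_smul]
  have τ'u : ρ ((γ * τ * γ⁻¹) ^ n) u = u := by rw [hτ', hgu, mul_zero, zero_smul, add_zero]
  generalize (γ * τ * γ⁻¹) ^ n = τ' at τ'e τ'z τ'u
  refine ⟨τ', e, a, u, li, τe, τz, τu, τ'e, τ'z, τ'u, fun k k' hk => ?_⟩
  refine ⟨τ' ^ (k' - 1).val * τ * τ' ^ (k - 1).val * τ ^ (-k').val, ?_⟩
  obtain ⟨t1, t2⟩ := torus_mod' (A := ρ τ) (B := ρ τ') ⊥ (by simp +contextual) (by simp +contextual)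
    (by rw [τe, sub_self]; exact zero_mem _) (by rw [τz, sub_self]; exact zero_mem _)
    (by rw [τ'z, sub_self]; exact zero_mem _) (by rw [τ'e, sub_self]; exact zero_mem _) hk
  rw [Submodule.mem_bot, sub_eq_zero] at t1 t2
  simp only [map_mul, map_pow]
  refine ⟨t1, t2, ?_⟩
  have fixed : ∀ (A : Module.End (ZMod p) V), A u = u → ∀ m : ℕ, (A ^ m) u = u := fun A hA m => by
    induction m with
    | zero => simp
    | succ m ih => rw [pow_succ', Module.End.mul_apply, ih, hA]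
  simp only [Module.End.mul_apply, fixed _ τu, fixed _ τ'u, τu]

theorem Setup.exists_not_mem : ∃ γ, γ ∉ Y := by
  by_contra! hc
  exact h.top ((Subgroup.eq_top_iff' _).2 hc)

theorem Setup.two_ne : (2 : ZMod p) ≠ 0 := by
  intro e
  have h2 := h.three
  have := Nat.le_of_dvd (by norm_num) ((ZMod.natCast_eq_zero_iff 2 p).1 (by exact_mod_cast e))
  omega

theorem Setup.T_eq_zpowers {τ : G} (hτ : τ ∈ (T : Subgroup G)) (hτ1 : τ ≠ 1) :
    (T : Subgroup G) = Subgroup.zpowers τ := by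
  refine (Subgroup.eq_of_le_of_card_ge (Subgroup.zpowers_le.2 hτ) ?_).symm
  obtain ⟨m, hm⟩ := IsPGroup.iff_card.1 (T.2.to_le (Subgroup.zpowers_le.2 hτ))
  rw [h.card_T, hm]
  refine Nat.le_self_pow (fun e => hτ1 ?_) p
  rw [e, pow_zero, Subgroup.card_eq_one, Subgroup.zpowers_eq_bot] at hm
  exact hm

/-- No line is fixed. -/
theorem Setup.no_line {τ : G} (hτ : τ ∈ (T : Subgroup G)) {e t z : V}
    (hli : LinearIndependent (ZMod p) ![e, t, z]) (τe : ρ τ e = e + t) (τt : ρ τ t = t + z)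
    (τz : ρ τ z = z) (hinv : ∀ g : G, ∀ w ∈ (ZMod p) ∙ z, ρ g w ∈ (ZMod p) ∙ z) : False := by
  haveI := h.fd
  haveI : NeZero p := ⟨hp.out.ne_zero⟩
  have hz : z ≠ 0 := by simpa using hli.ne_zero 2
  have hspan := hli.span_eq_top_of_card_eq_finrank (by rw [h.dim]; rfl)
  have coord : ∀ v, ∃ a b c : ZMod p, v = a • e + b • t + c • z := fun v => by
    obtain ⟨g, hg⟩ := (Submodule.mem_span_range_iff_exists_fun (ZMod p)).1
      (hspan.symm ▸ Submodule.mem_top (x := v))
    rw [Fin.sum_univ_three] at hg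
    exact ⟨g 0, g 1, g 2, hg.symm⟩
  set L : Submodule (ZMod p) V := (ZMod p) ∙ z with hL
  set P : Submodule (ZMod p) V := Submodule.span (ZMod p) {t, z} with hP
  have hzL : z ∈ L := Submodule.mem_span_singleton_self z
  have htP : t ∈ P := Submodule.subset_span (by simp)
  have hLP : L ≤ P := Submodule.span_mono (by simp)
  have nL : ∀ w ∈ L, ρ τ w = w := fun w hw => by
    obtain ⟨c, rfl⟩ := Submodule.mem_span_singleton.1 hw
    rw [map_smul, τz]
  have nP : ∀ w ∈ P, ρ τ w - w ∈ L := fun w hw => by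
    obtain ⟨c, d, rfl⟩ := Submodule.mem_span_pair.1 hw
    have : ρ τ (c • t + d • z) - (c • t + d • z) = c • z := by
      rw [map_add, map_smul, map_smul, τt, τz]; module
    rw [this]; exact L.smul_mem c hzL
  have nV : ∀ v, ρ τ v - v ∈ P := fun v => by
    obtain ⟨a, b, c, rfl⟩ := coord v
    have : ρ τ (a • e + b • t + c • z) - (a • e + b • t + c • z) = a • t + b • z := by
      rw [map_add, map_add, map_smul, map_smul, map_smul, τe, τt, τz]; module
    rw [this]; exact Submodule.mem_span_pair.2 ⟨a, b, rfl⟩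
  have hτ1 : τ ≠ 1 := fun e0 => by
    rw [e0, map_one, Module.End.one_apply, left_eq_add] at τt; exact hz τt
  have hTU : flag ρ L P hLP = T := h.flag_eq_T hLP (by
    rw [h.T_eq_zpowers hτ hτ1, Subgroup.zpowers_le]; exact ⟨nL, nP, nV⟩)
  obtain ⟨γ, hγ⟩ := h.exists_not_mem
  set τ1 := γ * τ * γ⁻¹ with hτ1d
  have key : ∀ v, ρ τ1 v - v = ρ γ (ρ τ (ρ γ⁻¹ v) - ρ γ⁻¹ v) := fun v => by
    rw [hτ1d, map_mul, map_mul, Module.End.mul_apply, Module.End.mul_apply, map_sub, rho_apply_inv]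
  clear_value τ1
  have mL : ∀ w ∈ L, ρ τ1 w = w := fun w hw => by
    rw [← sub_eq_zero, key, nL _ (hinv _ w hw), sub_self, map_zero]
  obtain ⟨c0, hc0⟩ := Submodule.mem_span_singleton.1 (hinv γ z hzL)
  obtain ⟨a, b, c, hgt⟩ := coord (ρ γ t)
  by_cases ha : a = 0
  · -- both conjugates lie in the stabiliser of the flag
    rw [ha, zero_smul, zero_add] at hgt
    have hb : b ≠ 0 := fun e0 => by
      rw [e0, zero_smul, zero_add] at hgt
      have hm : ρ γ⁻¹ (ρ γ t) ∈ L := hinv γ⁻¹ _ (hgt ▸ L.smul_mem c hzL)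
      rw [rho_inv_apply] at hm
      obtain ⟨d, hd⟩ := Submodule.mem_span_singleton.1 hm
      have := Fintype.linearIndependent_iff.1 hli ![0, 1, -d] (by
        rw [Fin.sum_univ_three]
        simp [← hd]) 1
      simp at this
    have gP : ∀ w ∈ P, ρ γ w ∈ P := fun w hw => by
      obtain ⟨x, y, rfl⟩ := Submodule.mem_span_pair.1 hw
      rw [map_add, map_smul, map_smul, hgt, ← hc0]
      exact P.add_mem (P.smul_mem _ (Submodule.mem_span_pair.2 ⟨b, c, rfl⟩))
        (P.smul_mem _ (P.smul_mem _ (hLP hzL)))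
    refine hγ (h.mem_of hτ hτ1 ?_)
    rw [← hτ1d, ← hTU]
    refine ⟨mL, fun w hw => ?_, fun v => ?_⟩
    · obtain ⟨x, y, rfl⟩ := Submodule.mem_span_pair.1 hw
      have et : t = b⁻¹ • ρ γ t - (b⁻¹ * c) • z := by
        rw [hgt, smul_add, smul_smul, smul_smul, inv_mul_cancel₀ hb, one_smul, add_sub_cancel_right]
      have : ρ τ1 (x • t + y • z) - (x • t + y • z) = (x * b⁻¹ * c0) • z := by
        have e1 : ρ τ1 (ρ γ t) - ρ γ t = c0 • z := by
          rw [key, rho_inv_apply, τt, add_sub_cancel_left, hc0]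
        rw [et]
        simp only [map_add, map_sub, map_smul, mL z hzL]
        linear_combination (norm := module) (x * b⁻¹) • e1
      rw [this]; exact L.smul_mem _ hzL
    · rw [key]; exact gP _ (nV _)
  · set e1 := a⁻¹ • ρ γ t with he1
    have he1' : e1 = e + (a⁻¹ * b) • t + (a⁻¹ * c) • z := by
      rw [he1, hgt, smul_add, smul_add, smul_smul, smul_smul, smul_smul, inv_mul_cancel₀ ha,
        one_smul]
    have Ne1 : ρ τ1 e1 - e1 ∈ L := by
      rw [he1, map_smul, ← smul_sub, key, rho_inv_apply, τt, add_sub_cancel_left, ← hc0]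
      exact L.smul_mem _ (L.smul_mem _ hzL)
    have τe1 : ρ τ e1 - (e1 + t) = (a⁻¹ * b) • z := by
      rw [he1', map_add, map_add, map_smul, map_smul, τe, τt, τz]; module
    clear_value e1
    obtain ⟨d, x, hd⟩ : ∃ d x : ZMod p, ρ τ1 t - t = d • e1 + x • z := by
      obtain ⟨x, y, hxy⟩ := Submodule.mem_span_pair.1 (nV (ρ γ⁻¹ t))
      refine ⟨x * a, y * c0, ?_⟩
      rw [key, ← hxy, map_add, map_smul, map_smul, ← hc0, he1, smul_smul, smul_smul,
        mul_assoc, mul_inv_cancel₀ ha, mul_one]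
    have hd0 : d ≠ 0 := fun e0 => by
      rw [e0, zero_smul, zero_add] at hd
      have sub : ∀ v, ρ τ1 v - v ∈ L := fun v => by
        obtain ⟨p1, p2, p3, rfl⟩ := coord v
        have : ρ τ1 (p1 • e + p2 • t + p3 • z) - (p1 • e + p2 • t + p3 • z) =
            p1 • (ρ τ1 e1 - e1) + (p2 - p1 * (a⁻¹ * b)) • (ρ τ1 t - t) := by
          simp only [he1', map_add, map_smul, mL z hzL]
          module
        rw [this, hd]
        exact L.add_mem (L.smul_mem _ Ne1) (L.smul_mem _ (L.smul_mem _ hzL))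
      have h1 := sub (ρ γ e)
      rw [key, rho_inv_apply, τe, add_sub_cancel_left] at h1
      obtain ⟨q, hq⟩ := Submodule.mem_span_singleton.1 h1
      have := Fintype.linearIndependent_iff.1 hli ![-a, -b, q - c] (by
        rw [Fin.sum_univ_three]
        simp only [Matrix.cons_val_zero, Matrix.cons_val_one, Matrix.cons_val]
        linear_combination (norm := module) hq + hgt) 0
      simp [ha] at this
    obtain ⟨n, hn⟩ : ∃ n : ℕ, (n : ZMod p) = d⁻¹ := ⟨_, ZMod.natCast_zmod_val _⟩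
    have pows : ∀ m : ℕ, ρ (τ1 ^ m) e1 - e1 ∈ L ∧ ρ (τ1 ^ m) t - (t + ((m : ZMod p) * d) • e1) ∈ L ∧
        ρ (τ1 ^ m) z = z := by
      intro m
      induction m with
      | zero => simp
      | succ m ih =>
        obtain ⟨i1, i2, i3⟩ := ih
        refine ⟨?_, ?_, ?_⟩
        · have e0 : ρ (τ1 ^ (m + 1)) e1 - e1 =
              ρ τ1 (ρ (τ1 ^ m) e1 - e1) + (ρ τ1 e1 - e1) := by
            rw [pow_succ', map_mul, Module.End.mul_apply, map_sub]; abel
          rw [e0, mL _ i1]; exact L.add_mem i1 Ne1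
        · have e0 : ρ (τ1 ^ (m + 1)) t - (t + (((m + 1 : ℕ) : ZMod p) * d) • e1) =
              ρ τ1 (ρ (τ1 ^ m) t - (t + ((m : ZMod p) * d) • e1)) +
                ((m : ZMod p) * d) • (ρ τ1 e1 - e1) + ((ρ τ1 t - t) - d • e1) := by
            rw [pow_succ', map_mul, Module.End.mul_apply, Nat.cast_succ]
            simp only [map_sub, map_add, map_smul]
            module
          rw [e0, mL _ i2, hd, add_sub_cancel_left]
          exact L.add_mem (L.add_mem i2 (L.smul_mem _ Ne1)) (L.smul_mem _ hzL)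
        · rw [pow_succ', map_mul, Module.End.mul_apply, i3, mL z hzL]
    obtain ⟨p1, p2, p3⟩ := pows n
    rw [hn, inv_mul_cancel₀ hd0, one_smul] at p2
    generalize τ1 ^ n = τ2 at p1 p2 p3
    have kk : (-1 : ZMod p) * -1 = 1 := by ring
    obtain ⟨s1, s2⟩ := torus_mod' (A := ρ τ) (B := ρ τ2) L (fun v hv => (nL v hv).symm ▸ hv)
      (fun v hv => hinv τ2 v hv) (e := e1) (w := t)
      (τe1 ▸ L.smul_mem _ hzL) (by rw [τt, add_sub_cancel_left]; exact hzL) p2 p1 kk
    set g := τ2 ^ ((-1 : ZMod p) - 1).val * τ * τ2 ^ ((-1 : ZMod p) - 1).val * τ ^ (-(-1 : ZMod p)).val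
      with hgd
    have gz : ρ g z = z := by
      have : g ∈ ({x | ρ x z = z} : Set G) := by
        have hm : ∀ x y : G, ρ x z = z → ρ y z = z → ρ (x * y) z = z := fun x y hx hy => by
          rw [map_mul, Module.End.mul_apply, hy, hx]
        have hpw : ∀ x : G, ρ x z = z → ∀ m : ℕ, ρ (x ^ m) z = z := fun x hx m => by
          induction m with
          | zero => simp
          | succ m ih => rw [pow_succ']; exact hm _ _ hx ih
        exact hm _ _ (hm _ _ (hm _ _ (hpw _ p3 _) τz) (hpw _ p3 _)) (hpw _ τz _)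
      exact this
    simp only [← map_pow, ← map_mul, ← hgd] at s1 s2
    clear_value g
    simp only [neg_one_smul, sub_neg_eq_add] at s1 s2
    have gw : ∀ v, ∃ w ∈ L, ρ g (ρ τ v) - ρ τ (ρ g v) = w := fun v => by
      obtain ⟨x1, x2, x3, rfl⟩ := coord v
      refine ⟨_, ?_, rfl⟩
      have g1 : ρ g (ρ τ e1) - ρ τ (ρ g e1) ∈ L := by
        obtain ⟨y1, hy1⟩ := Submodule.mem_span_singleton.1 s1
        obtain ⟨y2, hy2⟩ := Submodule.mem_span_singleton.1 s2
        refine Submodule.mem_span_singleton.2 ⟨y2 + (a⁻¹ * b) + (a⁻¹ * b), ?_⟩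
        have t1 : ρ τ (ρ g e1) = -ρ τ e1 + y1 • z := by
          rw [eq_sub_of_add_eq hy1.symm, map_sub, map_smul, τz]; abel
        rw [t1, show ρ τ e1 = e1 + t + (a⁻¹ * b) • z by rw [← τe1]; abel, map_add, map_add,
          map_smul, gz, eq_sub_of_add_eq hy1.symm, eq_sub_of_add_eq hy2.symm]
        module
      have g2 : ρ g (ρ τ t) - ρ τ (ρ g t) ∈ L := by
        obtain ⟨y2, hy2⟩ := Submodule.mem_span_singleton.1 s2
        refine Submodule.mem_span_singleton.2 ⟨1 + 1, ?_⟩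
        rw [τt, map_add, gz, eq_sub_of_add_eq hy2.symm, map_sub, map_smul, τz, τt]
        module
      have : ρ g (ρ τ (x1 • e + x2 • t + x3 • z)) - ρ τ (ρ g (x1 • e + x2 • t + x3 • z)) =
          x1 • (ρ g (ρ τ e1) - ρ τ (ρ g e1)) +
            (x2 - x1 * (a⁻¹ * b)) • (ρ g (ρ τ t) - ρ τ (ρ g t)) := by
        simp only [he1', map_add, map_smul, τz, gz]
        module
      rw [this]
      exact L.add_mem (L.smul_mem _ g1) (L.smul_mem _ g2)
    have hc : g * τ * (τ * g)⁻¹ ∈ flag ρ L L le_rfl := by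
      have hd' : ∀ v, ρ (g * τ * (τ * g)⁻¹) v - v ∈ L := fun v => by
        obtain ⟨w, hw, hw'⟩ := gw (ρ (τ * g)⁻¹ v)
        have e2 : ρ τ (ρ g (ρ (τ * g)⁻¹ v)) = v := by
          rw [← Module.End.mul_apply, ← map_mul, rho_apply_inv]
        rw [e2, ← Module.End.mul_apply, ← map_mul, ← Module.End.mul_apply, ← map_mul] at hw'
        rw [hw']; exact hw
      refine ⟨fun w hw => ?_, fun w _ => hd' w, hd'⟩
      obtain ⟨x1, rfl⟩ := Submodule.mem_span_singleton.1 hw
      rw [map_smul]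
      congr 1
      have e2 : ρ (τ * g) z = z := by rw [map_mul, Module.End.mul_apply, gz, τz]
      conv_lhs => rw [← e2, ← Module.End.mul_apply, ← map_mul, inv_mul_cancel_right]
      rw [map_mul, Module.End.mul_apply, τz, gz]
    rw [h.flag_eq_bot le_rfl hinv hinv, Subgroup.mem_bot, mul_inv_eq_one] at hc
    have hcomm : ∀ v, ρ g (ρ τ v) = ρ τ (ρ g v) := fun v => by
      rw [← Module.End.mul_apply, ← map_mul, hc, map_mul, Module.End.mul_apply]
    obtain ⟨y2, hy2⟩ := Submodule.mem_span_singleton.1 s2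
    have h2 := hcomm t
    rw [τt, map_add, gz, eq_sub_of_add_eq hy2.symm, map_sub, map_smul, τz, τt] at h2
    have h3 : (2 : ZMod p) • z = 0 := by linear_combination (norm := module) h2
    exact hz ((smul_eq_zero.1 h3).resolve_left h.two_ne)

/-- No plane is fixed. -/
theorem Setup.no_plane {τ : G} (hτ : τ ∈ (T : Subgroup G)) {e t z : V}
    (hli : LinearIndependent (ZMod p) ![e, t, z]) (τe : ρ τ e = e + t) (τt : ρ τ t = t + z)
    (τz : ρ τ z = z)
    (hinv : ∀ g : G, ∀ w ∈ Submodule.span (ZMod p) ({t, z} : Set V),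
      ρ g w ∈ Submodule.span (ZMod p) ({t, z} : Set V)) : False := by
  haveI := h.fd
  haveI : NeZero p := ⟨hp.out.ne_zero⟩
  have hz : z ≠ 0 := by simpa using hli.ne_zero 2
  have hspan := hli.span_eq_top_of_card_eq_finrank (by rw [h.dim]; rfl)
  have coord : ∀ v, ∃ a b c : ZMod p, v = a • e + b • t + c • z := fun v => by
    obtain ⟨g, hg⟩ := (Submodule.mem_span_range_iff_exists_fun (ZMod p)).1
      (hspan.symm ▸ Submodule.mem_top (x := v))
    rw [Fin.sum_univ_three] at hg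
    exact ⟨g 0, g 1, g 2, hg.symm⟩
  set L : Submodule (ZMod p) V := (ZMod p) ∙ z with hL
  set P : Submodule (ZMod p) V := Submodule.span (ZMod p) {t, z} with hP
  have hzL : z ∈ L := Submodule.mem_span_singleton_self z
  have hLP : L ≤ P := Submodule.span_mono (by simp)
  have htP : t ∈ P := Submodule.subset_span (by simp)
  have hzP : z ∈ P := hLP hzL
  have nL : ∀ w ∈ L, ρ τ w = w := fun w hw => by
    obtain ⟨c, rfl⟩ := Submodule.mem_span_singleton.1 hw
    rw [map_smul, τz]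
  have nV : ∀ v, ρ τ v - v ∈ P := fun v => by
    obtain ⟨a, b, c, rfl⟩ := coord v
    have : ρ τ (a • e + b • t + c • z) - (a • e + b • t + c • z) = a • t + b • z := by
      rw [map_add, map_add, map_smul, map_smul, map_smul, τe, τt, τz]; module
    rw [this]; exact Submodule.mem_span_pair.2 ⟨a, b, rfl⟩
  have nP : ∀ w ∈ P, ρ τ w - w ∈ L := fun w hw => by
    obtain ⟨c, d, rfl⟩ := Submodule.mem_span_pair.1 hw
    have : ρ τ (c • t + d • z) - (c • t + d • z) = c • z := by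
      rw [map_add, map_smul, map_smul, τt, τz]; module
    rw [this]; exact L.smul_mem c hzL
  have hτ1 : τ ≠ 1 := fun e0 => by
    rw [e0, map_one, Module.End.one_apply, left_eq_add] at τt; exact hz τt
  have hTU : flag ρ L P hLP = T := h.flag_eq_T hLP (by
    rw [h.T_eq_zpowers hτ hτ1, Subgroup.zpowers_le]; exact ⟨nL, nP, nV⟩)
  obtain ⟨γ, hγ⟩ := h.exists_not_mem
  set τ1 := γ * τ * γ⁻¹ with hτ1d
  have key : ∀ v, ρ τ1 v - v = ρ γ (ρ τ (ρ γ⁻¹ v) - ρ γ⁻¹ v) := fun v => by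
    rw [hτ1d, map_mul, map_mul, Module.End.mul_apply, Module.End.mul_apply, map_sub, rho_apply_inv]
  clear_value τ1
  have m1 : ρ τ1 (ρ γ z) = ρ γ z := by
    rw [← sub_eq_zero, key, rho_inv_apply, τz, sub_self, map_zero]
  obtain ⟨a, b, hgz⟩ := Submodule.mem_span_pair.1 (hinv γ z hzP)
  have mP : ∀ w ∈ P, ∃ q : ZMod p, ρ τ1 w - w = q • ρ γ z := fun w hw => by
    obtain ⟨q, hq⟩ := Submodule.mem_span_singleton.1 (nP _ (hinv γ⁻¹ w hw))
    exact ⟨q, by rw [key, ← hq, map_smul]⟩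
  have mV : ∀ v, ρ τ1 v - v ∈ P := fun v => by rw [key]; exact hinv _ _ (nV _)
  by_cases ha : a = 0
  · rw [ha, zero_smul, zero_add] at hgz
    have hb : b ≠ 0 := fun e0 => by
      rw [e0, zero_smul] at hgz
      have := congrArg (ρ γ⁻¹) hgz
      rw [map_zero, rho_inv_apply] at this
      exact hz this.symm
    refine hγ (h.mem_of hτ hτ1 ?_)
    rw [← hτ1d, ← hTU]
    refine ⟨fun w hw => ?_, fun w hw => ?_, mV⟩
    · obtain ⟨x, rfl⟩ := Submodule.mem_span_singleton.1 hw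
      have : x • z = (x * b⁻¹) • ρ γ z := by
        rw [← hgz, smul_smul, mul_assoc, inv_mul_cancel₀ hb, mul_one]
      rw [this, map_smul, m1]
    · obtain ⟨q, hq⟩ := mP w hw
      rw [hq, ← hgz]
      exact L.smul_mem _ (L.smul_mem _ hzL)
  · set e1 := a⁻¹ • ρ γ z with he1
    have he1' : e1 = t + (a⁻¹ * b) • z := by
      rw [he1, ← hgz, smul_add, smul_smul, smul_smul, inv_mul_cancel₀ ha, one_smul]
    have te1 : ρ τ e1 = e1 + z := by
      rw [he1', map_add, map_smul, τt, τz]; module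
    have fe1 : ρ τ1 e1 = e1 := by rw [he1, map_smul, m1]
    obtain ⟨d, hd⟩ : ∃ d : ZMod p, ρ τ1 z - z = d • e1 := by
      obtain ⟨q, hq⟩ := mP z hzP
      exact ⟨q * a, by rw [hq, he1, smul_smul, mul_assoc, mul_inv_cancel₀ ha, mul_one]⟩
    have hgz0 : ρ γ z ≠ 0 := fun e0 => by
      have := congrArg (ρ γ⁻¹) e0
      rw [map_zero, rho_inv_apply] at this
      exact hz this
    clear_value e1
    have hd0 : d ≠ 0 := fun e0 => by
      rw [e0, zero_smul, sub_eq_zero] at hd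
      have fixP : ∀ w ∈ P, ρ τ1 w = w := fun w hw => by
        obtain ⟨x, y, rfl⟩ := Submodule.mem_span_pair.1 hw
        have : x • t + y • z = x • e1 + (y - x * (a⁻¹ * b)) • z := by rw [he1']; module
        rw [this, map_add, map_smul, map_smul, fe1, hd]
      have h1 := fixP _ (hinv γ t htP)
      rw [← sub_eq_zero, key, rho_inv_apply, τt, add_sub_cancel_left] at h1
      exact hgz0 h1
    obtain ⟨n, hn⟩ : ∃ n : ℕ, (n : ZMod p) = d⁻¹ := ⟨_, ZMod.natCast_zmod_val _⟩
    have pows : ∀ m : ℕ, ρ (τ1 ^ m) e1 = e1 ∧ ρ (τ1 ^ m) z = z + ((m : ZMod p) * d) • e1 ∧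
        ∀ v, ρ (τ1 ^ m) v - v ∈ P := by
      intro m
      induction m with
      | zero => simp
      | succ m ih =>
        obtain ⟨i1, i2, i3⟩ := ih
        refine ⟨?_, ?_, fun v => ?_⟩
        · rw [pow_succ', map_mul, Module.End.mul_apply, i1, fe1]
        · rw [pow_succ', map_mul, Module.End.mul_apply, i2, map_add, map_smul, fe1,
            eq_add_of_sub_eq hd, Nat.cast_succ]
          module
        · rw [pow_succ', map_mul, Module.End.mul_apply,
            ← sub_add_sub_cancel (ρ τ1 (ρ (τ1 ^ m) v)) (ρ (τ1 ^ m) v) v]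
          exact P.add_mem (mV _) (i3 v)
    obtain ⟨p1, p2, p3⟩ := pows n
    rw [hn, inv_mul_cancel₀ hd0, one_smul] at p2
    generalize τ1 ^ n = τ2 at p1 p2 p3
    have kk : (-1 : ZMod p) * -1 = 1 := by ring
    obtain ⟨s1, s2⟩ := torus_mod' (A := ρ τ) (B := ρ τ2) ⊥ (by simp +contextual) (by simp +contextual)
      (by rw [te1, sub_self]; exact zero_mem _) (by rw [τz, sub_self]; exact zero_mem _)
      (by rw [p2, sub_self]; exact zero_mem _) (by rw [p1, sub_self]; exact zero_mem _) kk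
    set g := τ2 ^ ((-1 : ZMod p) - 1).val * τ * τ2 ^ ((-1 : ZMod p) - 1).val * τ ^ (-(-1 : ZMod p)).val
      with hgd
    simp only [← map_pow, ← map_mul, ← hgd, Submodule.mem_bot, sub_eq_zero, neg_one_smul] at s1 s2
    have gV : ∀ v, ρ g v - v ∈ P := by
      have hm : ∀ x y : G, (∀ v, ρ x v - v ∈ P) → (∀ v, ρ y v - v ∈ P) →
          ∀ v, ρ (x * y) v - v ∈ P := fun x y hx hy v => by
        rw [map_mul, Module.End.mul_apply, ← sub_add_sub_cancel (ρ x (ρ y v)) (ρ y v) v]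
        exact P.add_mem (hx _) (hy v)
      have hpw : ∀ x : G, (∀ v, ρ x v - v ∈ P) → ∀ m : ℕ, ∀ v, ρ (x ^ m) v - v ∈ P := fun x hx m => by
        induction m with
        | zero => simp
        | succ m ih => rw [pow_succ']; exact hm _ _ hx ih
      exact hm _ _ (hm _ _ (hm _ _ (hpw _ p3 _) nV) (hpw _ p3 _)) (hpw _ nV _)
    clear_value g
    have gneg : ∀ w ∈ P, ρ g w = -w := fun w hw => by
      obtain ⟨x, y, rfl⟩ := Submodule.mem_span_pair.1 hw
      have : x • t + y • z = x • e1 + (y - x * (a⁻¹ * b)) • z := by rw [he1']; module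
      rw [this, map_add, map_smul, map_smul, s1, s2]; module
    have tneg : ∀ w ∈ P, ρ τ w ∈ P := fun w hw => hinv τ w hw
    have hc : g * τ * (τ * g)⁻¹ ∈ flag ρ P P le_rfl := by
      have e2 : ∀ v, ρ τ (ρ g (ρ (τ * g)⁻¹ v)) = v := fun v => by
        rw [← Module.End.mul_apply, ← map_mul, rho_apply_inv]
      have e3 : ∀ v, ρ (g * τ * (τ * g)⁻¹) v = ρ g (ρ τ (ρ (τ * g)⁻¹ v)) := fun v => by
        rw [map_mul, map_mul, Module.End.mul_apply, Module.End.mul_apply]
      refine ⟨fun w hw => ?_, fun w hw => ?_, fun v => ?_⟩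
      · set u := ρ (τ * g)⁻¹ w with hu
        have huP : u ∈ P := hinv _ w hw
        have h1 := e2 w
        rw [← hu, gneg u huP, map_neg] at h1
        rw [e3, ← hu, gneg _ (tneg u huP), h1]
      · exact P.sub_mem (hinv _ w hw) hw
      · have h1 := e2 v
        set u := ρ (τ * g)⁻¹ v
        rw [e3, ← sub_add_sub_cancel _ u, ← neg_sub v u, ← sub_eq_add_neg]
        refine P.sub_mem ?_ ?_
        · rw [← sub_add_sub_cancel _ (ρ τ u) u]; exact P.add_mem (gV _) (nV u)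
        · rw [← h1, ← sub_add_sub_cancel _ (ρ g u) u]; exact P.add_mem (nV _) (gV u)
    rw [h.flag_eq_bot le_rfl hinv hinv, Subgroup.mem_bot, mul_inv_eq_one] at hc
    have hcomm : ∀ v, ρ g (ρ τ v) = ρ τ (ρ g v) := fun v => by
      rw [← Module.End.mul_apply, ← map_mul, hc, map_mul, Module.End.mul_apply]
    obtain ⟨y1, y2, hy⟩ := Submodule.mem_span_pair.1 (gV e)
    have h2 := hcomm e
    rw [τe, map_add, gneg t htP, eq_add_of_sub_eq hy.symm] at h2
    simp only [map_add, map_smul, τe, τt, τz] at h2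
    have h3 : (2 : ZMod p) • t + y1 • z = 0 := by linear_combination (norm := module) -h2
    have := Fintype.linearIndependent_iff.1 hli ![0, 2, y1] (by
      rw [Fin.sum_univ_three]; simp [h3]) 1
    exact h.two_ne (by simpa using this)

/-- The two shapes. -/
theorem Setup.shapes : ∃ τ ∈ (T : Subgroup G), τ ≠ 1 ∧ (T : Subgroup G) = Subgroup.zpowers τ ∧
    ((∃ τ' e z u, Pair ρ τ τ' e z u) ∨ ∃ e t z, Reg ρ τ e t z) := by
  haveI := h.fd
  haveI : Nontrivial (T : Subgroup G) := (Subgroup.nontrivial_iff_ne_bot _).2 h.ne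
  obtain ⟨⟨τ, hτ⟩, hne⟩ := exists_ne (1 : (T : Subgroup G))
  have hτ1 : τ ≠ 1 := fun e => hne (Subtype.ext e)
  refine ⟨τ, hτ, hτ1, h.T_eq_zpowers hτ hτ1, ?_⟩
  obtain ⟨k, hk⟩ := h.exists_pow hτ
  set N := ρ τ - 1 with hN
  have hN3 : N ^ 3 = 0 := h.sub_one_pow hk
  by_cases hsq : N ^ 2 = 0
  · obtain ⟨a, f, hz⟩ := isTv_of_sq h.dim hsq fun e => hτ1 (h.inj (by rw [sub_eq_zero.1 e, map_one]))
    exact Or.inl (h.tv_pair hτ hz)
  obtain ⟨e, he⟩ : ∃ v, (N ^ 2) v ≠ 0 := by
    by_contra! hc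
    exact hsq (LinearMap.ext hc)
  have li := li_nilp hN3 he
  have hτv : ∀ v, ρ τ v = v + N v := fun v => by
    rw [hN, LinearMap.sub_apply, Module.End.one_apply, add_sub_cancel]
  have τe : ρ τ e = e + N e := hτv e
  have τt : ρ τ (N e) = N e + (N ^ 2) e := by rw [hτv, pow_two]; rfl
  have τz : ρ τ ((N ^ 2) e) = (N ^ 2) e := by
    rw [hτv, ← Module.End.mul_apply, ← pow_succ', hN3]; exact add_zero _
  refine Or.inr ⟨e, N e, (N ^ 2) e, li, τe, τt, τz, fun W hW => ?_⟩
  generalize N e = t at *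
  generalize (N ^ 2) e = z at *
  have hspan := li.span_eq_top_of_card_eq_finrank (by rw [h.dim]; rfl)
  have hNW : ∀ w ∈ W, ρ τ w - w ∈ W := fun w hw => W.sub_mem (hW _ w hw) hw
  have step : ∀ a b c : ZMod p,
      ρ τ (a • e + b • t + c • z) - (a • e + b • t + c • z) = a • t + b • z := fun a b c => by
    rw [map_add, map_add, map_smul, map_smul, map_smul, τe, τt, τz]; module
  by_contra! hne'
  obtain ⟨hbot, htop⟩ := hne'
  have hA : ∀ w ∈ W, ∃ b c : ZMod p, w = b • t + c • z := by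
    intro w hw
    obtain ⟨g, hg⟩ := (Submodule.mem_span_range_iff_exists_fun (ZMod p)).1
      (hspan.symm ▸ Submodule.mem_top (x := w))
    rw [Fin.sum_univ_three] at hg
    change g 0 • e + g 1 • t + g 2 • z = w at hg
    refine ⟨g 1, g 2, ?_⟩
    by_cases h0 : g 0 = 0
    · rw [← hg, h0, zero_smul, zero_add]
    exfalso
    subst hg
    have h1 := hNW _ hw
    rw [step] at h1
    have h1' := hNW _ h1
    have e1 : g 0 • t + g 1 • z = (0 : ZMod p) • e + g 0 • t + g 1 • z := by module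
    rw [e1, step, zero_smul, zero_add] at h1'
    have hzW : z ∈ W := (W.smul_mem_iff h0).1 h1'
    have htW : t ∈ W := by
      have := W.sub_mem h1 (W.smul_mem (g 1) hzW)
      rw [add_sub_cancel_right] at this
      exact (W.smul_mem_iff h0).1 this
    have heW : e ∈ W := by
      have := W.sub_mem (W.sub_mem hw (W.smul_mem (g 2) hzW)) (W.smul_mem (g 1) htW)
      rw [add_sub_cancel_right, add_sub_cancel_right] at this
      exact (W.smul_mem_iff h0).1 this
    refine htop (top_le_iff.1 (hspan ▸ Submodule.span_le.2 ?_))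
    rintro _ ⟨i, rfl⟩
    fin_cases i
    exacts [heW, htW, hzW]
  by_cases hB : ∀ w ∈ W, w ∈ (ZMod p) ∙ z
  · have hWL : W = (ZMod p) ∙ z := by
      refine le_antisymm hB ((Submodule.span_singleton_le_iff_mem _ _).2 ?_)
      obtain ⟨w, hw, hw0⟩ := (Submodule.ne_bot_iff _).1 hbot
      obtain ⟨c, rfl⟩ := Submodule.mem_span_singleton.1 (hB w hw)
      exact (W.smul_mem_iff fun e0 => hw0 (by rw [e0, zero_smul])).1 hw
    exact h.no_line hτ li τe τt τz (hWL ▸ hW)
  · push Not at hB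
    obtain ⟨w, hw, hwz⟩ := hB
    obtain ⟨b, c, rfl⟩ := hA w hw
    have hb : b ≠ 0 := fun e0 => hwz (by
      rw [e0, zero_smul, zero_add]; exact Submodule.smul_mem _ _ (Submodule.mem_span_singleton_self z))
    have h1 := hNW _ hw
    have e1 : b • t + c • z = (0 : ZMod p) • e + b • t + c • z := by module
    rw [e1, step, zero_smul, zero_add] at h1
    have hzW : z ∈ W := (W.smul_mem_iff hb).1 h1
    have htW : t ∈ W := by
      have := W.sub_mem hw (W.smul_mem c hzW)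
      rw [add_sub_cancel_right] at this
      exact (W.smul_mem_iff hb).1 this
    have hWP : W = Submodule.span (ZMod p) {t, z} := by
      refine le_antisymm (fun x hx => ?_) (Submodule.span_le.2 ?_)
      · obtain ⟨b', c', rfl⟩ := hA x hx
        exact Submodule.mem_span_pair.2 ⟨b', c', rfl⟩
      · rintro _ (rfl | rfl)
        exacts [htW, hzW]
    exact h.no_plane hτ li τe τt τz (hWP ▸ hW)

end Cfsg.Agent.RankThreeEss
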